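import Mathlib.Algebra.Module.FinitePresentation
import Mathlib.LinearAlgebra.TensorProduct.RightExactness
import Mathlib.LinearAlgebra.Finsupp.LinearCombination

/-!
An element of `M ⊗ Q` killed by `f ⊗ Q` already comes from an element killed by `f ⊗ Q'` for a
finitely presented `Q'` mapping to `Q`.
-/

universe u

namespace Groth.L02

open TensorProduct

variable {R : Type u} [CommRing R] {M N Q : Type u}
  [AddCommGroup M] [Module R M] [AddCommGroup N] [Module R N] [AddCommGroup Q] [Module R Q]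

/-- Every element of a tensor product with a free module comes from finitely many coordinates. -/
theorem exists_finset_rTensor (M : Type u) [AddCommGroup M] [Module R M] (ι : Type u)
    (x : M ⊗[R] (ι →₀ R)) :
    ∃ s : Finset ι, ∀ t : Finset ι, s ⊆ t → x ∈ LinearMap.range
      ((Finsupp.supported R R (t : Set ι)).subtype.lTensor M) := by
  classical
  induction x using TensorProduct.induction_on with
  | zero => exact ⟨∅, fun t _ => zero_mem _⟩
  | tmul m v =>
    exact ⟨v.support, fun t ht => ⟨m ⊗ₜ ⟨v, fun a ha => ht ha⟩, rfl⟩⟩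
  | add a b ha hb =>
    obtain ⟨s, hs⟩ := ha
    obtain ⟨s', hs'⟩ := hb
    exact ⟨s ∪ s', fun t ht => add_mem (hs t (Finset.union_subset_left ht))
      (hs' t (Finset.union_subset_right ht))⟩

theorem exists_fg_rTensor {K : Type u} [AddCommGroup K] [Module R K] (z : N ⊗[R] K) :
    ∃ K0 : Submodule R K, K0.FG ∧ z ∈ LinearMap.range (K0.subtype.lTensor N) := by
  induction z using TensorProduct.induction_on with
  | zero => exact ⟨⊥, Submodule.fg_bot, zero_mem _⟩
  | tmul n k =>
    exact ⟨Submodule.span R {k}, Submodule.fg_span_singleton k,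
      n ⊗ₜ ⟨k, Submodule.mem_span_singleton_self k⟩, rfl⟩
  | add a b ha hb =>
    obtain ⟨A, hA, a', rfl⟩ := ha
    obtain ⟨B, hB, b', rfl⟩ := hb
    refine ⟨A ⊔ B, hA.sup hB, (Submodule.inclusion le_sup_left).lTensor N a' +
      (Submodule.inclusion le_sup_right).lTensor N b', ?_⟩
    simp only [map_add, ← LinearMap.comp_apply, ← LinearMap.lTensor_comp,
      Submodule.subtype_comp_inclusion]

theorem core {L F : Type u} [AddCommGroup L] [Module R L] [AddCommGroup F] [Module R F]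
    [Module.FinitePresentation R F] (f : M →ₗ[R] N) (π : L →ₗ[R] Q) (K0 : Submodule R L)
    (hK0 : K0.FG) (hK0π : K0 ≤ LinearMap.ker π) (ι : F →ₗ[R] L) (ρ : L →ₗ[R] F)
    (hρ : ρ.comp ι = LinearMap.id) (hfix : ∀ k ∈ K0, ι (ρ k) = k)
    (x0 : M ⊗[R] F) (z : N ⊗[R] K0) (hz : K0.subtype.lTensor N z = f.rTensor L (ι.lTensor M x0)) :
    ∃ (Q' : Type u) (_ : AddCommGroup Q') (_ : Module R Q') (_ : Module.FinitePresentation R Q')
      (h : Q' →ₗ[R] Q) (x' : M ⊗[R] Q'),
      h.lTensor M x' = π.lTensor M (ι.lTensor M x0) ∧ f.rTensor Q' x' = 0 := by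
  let K1 : Submodule R F := K0.map ρ
  have hle : K1 ≤ LinearMap.ker (π.comp ι) := by
    rintro _ ⟨k, hk, rfl⟩
    rw [LinearMap.mem_ker, LinearMap.comp_apply, hfix k hk]
    exact hK0π hk
  have hfp : Module.FinitePresentation R (F ⧸ K1) :=
    Module.finitePresentation_of_surjective K1.mkQ K1.mkQ_surjective
      (by rw [Submodule.ker_mkQ]; exact hK0.map ρ)
  refine ⟨F ⧸ K1, inferInstance, inferInstance, hfp, K1.liftQ (π.comp ι) hle,
    K1.mkQ.lTensor M x0, ?_, ?_⟩
  · rw [← LinearMap.comp_apply, ← LinearMap.lTensor_comp, Submodule.liftQ_mkQ,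
      LinearMap.lTensor_comp, LinearMap.comp_apply]
  · have hfx0 : f.rTensor F x0 = ρ.lTensor N (f.rTensor L (ι.lTensor M x0)) := by
      rw [← LinearMap.comp_apply (f.rTensor _), LinearMap.rTensor_comp_lTensor,
        ← LinearMap.lTensor_comp_rTensor, LinearMap.comp_apply, ← LinearMap.comp_apply (ρ.lTensor N),
        ← LinearMap.lTensor_comp, hρ, LinearMap.lTensor_id, LinearMap.id_apply]
    rw [← LinearMap.comp_apply, LinearMap.rTensor_comp_lTensor, ← LinearMap.lTensor_comp_rTensor,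
      LinearMap.comp_apply, hfx0, ← hz, ← LinearMap.comp_apply, ← LinearMap.lTensor_comp,
      ← LinearMap.comp_apply, ← LinearMap.lTensor_comp]
    have h0 : (K1.mkQ.comp ρ).comp K0.subtype = 0 := by
      apply LinearMap.ext
      intro k
      exact (Submodule.Quotient.mk_eq_zero K1).mpr ⟨k, k.2, rfl⟩
    rw [h0, LinearMap.lTensor_zero, LinearMap.zero_apply]

theorem exists_fg_ker {L : Type u} [AddCommGroup L] [Module R L] (f : M →ₗ[R] N)
    (π : L →ₗ[R] Q) (hπ : Function.Surjective π) (xt : M ⊗[R] L)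
    (hx : f.rTensor Q (π.lTensor M xt) = 0) :
    ∃ K0 : Submodule R L, K0.FG ∧ K0 ≤ LinearMap.ker π ∧
      ∃ z : N ⊗[R] K0, K0.subtype.lTensor N z = f.rTensor L xt := by
  have hexN : Function.Exact ((LinearMap.ker π).subtype.lTensor N) (π.lTensor N) :=
    lTensor_exact N (LinearMap.exact_subtype_ker_map π) hπ
  have hz0 : π.lTensor N (f.rTensor L xt) = 0 := by
    rw [← LinearMap.comp_apply, LinearMap.lTensor_comp_rTensor, ← LinearMap.rTensor_comp_lTensor,
      LinearMap.comp_apply, hx]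
  obtain ⟨z, hz⟩ := (hexN _).mp hz0
  obtain ⟨K0', hK0fg, z', hz'⟩ := exists_fg_rTensor z
  let j : K0' →ₗ[R] (K0'.map (LinearMap.ker π).subtype) :=
    (LinearMap.ker π).subtype.restrict (fun k hk => ⟨k, hk, rfl⟩)
  have hj : (K0'.map (LinearMap.ker π).subtype).subtype.comp j =
      (LinearMap.ker π).subtype.comp K0'.subtype := LinearMap.ext fun _ => rfl
  refine ⟨_, hK0fg.map (LinearMap.ker π).subtype, by rintro _ ⟨k, _, rfl⟩; exact k.2,
    j.lTensor N z', ?_⟩
  rw [← LinearMap.comp_apply, ← LinearMap.lTensor_comp, hj, LinearMap.lTensor_comp,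
    LinearMap.comp_apply, hz', hz]

theorem main_generic {L : Type u} [AddCommGroup L] [Module R L] (f : M →ₗ[R] N)
    (π : L →ₗ[R] Q) (hπ : Function.Surjective π)
    (hL : ∀ (K0 : Submodule R L), K0.FG → ∀ x : M ⊗[R] L,
      ∃ (k : ℕ) (ι : (Fin k → R) →ₗ[R] L) (ρ : L →ₗ[R] (Fin k → R)),
        ρ.comp ι = LinearMap.id ∧ (∀ a ∈ K0, ι (ρ a) = a) ∧ x ∈ LinearMap.range (ι.lTensor M))
    (x : M ⊗[R] Q) (hx : f.rTensor Q x = 0) :
    ∃ (Q' : Type u) (_ : AddCommGroup Q') (_ : Module R Q') (_ : Module.FinitePresentation R Q')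
      (h : Q' →ₗ[R] Q) (x' : M ⊗[R] Q'), h.lTensor M x' = x ∧ f.rTensor Q' x' = 0 := by
  obtain ⟨xt, hxt⟩ := LinearMap.lTensor_surjective M hπ x
  obtain ⟨K0, hK0, hK0π, z, hz⟩ := exists_fg_ker f π hπ xt (by rw [hxt, hx])
  obtain ⟨k, ι, ρ, hρ, hfix, x0, rfl⟩ := hL K0 hK0 xt
  have : Module.FinitePresentation R (Fin k → R) := Module.finitePresentation_of_projective R _
  have hcore := core f π K0 hK0 hK0π ι ρ hρ hfix x0 z hz
  rwa [hxt] at hcore

theorem exists_coords {M : Type u} [AddCommGroup M] [Module R M] (α : Type u)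
    (K0 : Submodule R (α →₀ R)) (hK0 : K0.FG) (x : M ⊗[R] (α →₀ R)) :
    ∃ (k : ℕ) (ι : (Fin k → R) →ₗ[R] (α →₀ R)) (ρ : (α →₀ R) →ₗ[R] (Fin k → R)),
      ρ.comp ι = LinearMap.id ∧ (∀ a ∈ K0, ι (ρ a) = a) ∧ x ∈ LinearMap.range (ι.lTensor M) := by
  classical
  obtain ⟨G, hG⟩ := hK0
  obtain ⟨s₁, hs₁⟩ := exists_finset_rTensor M α x
  let s : Finset α := s₁ ∪ G.biUnion (fun k => k.support)
  let ι : (Fin s.card → R) →ₗ[R] (α →₀ R) :=
    Fintype.linearCombination R (fun i => Finsupp.single ((s.equivFin.symm i : s) : α) (1 : R))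
  let ρ : (α →₀ R) →ₗ[R] (Fin s.card → R) :=
    LinearMap.pi fun i => Finsupp.lapply ((s.equivFin.symm i : s) : α)
  have hfix : ∀ a : α →₀ R, a.support ⊆ s → ι (ρ a) = a := by
    intro a ha
    simp only [ι, ρ, Fintype.linearCombination_apply, LinearMap.pi_apply, Finsupp.lapply_apply,
      Finsupp.smul_single, smul_eq_mul, mul_one]
    rw [Fintype.sum_equiv s.equivFin.symm (fun i => Finsupp.single _ (a _))
      (fun j : s => Finsupp.single (j : α) (a j)) (fun i => rfl),
      Finset.sum_coe_sort s (fun j => Finsupp.single j (a j))]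
    conv_rhs => rw [← Finsupp.sum_single a]
    rw [Finsupp.sum_of_support_subset a ha _ (fun _ _ => Finsupp.single_zero _)]
  refine ⟨s.card, ι, ρ, ?_, fun a ha => hfix a ?_, ?_⟩
  · ext i j
    simp [ι, ρ, Fintype.linearCombination_apply, Finsupp.single_apply, Pi.single_apply, eq_comm,
      Subtype.coe_inj]
  · have : K0 ≤ Finsupp.supported R R (s : Set α) := by
      rw [← hG, Submodule.span_le]
      intro k hk b hb
      exact Finset.mem_union_right _ (Finset.mem_biUnion.mpr ⟨k, hk, hb⟩)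
    exact Finset.coe_subset.mp (this ha)
  · obtain ⟨x0, rfl⟩ := hs₁ s Finset.subset_union_left
    refine ⟨(ρ.comp (Finsupp.supported R R (s : Set α)).subtype).lTensor M x0, ?_⟩
    rw [← LinearMap.comp_apply, ← LinearMap.lTensor_comp]
    congr 1
    congr 1
    apply LinearMap.ext
    intro a
    exact hfix a (Finset.coe_subset.mp a.2)

theorem exists_fp_preimage_of_rTensor_eq_zero (f : M →ₗ[R] N) (x : M ⊗[R] Q)
    (hx : f.rTensor Q x = 0) :
    ∃ (Q' : Type u) (_ : AddCommGroup Q') (_ : Module R Q') (_ : Module.FinitePresentation R Q')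
      (h : Q' →ₗ[R] Q) (x' : M ⊗[R] Q'), h.lTensor M x' = x ∧ f.rTensor Q' x' = 0 :=
  main_generic f (Finsupp.linearCombination R (id : Q → Q))
    (fun q => ⟨Finsupp.single q 1, by simp⟩) (exists_coords Q) x hx

end Groth.L02
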