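import Groth.Prelude.Def_CAlgX
import Groth.Agent.L02.TensorLimit
import Mathlib.LinearAlgebra.TensorProduct.Pi

/-! Universally injective maps: reduction to finitely presented modules, the equational criterion,
splitting over finitely presented quotients. -/

universe u

namespace Groth.L02

open TensorProduct

variable {R : Type u} [CommRing R] {M N : Type u}
  [AddCommGroup M] [Module R M] [AddCommGroup N] [Module R N]

theorem universallyInjective_of_finitePresentation (f : M →ₗ[R] N)
    (h : ∀ (Q : Type u) [AddCommGroup Q] [Module R Q], Module.FinitePresentation R Q →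
      Function.Injective (f.rTensor Q)) : CAlgX.UniversallyInjective R f := by
  intro Q _ _
  rw [injective_iff_map_eq_zero]
  intro x hx
  obtain ⟨Q', _, _, hQ', g, x', rfl, hx'⟩ := exists_fp_preimage_of_rTensor_eq_zero f x hx
  rw [h Q' hQ' (a₁ := x') (a₂ := 0) (by rw [hx', map_zero]), map_zero]

/-- Elements of `P ⊗ Rⁿ` as `n`-tuples, on the kernel of a map out of a finite free module. -/
theorem exists_coeff_of_sum_tmul_eq_zero {P : Type u} [AddCommGroup P] [Module R P] {n m : ℕ}
    (a : Fin n → Fin m → R) (x : Fin n → P)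
    (hx : ∑ i, x i ⊗ₜ[R] (Submodule.Quotient.mk (Pi.single i 1) :
      (Fin n → R) ⧸ Submodule.span R (Set.range fun j : Fin m => fun i => a i j)) = 0) :
    ∃ z : Fin m → P, ∀ i, x i = ∑ j, a i j • z j := by
  classical
  let c : (Fin m → R) →ₗ[R] (Fin n → R) := Fintype.linearCombination R (fun j => fun i => a i j)
  have hc : LinearMap.range c = Submodule.span R (Set.range fun j : Fin m => fun i => a i j) :=
    Fintype.range_linearCombination _ _
  have hex : Function.Exact c (Submodule.span R (Set.range fun j : Fin m => fun i => a i j)).mkQ := by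
    rw [LinearMap.exact_iff, Submodule.ker_mkQ, hc]
  have hex' := lTensor_exact P hex (Submodule.mkQ_surjective _)
  obtain ⟨w, hw⟩ := (hex' (∑ i, x i ⊗ₜ[R] (Pi.single i 1 : Fin n → R))).mp (by
    simpa [map_sum] using hx)
  refine ⟨fun j => piScalarRight R R P (Fin m) w j, fun i => ?_⟩
  have key : ∀ w : P ⊗[R] (Fin m → R), piScalarRight R R P (Fin n) (c.lTensor P w) i =
      ∑ j, a i j • piScalarRight R R P (Fin m) w j := by
    intro w
    induction w using TensorProduct.induction_on with
    | zero => simp
    | tmul p v =>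
      simp [c, Fintype.linearCombination_apply, Finset.sum_apply, Finset.sum_smul, smul_smul,
        mul_comm]
    | add u v hu hv => simp only [map_add, Pi.add_apply, hu, hv, Finset.sum_add_distrib, smul_add]
  rw [← key, hw]
  simp [map_sum, Finset.sum_apply, Pi.single_apply, Finset.sum_ite_eq]

theorem exists_coeff_of_universallyInjective (f : M →ₗ[R] N) (hf : CAlgX.UniversallyInjective R f)
    {n m : ℕ} (x : Fin n → M) (y : Fin m → N) (a : Fin n → Fin m → R)
    (h : ∀ i, f (x i) = ∑ j, a i j • y j) : ∃ z : Fin m → M, ∀ i, x i = ∑ j, a i j • z j := by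
  classical
  refine exists_coeff_of_sum_tmul_eq_zero a x (hf _ ?_)
  set S := Submodule.span R (Set.range fun j : Fin m => fun i => a i j)
  rw [map_zero, map_sum]
  simp only [LinearMap.rTensor_tmul, h, TensorProduct.sum_tmul, TensorProduct.smul_tmul]
  rw [Finset.sum_comm]
  refine Finset.sum_eq_zero fun j _ => ?_
  rw [← TensorProduct.tmul_sum]
  have hcol : ∑ i, a i j • (Submodule.Quotient.mk (Pi.single i 1) : (Fin n → R) ⧸ S) = 0 := by
    have h1 : ∑ i, a i j • (Submodule.Quotient.mk (Pi.single i 1) : (Fin n → R) ⧸ S) =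
        S.mkQ (∑ i, a i j • Pi.single i 1) := by simp [map_sum]
    rw [h1, Submodule.mkQ_apply, Submodule.Quotient.mk_eq_zero]
    refine Submodule.subset_span ⟨j, ?_⟩
    funext k
    simp [Finset.sum_apply, Pi.single_apply]
  rw [hcol, TensorProduct.tmul_zero]

theorem universallyInjective_of_coeff (f : M →ₗ[R] N)
    (h : ∀ (n m : ℕ) (x : Fin n → M) (y : Fin m → N) (a : Fin n → Fin m → R),
      (∀ i, f (x i) = ∑ j, a i j • y j) → ∃ z : Fin m → M, ∀ i, x i = ∑ j, a i j • z j) :
    CAlgX.UniversallyInjective R f := by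
  classical
  refine universallyInjective_of_finitePresentation f fun Q _ _ hQ => ?_
  obtain ⟨n, K, e, hK⟩ := Module.FinitePresentation.exists_fin R Q
  obtain ⟨m, c, hc⟩ := Submodule.fg_iff_exists_fin_generating_family.mp hK
  let a : Fin n → Fin m → R := fun i j => c j i
  have hS : Submodule.span R (Set.range fun j : Fin m => fun i => a i j) = K := hc
  let q : (Fin n → R) →ₗ[R] Q := e.symm.toLinearMap.comp K.mkQ
  have hq : Function.Surjective q := e.symm.surjective.comp K.mkQ_surjective
  have hex : Function.Exact K.subtype q := by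
    rw [LinearMap.exact_iff, LinearMap.ker_comp, LinearEquiv.ker, Submodule.comap_bot,
      Submodule.ker_mkQ, Submodule.range_subtype]
  rw [injective_iff_map_eq_zero]
  intro x hx
  obtain ⟨w, rfl⟩ := LinearMap.lTensor_surjective M hq x
  let xs := piScalarRight R R M (Fin n) w
  have hw : w = ∑ i, xs i ⊗ₜ[R] (Pi.single i 1 : Fin n → R) := by
    apply (piScalarRight R R M (Fin n)).injective
    funext k
    simp [xs, map_sum, Finset.sum_apply, Pi.single_apply, Finset.sum_ite_eq]
  have hqc : ∀ j, q (c j) = 0 := fun j =>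
    (hex _).mpr ⟨⟨c j, hc ▸ Submodule.subset_span ⟨j, rfl⟩⟩, rfl⟩
  have hf0 : ∑ i, f (xs i) ⊗ₜ[R] (Submodule.Quotient.mk (Pi.single i 1) :
      (Fin n → R) ⧸ Submodule.span R (Set.range fun j : Fin m => fun i => a i j)) = 0 := by
    let e' := (Submodule.quotEquivOfEq _ _ hS).trans e.symm
    apply (e'.lTensor N).injective
    rw [map_zero, ← hx, hw]
    simp [map_sum, e', q]
  obtain ⟨y, hy⟩ := exists_coeff_of_sum_tmul_eq_zero a (fun i => f (xs i)) hf0
  obtain ⟨z, hz⟩ := h n m xs y a hy
  rw [hw, map_sum]
  simp only [LinearMap.lTensor_tmul, hz, TensorProduct.sum_tmul, TensorProduct.smul_tmul,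
    map_sum, map_smul]
  rw [Finset.sum_comm]
  refine Finset.sum_eq_zero fun j _ => ?_
  rw [← TensorProduct.tmul_sum]
  have : ∑ i, a i j • q (Pi.single i 1) = q (c j) := by
    simp only [← map_smul, ← map_sum]
    congr 1
    funext k
    simp [a, Finset.sum_apply, Pi.single_apply]
  rw [this, hqc, TensorProduct.tmul_zero]

theorem exists_section_of_universallyInjective {M₃ : Type u} [AddCommGroup M₃] [Module R M₃]
    [Module.FinitePresentation R M₃] (f : M →ₗ[R] N) (g : N →ₗ[R] M₃) (hexact : Function.Exact f g)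
    (hg : Function.Surjective g) (hf : CAlgX.UniversallyInjective R f) :
    ∃ s : M₃ →ₗ[R] N, g.comp s = LinearMap.id := by
  classical
  obtain ⟨n, K, e, hK⟩ := Module.FinitePresentation.exists_fin R M₃
  obtain ⟨m, c, hc⟩ := Submodule.fg_iff_exists_fin_generating_family.mp hK
  choose y hy using fun i : Fin n => hg (e.symm (K.mkQ (Pi.single i 1)))
  let σ : (Fin n → R) →ₗ[R] N := Fintype.linearCombination R y
  have hσ : g.comp σ = e.symm.toLinearMap.comp K.mkQ := by
    refine (Pi.basisFun R (Fin n)).ext fun i => ?_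
    simp [σ, Fintype.linearCombination_apply, hy, Pi.single_apply]
  have hker : ∀ j, g (σ (c j)) = 0 := fun j => by
    have := LinearMap.congr_fun hσ (c j)
    simp only [LinearMap.comp_apply] at this
    rw [this, Submodule.mkQ_apply, (Submodule.Quotient.mk_eq_zero K).mpr
      (hc ▸ Submodule.subset_span ⟨j, rfl⟩), map_zero]
  choose x hx using fun j => (hexact _).mp (hker j)
  obtain ⟨z, hz⟩ := exists_coeff_of_universallyInjective f hf x y (fun j i => c j i) (fun j => by
    rw [hx]; simp [σ, Fintype.linearCombination_apply])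
  let τ : (Fin n → R) →ₗ[R] N := σ - f.comp (Fintype.linearCombination R z)
  have hτ : K ≤ LinearMap.ker τ := by
    rw [← hc, Submodule.span_le]
    rintro _ ⟨j, rfl⟩
    have : Fintype.linearCombination R z (c j) = x j := by
      rw [hz j, Fintype.linearCombination_apply]
    simp [τ, this, hx]
  refine ⟨(K.liftQ τ hτ).comp e.toLinearMap, LinearMap.ext fun w => ?_⟩
  obtain ⟨v, hv⟩ := K.mkQ_surjective (e w)
  have := LinearMap.congr_fun hσ v
  simp only [LinearMap.comp_apply] at this
  simp only [LinearMap.comp_apply, LinearEquiv.coe_coe, ← hv, Submodule.mkQ_apply,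
    Submodule.liftQ_apply, τ, LinearMap.sub_apply, map_sub, hexact.apply_apply_eq_zero, sub_zero,
    LinearMap.id_apply]
  rw [this, hv]
  exact e.symm_apply_apply w

end Groth.L02
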