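import Groth.Agent.L02.Pi
import Groth.Agent.L02.UnivInj
import Mathlib.RingTheory.Flat.EquationalCriterion
import Mathlib.RingTheory.LocalRing.Module

/-! Flatness and universally exact sequences; coherent modules. -/

universe u

namespace Groth.L02

open TensorProduct

variable {R : Type u} [CommRing R] {M₁ M₂ M₃ : Type u}
  [AddCommGroup M₁] [Module R M₁] [AddCommGroup M₂] [Module R M₂] [AddCommGroup M₃] [Module R M₃]

theorem universallyInjective_of_flat_coker (f : M₁ →ₗ[R] M₂) (g : M₂ →ₗ[R] M₃)
    (hf : Function.Injective f) (hexact : Function.Exact f g) (hg : Function.Surjective g)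
    [Module.Flat R M₃] : CAlgX.UniversallyInjective R f := by
  classical
  refine universallyInjective_of_coeff f fun n m x y a h => ?_
  let A : (Fin n → R) →ₗ[R] (Fin m → R) := Fintype.linearCombination R a
  let Y : (Fin m → R) →ₗ[R] M₃ := Fintype.linearCombination R (fun j => g (y j))
  have hYA : Y.comp A = 0 := by
    refine (Pi.basisFun R (Fin n)).ext fun i => ?_
    have h1 : A (Pi.single i 1) = a i := by simp [A, Fintype.linearCombination_apply_single]
    rw [Pi.basisFun_apply, LinearMap.comp_apply, h1, LinearMap.zero_apply,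
      ← hexact.apply_apply_eq_zero (x i), h i]
    simp [Y, Fintype.linearCombination_apply]
  obtain ⟨k, b, w, hYw, hbA⟩ := Module.Flat.exists_factorization_of_comp_eq_zero_of_free hYA
  obtain ⟨u, hu⟩ := Module.projective_lifting_property g w hg
  let d : (Fin m → R) →ₗ[R] M₂ := Fintype.linearCombination R y - u.comp b
  have hd : ∀ j, g (d (Pi.single j 1)) = 0 := by
    intro j
    have h1 := LinearMap.congr_fun hYw (Pi.single j 1)
    have h2 := LinearMap.congr_fun hu (b (Pi.single j 1))
    simp only [LinearMap.comp_apply, Y, Fintype.linearCombination_apply_single, one_smul] at h1 h2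
    simp [d, map_sub, Fintype.linearCombination_apply_single, h1, h2]
  choose z hz using fun j => (hexact _).mp (hd j)
  refine ⟨z, fun i => hf ?_⟩
  rw [map_sum]
  simp only [map_smul, hz]
  have hAi : ∑ j, a i j • (Pi.single j 1 : Fin m → R) = a i := by
    funext l
    simp [Finset.sum_apply, Pi.single_apply]
  have h0 : b (a i) = 0 := by
    have := LinearMap.congr_fun hbA (Pi.single i 1)
    simpa [A, Fintype.linearCombination_apply_single] using this
  have hsum : ∑ j, a i j • d (Pi.single j 1) = d (a i) := by
    conv_rhs => rw [← hAi]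
    simp [map_sum]
  rw [hsum]
  simp [d, h0, Fintype.linearCombination_apply, h]

theorem flat_of_universallyInjective (f : M₁ →ₗ[R] M₂) (hf : CAlgX.UniversallyInjective R f)
    [Module.Flat R M₂] : Module.Flat R M₁ := by
  rw [Module.Flat.iff_lTensor_preserves_injective_linearMap]
  intro N P _ _ _ _ φ hφ
  have h1 : Function.Injective ((f.rTensor P).comp (φ.lTensor M₁)) := by
    rw [LinearMap.rTensor_comp_lTensor, ← LinearMap.lTensor_comp_rTensor, LinearMap.coe_comp]
    exact (Module.Flat.lTensor_preserves_injective_linearMap φ hφ).comp (hf N)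
  rw [LinearMap.coe_comp] at h1
  exact h1.of_comp

theorem flat_of_exact_of_rTensor_quotient (f : M₁ →ₗ[R] M₂) (g : M₂ →ₗ[R] M₃)
    (hexact : Function.Exact f g) (hg : Function.Surjective g) [Module.Flat R M₂]
    (hf : ∀ I : Ideal R, I.FG → Function.Injective (f.rTensor (R ⧸ I))) : Module.Flat R M₃ := by
  rw [Module.Flat.iff_lTensor_injective]
  intro I hI
  exact lTensor_injective_of_exact_of_exact_of_rTensor_injective hexact hg
    (LinearMap.exact_subtype_mkQ I) I.mkQ_surjective (hf I hI)
    (Module.Flat.lTensor_preserves_injective_linearMap _ I.subtype_injective)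

/-- Coherent modules. -/
def IsCoh (R : Type u) [CommRing R] (M : Type u) [AddCommGroup M] [Module R M] : Prop :=
  Module.Finite R M ∧ ∀ N : Submodule R M, N.FG → Module.FinitePresentation R N

theorem isCoh_of_shortExact (f : M₁ →ₗ[R] M₂) (g : M₂ →ₗ[R] M₃) (hf : Function.Injective f)
    (hg : Function.Surjective g) (hfg : LinearMap.range f = LinearMap.ker g)
    (h₁ : IsCoh R M₁) (h₃ : IsCoh R M₃) : IsCoh R M₂ := by
  constructor
  · have := h₁.1
    have := h₃.1
    exact Module.Finite.of_exact (LinearMap.exact_iff.mpr hfg.symm) hg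
  intro N hN
  let gN : N →ₗ[R] N.map g := g.restrict fun x hx => ⟨x, hx, rfl⟩
  have hgN : Function.Surjective gN := by
    rintro ⟨_, x, hx, rfl⟩
    exact ⟨⟨x, hx⟩, rfl⟩
  have : Module.FinitePresentation R (N.map g) := h₃.2 _ (hN.map g)
  have : Module.Finite R N := Module.Finite.iff_fg.mpr hN
  have hK : (LinearMap.ker gN).FG := Module.FinitePresentation.fg_ker gN hgN
  let K' : Submodule R M₁ := ((LinearMap.ker gN).map N.subtype).comap f
  have hle : (LinearMap.ker gN).map N.subtype ≤ LinearMap.range f := by
    rintro _ ⟨x, hx, rfl⟩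
    rw [hfg]
    exact congrArg Subtype.val hx
  have hK'map : K'.map f = (LinearMap.ker gN).map N.subtype := Submodule.map_comap_eq_of_le hle
  have hK'fg : K'.FG := Submodule.fg_of_fg_map_injective f hf (hK'map ▸ hK.map N.subtype)
  have : Module.FinitePresentation R K' := h₁.2 _ hK'fg
  have e : K' ≃ₗ[R] LinearMap.ker gN :=
    (Submodule.equivMapOfInjective f hf K').trans ((LinearEquiv.ofEq _ _ hK'map).trans
      (Submodule.equivMapOfInjective N.subtype N.subtype_injective _).symm)
  have : Module.FinitePresentation R (LinearMap.ker gN) := Module.FinitePresentation.of_equiv e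
  exact Module.finitePresentation_of_ker gN hgN

theorem isCoh_pi_fin (hR : ∀ I : Ideal R, I.FG → Module.FinitePresentation R I) (n : ℕ) :
    IsCoh R (Fin n → R) := by
  induction n with
  | zero => exact ⟨inferInstance, fun N _ => inferInstance⟩
  | succ n ih =>
    refine isCoh_of_shortExact (LinearMap.pi (Fin.cons 0 (fun i => LinearMap.proj i)) :
      (Fin n → R) →ₗ[R] (Fin (n + 1) → R)) (LinearMap.proj 0) ?_ ?_ ?_ ih
      ⟨inferInstance, fun N hN => hR N hN⟩
    · intro x y h
      funext i
      simpa using congrFun h i.succ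
    · exact fun r => ⟨fun _ => r, rfl⟩
    · ext v
      simp only [LinearMap.mem_range, LinearMap.mem_ker, LinearMap.proj_apply]
      refine ⟨fun ⟨w, hw⟩ => by simp [← hw], fun h => ⟨fun i => v i.succ, funext (Fin.cases ?_ ?_)⟩⟩
      · simpa using h.symm
      · intro i; simp

end Groth.L02
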