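import Groth.Agent.L02.Dominate

/-! One step in the construction of a tower for a countably generated Mittag-Leffler module. -/

universe u

namespace Groth.L02

open TensorProduct

theorem ml_step {R : Type u} [CommRing R] {M X : Type u} [AddCommGroup M] [Module R M]
    [AddCommGroup X] [Module R X] [Module.FinitePresentation R X]
    (hML : CAlg.IsMittagLeffler R M) (h : X →ₗ[R] M) (m : M) :
    ∃ (n : ℕ) (K : Submodule R (Fin n → R)) (_ : K.FG) (k : ((Fin n → R) ⧸ K) →ₗ[R] M)
      (v : X →ₗ[R] ((Fin n → R) ⧸ K)), k.comp v = h ∧ m ∈ LinearMap.range k ∧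
      ∀ (Q : Type u) [AddCommGroup Q] [Module R Q],
        LinearMap.ker (h.rTensor Q) ≤ LinearMap.ker (v.rTensor Q) := by
  obtain ⟨P', _, _, hP', f', k, hfac, hker⟩ :=
    exists_dominating_factor (h.coprod (LinearMap.toSpanSingleton R M m)) hML
  obtain ⟨n', K', e', hK'⟩ := Module.FinitePresentation.exists_fin R P'
  refine ⟨n', K', hK', k.comp e'.symm.toLinearMap,
    e'.toLinearMap.comp (f'.comp (LinearMap.inl R _ R)), ?_, ⟨e' (f' (0, 1)), ?_⟩, ?_⟩
  · refine LinearMap.ext fun x => ?_
    have h1 := LinearMap.congr_fun hfac (x, 0)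
    simp at h1
    simp [h1]
  · have h1 := LinearMap.congr_fun hfac (0, 1)
    simp at h1
    simp [← h1]
  · intro Q _ _ x hx
    rw [LinearMap.mem_ker] at hx ⊢
    have h2 : (h.coprod (LinearMap.toSpanSingleton R M m)).rTensor Q
        ((LinearMap.inl R X R).rTensor Q x) = 0 := by
      rw [← LinearMap.comp_apply, ← LinearMap.rTensor_comp, LinearMap.coprod_inl, hx]
    rw [LinearMap.rTensor_comp, LinearMap.comp_apply, LinearMap.rTensor_comp, LinearMap.comp_apply,
      LinearMap.mem_ker.mp ((hker Q).le (LinearMap.mem_ker.mpr h2)), map_zero]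

end Groth.L02
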