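import Mathlib.RingTheory.Ideal.AssociatedPrime.Finiteness
import Mathlib.LinearAlgebra.TensorProduct.Finiteness
import Mathlib.RingTheory.Flat.Basic
import Mathlib.RingTheory.TensorProduct.Basic
import Mathlib.LinearAlgebra.TensorProduct.Quotient
import Mathlib.RingTheory.Ideal.Maps
import Mathlib.LinearAlgebra.Dimension.Free
import Mathlib.Algebra.Module.Torsion.Basic
import Mathlib.RingTheory.Nilpotent.Lemmas
import Mathlib.RingTheory.Ideal.AssociatedPrime.Localization
import Mathlib.LinearAlgebra.LinearIndependent.Lemmas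

/-!
Associated primes of `N ⊗ M` for `N` flat over the base.
-/

set_option autoImplicit false
universe u

open TensorProduct

namespace Groth.L02.AssFlat

variable {R S : Type u} [CommRing R] [IsNoetherianRing R] [CommRing S] [Algebra R S]
  (N : Type u) [AddCommGroup N] [Module S N] [Module R N] [IsScalarTower R S N] [Module.Flat R N]

variable (S) in
/-- `N ⊗ f`, linear over `S`. -/
noncomputable abbrev tmap {M M' : Type u} [AddCommGroup M] [Module R M] [AddCommGroup M'] [Module R M']
    (f : M →ₗ[R] M') : N ⊗[R] M →ₗ[S] N ⊗[R] M' :=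
  AlgebraTensorModule.map (LinearMap.id : N →ₗ[S] N) f

omit [IsNoetherianRing R] in
theorem tmap_injective {M M' : Type u} [AddCommGroup M] [Module R M] [AddCommGroup M'] [Module R M']
    {f : M →ₗ[R] M'} (hf : Function.Injective f) : Function.Injective (tmap S N f) :=
  Module.Flat.lTensor_preserves_injective_linearMap (M := N) f hf

omit [IsNoetherianRing R] in
theorem subset_of_injective {M M' : Type u} [AddCommGroup M] [Module R M] [AddCommGroup M'] [Module R M']
    {f : M →ₗ[R] M'} (hf : Function.Injective f) :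
    associatedPrimes S (N ⊗[R] M) ⊆ associatedPrimes S (N ⊗[R] M') :=
  associatedPrimes.subset_of_injective (tmap_injective N hf)

omit [IsNoetherianRing R] in
theorem subset_union {M : Type u} [AddCommGroup M] [Module R M] (K : Submodule R M) :
    associatedPrimes S (N ⊗[R] M) ⊆ associatedPrimes S (N ⊗[R] K) ∪ associatedPrimes S (N ⊗[R] (M ⧸ K)) := by
  refine associatedPrimes.subset_union_of_exact (f := tmap S N K.subtype) (g := tmap S N K.mkQ)
    (tmap_injective N K.injective_subtype) ?_
  exact Module.Flat.lTensor_exact N (LinearMap.exact_subtype_mkQ K)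

omit [IsNoetherianRing R] [Module.Flat R N] in
/-- `N ⊗ R/I = N/IN`. -/
theorem nonempty_quotEquiv (I : Ideal R) :
    Nonempty (N ⊗[R] (R ⧸ I) ≃ₗ[S] N ⧸ I.map (algebraMap R S) • (⊤ : Submodule S N)) := by
  let e₁ := tensorQuotEquivQuotSMul N I
  have h : (I.map (algebraMap R S) • (⊤ : Submodule S N)).restrictScalars R = I • (⊤ : Submodule R N) := by
    rw [Ideal.smul_restrictScalars, Submodule.restrictScalars_top]
  let e : N ⊗[R] (R ⧸ I) ≃+ N ⧸ I.map (algebraMap R S) • (⊤ : Submodule S N) :=
    e₁.toAddEquiv.trans ((Submodule.quotEquivOfEq _ _ h.symm).toAddEquiv.trans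
      (Submodule.Quotient.restrictScalarsEquiv R _).toAddEquiv)
  refine ⟨{ e with map_smul' := fun s z => ?_ }⟩
  show e (s • z) = s • e z
  induction z using TensorProduct.induction_on with
  | zero => simp
  | tmul x r =>
    obtain ⟨r, rfl⟩ := Ideal.Quotient.mk_surjective r
    show e ((s • x) ⊗ₜ Ideal.Quotient.mk I r) = s • e (x ⊗ₜ Ideal.Quotient.mk I r)
    have key : ∀ (y : N) (r : R), e (y ⊗ₜ Ideal.Quotient.mk I r) = Submodule.Quotient.mk (r • y) := by
      intro y r
      simp [e, e₁, tensorQuotEquivQuotSMul_tmul_mk]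
    rw [key, key, ← Submodule.Quotient.mk_smul, smul_comm]
  | add a b ha hb => rw [smul_add, map_add, ha, hb, map_add, smul_add]

omit [IsNoetherianRing R] in
theorem subset_pi (M : Type u) [AddCommGroup M] [Module R M] : ∀ r : ℕ,
    associatedPrimes S (N ⊗[R] (Fin r → M)) ⊆ associatedPrimes S (N ⊗[R] M) := by
  intro r
  induction r with
  | zero =>
    haveI : Subsingleton (N ⊗[R] (Fin 0 → M)) := ⟨fun a b => by
      have h0 : ∀ z : N ⊗[R] (Fin 0 → M), z = 0 := fun z => by
        induction z using TensorProduct.induction_on with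
        | zero => rfl
        | tmul x y => rw [Subsingleton.elim y 0, tmul_zero]
        | add a b ha hb => rw [ha, hb, add_zero]
      rw [h0 a, h0 b]⟩
    simp [associatedPrimes.eq_empty_of_subsingleton]
  | succ r ih =>
    let g : (Fin (r + 1) → M) →ₗ[R] M := LinearMap.proj 0
    refine (subset_union N (LinearMap.ker g)).trans (Set.union_subset ?_ ?_)
    · refine (subset_of_injective N (f := LinearMap.pi (fun i : Fin r => LinearMap.proj i.succ ∘ₗ (LinearMap.ker g).subtype))
        ?_).trans ih
      rintro ⟨a, ha⟩ ⟨b, hb⟩ hab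
      refine Subtype.ext (funext fun i => ?_)
      induction i using Fin.cases with
      | zero => exact (LinearMap.mem_ker.mp ha).trans (LinearMap.mem_ker.mp hb).symm
      | succ i => exact congrFun hab i
    · exact subset_of_injective N (f := (g.quotKerEquivOfSurjective fun x => ⟨fun _ => x, rfl⟩).toLinearMap)
        (LinearEquiv.injective _)

theorem exists_embedding_free {D K : Type u} [CommRing D] [IsDomain D] [AddCommGroup K] [Module D K]
    [Module.Finite D K] [Module.IsTorsionFree D K] :
    ∃ (r : ℕ) (ψ : K →ₗ[D] (Fin r → D)), Function.Injective ψ := by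
  classical
  obtain ⟨n, g, hg⟩ := Module.Finite.exists_fin (R := D) (M := K)
  obtain ⟨s, hs, hmax⟩ := exists_maximal_linearIndepOn D g
  have hall : ∀ i, ∃ a : D, a ≠ 0 ∧ a • g i ∈ Submodule.span D (g '' s) := by
    intro i
    by_cases hi : i ∈ s
    · exact ⟨1, one_ne_zero, by rw [one_smul]; exact Submodule.subset_span ⟨i, hi, rfl⟩⟩
    · exact hmax i hi
  choose a ha hmem using hall
  let b : Module.Basis s D (Submodule.span D (Set.range fun x : s => g x)) := Module.Basis.span hs
  have hA : ∏ i, a i ≠ 0 := Finset.prod_ne_zero_iff.mpr fun i _ => ha i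
  have hrange : ∀ x : K, (∏ i, a i) • x ∈ Submodule.span D (Set.range fun x : s => g x) := by
    intro x
    have h : ⊤ ≤ (Submodule.span D (Set.range fun x : s => g x)).comap ((∏ i, a i) • (LinearMap.id : K →ₗ[D] K)) := by
      rw [← hg, Submodule.span_le]
      rintro _ ⟨i, rfl⟩
      obtain ⟨c, hc⟩ := Finset.dvd_prod_of_mem a (Finset.mem_univ i)
      show (∏ i, a i) • g i ∈ Submodule.span D (Set.range fun x : s => g x)
      rw [hc, mul_comm, mul_smul, show Set.range (fun x : s => g x) = g '' s by ext; simp]
      exact Submodule.smul_mem _ c (hmem i)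
    exact h (Submodule.mem_top (x := x))
  refine ⟨Fintype.card s, (b.reindex (Fintype.equivFin s)).equivFun.toLinearMap ∘ₗ
    ((∏ i, a i) • (LinearMap.id : K →ₗ[D] K)).codRestrict _ hrange,
    fun x y hxy => ?_⟩
  have hxy := (b.reindex (Fintype.equivFin s)).equivFun.injective hxy
  exact (smul_right_injective K hA) (congrArg Subtype.val hxy)

theorem subset_of_coprimary (p : Ideal R) [p.IsPrime] : ∀ (n : ℕ) (M : Type u) [AddCommGroup M] [Module R M]
    [Module.Finite R M], (∀ a ∈ p ^ n, ∀ x : M, a • x = 0) → (∀ a ∉ p, ∀ x : M, a • x = 0 → x = 0) →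
    associatedPrimes S (N ⊗[R] M) ⊆ associatedPrimes S (N ⊗[R] (R ⧸ p)) := by
  intro n
  induction n with
  | zero =>
    intro M _ _ _ hn _
    haveI : Subsingleton M := ⟨fun a b => by
      rw [← one_smul R a, ← one_smul R b, hn 1 (by simp) a, hn 1 (by simp) b]⟩
    refine (subset_of_injective N (f := (0 : M →ₗ[R] (R ⧸ p))) (fun a b _ => Subsingleton.elim a b))
  | succ n ih =>
    intro M _ _ _ hn hreg
    let K : Submodule R M :=
      { carrier := {x | ∀ a ∈ p, a • x = 0}
        add_mem' := fun hx hy a ha => by rw [smul_add, hx a ha, hy a ha, add_zero]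
        zero_mem' := fun a _ => smul_zero a
        smul_mem' := fun c x hx a ha => by rw [smul_comm, hx a ha, smul_zero] }
    refine (subset_union N K).trans (Set.union_subset ?_ ?_)
    · have ht : Module.IsTorsionBySet R K (p : Set R) := fun x a => Subtype.ext (x.2 a.1 a.2)
      letI : Module (R ⧸ p) K := ht.module
      haveI : IsScalarTower R (R ⧸ p) K := ht.isScalarTower
      haveI : Module.Finite (R ⧸ p) K := Module.Finite.of_restrictScalars_finite R (R ⧸ p) K
      haveI : Module.IsTorsionFree (R ⧸ p) K := by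
        refine Module.IsTorsionFree.mk fun c hc => ?_
        obtain ⟨a, rfl⟩ := Ideal.Quotient.mk_surjective c
        have ha : a ∉ p := fun h => hc.ne_zero (Ideal.Quotient.eq_zero_iff_mem.mpr h)
        intro x y hxy
        have h1 : a • (x : M) = a • (y : M) := congrArg Subtype.val (show a • x = a • y from hxy)
        exact Subtype.ext (sub_eq_zero.mp (hreg a ha _ (by rw [smul_sub, h1, sub_self])))
      obtain ⟨r, ψ, hψ⟩ : ∃ (r : ℕ) (ψ : K →ₗ[R ⧸ p] (Fin r → R ⧸ p)), Function.Injective ψ :=
        exists_embedding_free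
      exact (subset_of_injective N (f := ψ.restrictScalars R) hψ).trans (subset_pi N _ r)
    · refine ih (M ⧸ K) ?_ ?_
      · intro a ha x
        obtain ⟨x, rfl⟩ := Submodule.mkQ_surjective K x
        rw [← map_smul, Submodule.mkQ_apply, Submodule.Quotient.mk_eq_zero]
        intro b hb
        rw [smul_smul]
        exact hn _ (by rw [pow_succ']; exact Ideal.mul_mem_mul hb ha) x
      · intro a ha x hx
        obtain ⟨x, rfl⟩ := Submodule.mkQ_surjective K x
        rw [← map_smul, Submodule.mkQ_apply, Submodule.Quotient.mk_eq_zero] at hx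
        rw [Submodule.mkQ_apply, Submodule.Quotient.mk_eq_zero]
        intro b hb
        refine hreg a ha _ ?_
        rw [smul_comm]
        exact hx b hb

theorem pow_smul_eq_zero {M : Type u} [AddCommGroup M] [Module R M] [Module.Finite R M] (p : Ideal R)
    (hM : associatedPrimes R M = {p}) :
    (∀ a ∉ p, ∀ x : M, a • x = 0 → x = 0) ∧ ∃ n : ℕ, ∀ a ∈ p ^ n, ∀ x : M, a • x = 0 := by
  have hreg : ∀ a ∉ p, ∀ x : M, a • x = 0 → x = 0 := by
    intro a ha x hx
    by_contra hne
    have h : a ∈ ⋃ q ∈ associatedPrimes R M, (q : Set R) := by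
      rw [biUnion_associatedPrimes_eq_zero_divisors R M]; exact ⟨x, hne, hx⟩
    rw [hM] at h
    simp only [Set.mem_singleton_iff, Set.iUnion_iUnion_eq_left, SetLike.mem_coe] at h
    exact ha h
  refine ⟨hreg, ?_⟩
  classical
  -- an element of `p` is nilpotent on `M`
  have hnil : ∀ a ∈ p, ∀ x : M, ∃ n : ℕ, a ^ n • x = 0 := by
    intro a ha x
    let I : Ideal R := LinearMap.ker (LinearMap.toSpanSingleton R M x)
    suffices h : a ∈ I.radical by
      obtain ⟨n, hn⟩ := h
      exact ⟨n, hn⟩
    rw [Ideal.radical_eq_sInf, Ideal.mem_sInf]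
    rintro q ⟨hIq, hqp⟩
    obtain ⟨q', hq', hle⟩ := Ideal.exists_minimalPrimes_le hIq
    refine hle ?_
    let f : (R ⧸ I) →ₗ[R] M := I.liftQ (LinearMap.toSpanSingleton R M x) le_rfl
    have hf : Function.Injective f := LinearMap.ker_eq_bot.mp (Submodule.ker_liftQ_eq_bot _ _ _ le_rfl)
    have h1 : q' ∈ associatedPrimes R (R ⧸ I) := by
      refine Module.associatedPrimes.minimalPrimes_annihilator_subset_associatedPrimes R (R ⧸ I) ?_
      rw [Ideal.annihilator_quotient]
      exact hq'
    have h2 := associatedPrimes.subset_of_injective hf h1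
    rw [hM, Set.mem_singleton_iff] at h2
    exact h2 ▸ ha
  obtain ⟨r, g, hg⟩ := Module.Finite.exists_fin (R := R) (M := M)
  have hall : ∀ a ∈ p, a ∈ (Module.annihilator R M).radical := by
    intro a ha
    choose n hn using fun i => hnil a ha (g i)
    refine ⟨∑ i, n i, Module.mem_annihilator.mpr fun x => ?_⟩
    have hle : ⊤ ≤ LinearMap.ker ((a ^ (∑ i, n i)) • (LinearMap.id : M →ₗ[R] M)) := by
      rw [← hg, Submodule.span_le]
      rintro _ ⟨i, rfl⟩
      obtain ⟨c, hc⟩ := pow_dvd_pow a (Finset.single_le_sum (f := n) (fun j _ => Nat.zero_le _) (Finset.mem_univ i))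
      show a ^ (∑ i, n i) • g i = 0
      rw [hc, mul_comm, mul_smul, hn i, smul_zero]
    exact hle (Submodule.mem_top (x := x))
  obtain ⟨n, hn⟩ := Ideal.exists_pow_le_of_le_radical_of_fg (I := p) hall (IsNoetherian.noetherian p)
  exact ⟨n, fun a ha x => Module.mem_annihilator.mp (hn ha) x⟩

theorem subset_finite : ∀ (c : ℕ) (M : Type u) [AddCommGroup M] [Module R M] [Module.Finite R M],
    (associatedPrimes R M).ncard ≤ c →
    associatedPrimes S (N ⊗[R] M) ⊆ ⋃ p ∈ associatedPrimes R M, associatedPrimes S (N ⊗[R] (R ⧸ p)) := by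
  intro c
  induction c with
  | zero =>
    intro M _ _ _ hc
    have he : associatedPrimes R M = ∅ := (Set.ncard_eq_zero (associatedPrimes.finite R M)).mp (by omega)
    haveI : Subsingleton M := by
      by_contra h
      rw [not_subsingleton_iff_nontrivial] at h
      obtain ⟨p, hp⟩ := associatedPrimes.nonempty R M
      simp [he] at hp
    haveI : Subsingleton (N ⊗[R] M) := ⟨fun a b => by
      have h0 : ∀ z : N ⊗[R] M, z = 0 := fun z => by
        induction z using TensorProduct.induction_on with
        | zero => rfl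
        | tmul x y => rw [Subsingleton.elim y 0, tmul_zero]
        | add a b ha hb => rw [ha, hb, add_zero]
      rw [h0 a, h0 b]⟩
    simp [associatedPrimes.eq_empty_of_subsingleton]
  | succ c ih =>
    intro M _ _ _ hc
    by_cases he : associatedPrimes R M = ∅
    · exact ih M (by simp [he])
    obtain ⟨p, hp⟩ := Set.nonempty_iff_ne_empty.mpr he
    haveI := hp.isPrime
    -- a maximal submodule without `p` among its associated primes
    obtain ⟨K, hK, hKmax⟩ := set_has_maximal_iff_noetherian.mpr (inferInstance : IsNoetherian R M)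
      {K : Submodule R M | p ∉ associatedPrimes R K}
      ⟨⊥, fun h => by simp [associatedPrimes.eq_empty_of_subsingleton] at h⟩
    have hKsub : associatedPrimes R K ⊆ associatedPrimes R M :=
      associatedPrimes.subset_of_injective K.injective_subtype
    have hquot : associatedPrimes R (M ⧸ K) ⊆ {p} := by
      intro q hq
      by_contra hne
      obtain ⟨hqp, f, hf⟩ := (isAssociatedPrime_iff_exists_injective_linearMap q (M ⧸ K)).mp hq
      let K' := (LinearMap.range f).comap K.mkQ
      have hlt : K < K' := by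
        refine lt_of_le_of_ne (fun x hx => ⟨0, by rw [map_zero]; exact ((Submodule.Quotient.mk_eq_zero K).mpr hx).symm⟩) fun heq => ?_
        haveI : Nontrivial (R ⧸ q) := Ideal.Quotient.nontrivial_iff.mpr hqp.ne_top
        obtain ⟨x, hx⟩ := Submodule.mkQ_surjective K (f 1)
        have hxK : x ∈ K' := ⟨1, hx.symm⟩
        rw [← heq, ← Submodule.Quotient.mk_eq_zero K, ← Submodule.mkQ_apply, hx, map_eq_zero_iff f hf] at hxK
        exact one_ne_zero hxK
      refine hKmax K' (fun hpK' => ?_) hlt
      let g : K' →ₗ[R] LinearMap.range f := (K.mkQ ∘ₗ K'.subtype).codRestrict _ fun x => x.2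
      rcases associatedPrimes.subset_union_of_exact (f := Submodule.inclusion hlt.le) (g := g)
          (Submodule.inclusion_injective _) (by
            intro x
            constructor
            · intro hx
              exact ⟨⟨x.1, (Submodule.Quotient.mk_eq_zero K).mp (congrArg Subtype.val hx)⟩, rfl⟩
            · rintro ⟨y, rfl⟩
              exact Subtype.ext ((Submodule.Quotient.mk_eq_zero K).mpr y.2)) hpK' with h | h
      · exact hK h
      · rw [← LinearEquiv.AssociatedPrimes.eq (LinearEquiv.ofInjective f hf)] at h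
        have := IsAssociatedPrime.eq_radical (Ideal.IsPrime.isPrimary hqp) h
        rw [hqp.radical] at this
        exact hne this.symm
    refine (subset_union N K).trans (Set.union_subset ?_ ?_)
    · refine (ih K ?_).trans (Set.biUnion_subset_biUnion_left hKsub)
      have h1 : (associatedPrimes R K).ncard < (associatedPrimes R M).ncard :=
        Set.ncard_lt_ncard (hKsub.ssubset_of_ne fun h => hK (h ▸ hp)) (associatedPrimes.finite R M)
      omega
    · refine fun q hq => Set.mem_biUnion hp ?_
      rcases subsingleton_or_nontrivial (M ⧸ K) with h | h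
      · exact subset_of_injective N (f := (0 : (M ⧸ K) →ₗ[R] (R ⧸ p))) (fun a b _ => Subsingleton.elim a b) hq
      have hM' : associatedPrimes R (M ⧸ K) = {p} :=
        (Set.Nonempty.subset_singleton_iff (associatedPrimes.nonempty R (M ⧸ K))).mp hquot
      obtain ⟨hreg, n, hn⟩ := pow_smul_eq_zero p hM'
      exact subset_of_coprimary N p n (M ⧸ K) hn hreg hq

theorem associatedPrimes_tensor (M : Type u) [AddCommGroup M] [Module R M] :
    associatedPrimes S (N ⊗[R] M) =
      ⋃ p ∈ associatedPrimes R M, associatedPrimes S (N ⧸ p.map (algebraMap R S) • (⊤ : Submodule S N)) := by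
  have heq : ∀ p : Ideal R, associatedPrimes S (N ⊗[R] (R ⧸ p)) =
      associatedPrimes S (N ⧸ p.map (algebraMap R S) • (⊤ : Submodule S N)) := fun p =>
    LinearEquiv.AssociatedPrimes.eq (nonempty_quotEquiv N p).some
  simp only [← heq]
  refine Set.Subset.antisymm ?_ (Set.iUnion₂_subset fun p hp => ?_)
  · rintro q ⟨hq, z, hz⟩
    obtain ⟨M₀, hfin, hM₀⟩ := TensorProduct.exists_finite_submodule_right_of_setFinite {z} (Set.finite_singleton z)
    obtain ⟨z₀, hz₀⟩ := hM₀ rfl
    have h1 : q ∈ associatedPrimes S (N ⊗[R] M₀) := by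
      refine ⟨hq, z₀, ?_⟩
      rw [hz]
      ext r
      have e : ∀ w, tmap S N M₀.subtype w = M₀.subtype.lTensor N w := fun w => rfl
      simp only [Ideal.mem_radical_iff, Submodule.mem_colon_singleton, Submodule.mem_bot, ← hz₀, ← e,
        ← map_smul, map_eq_zero_iff _ (tmap_injective (S := S) N M₀.injective_subtype)]
    exact Set.biUnion_subset_biUnion_left (associatedPrimes.subset_of_injective M₀.injective_subtype)
      (subset_finite N _ M₀ le_rfl h1)
  · obtain ⟨-, f, hf⟩ := (isAssociatedPrime_iff_exists_injective_linearMap p M).mp hp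
    exact subset_of_injective N hf

end Groth.L02.AssFlat
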