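import Groth.Agent.L18.DominatingDVR
import Mathlib.RingTheory.LocalRing.Module
import Mathlib.RingTheory.LocalRing.ResidueField.Ideal
import Mathlib.RingTheory.Flat.Localization
import Mathlib.RingTheory.Nilpotent.Lemmas
import Mathlib.RingTheory.Localization.BaseChange
import Mathlib.RingTheory.TensorProduct.Free
import Mathlib.LinearAlgebra.Dimension.Constructions
import Mathlib.RingTheory.LocalProperties.Reduced

/-!
Finite modules over reduced rings with constant fibre dimensions; detection by discrete valuation rings.
-/

universe u

open TensorProduct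

namespace Groth.L02.FlatDVR

variable {A : Type u} [CommRing A] (M : Type u) [AddCommGroup M] [Module A M] [Module.Finite A M]

/-- dimension of `M` over a field -/
noncomputable def dimAt (F : Type u) [Field F] [Algebra A F] : ℕ := Module.finrank F (F ⊗[A] M)

omit [Module.Finite A M] in
lemma dimAt_tower (K F : Type u) [Field K] [Field F] [Algebra A K] [Algebra A F] [Algebra K F] [IsScalarTower A K F] :
    dimAt M F (A := A) = dimAt M K (A := A) := by
  rw [dimAt, dimAt, ← (AlgebraTensorModule.cancelBaseChange A K F F M).finrank_eq, Module.finrank_baseChange]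

omit [Module.Finite A M] in
lemma dimAt_eq_rank (B F : Type u) [CommRing B] [IsDomain B] [Field F] [Algebra A B] [Algebra A F] [Algebra B F]
    [IsScalarTower A B F] [Module.Free B (B ⊗[A] M)] :
    dimAt M F (A := A) = Module.finrank B (B ⊗[A] M) := by
  rw [dimAt, ← (AlgebraTensorModule.cancelBaseChange A B F F M).finrank_eq, Module.finrank_baseChange]

omit [Module.Finite A M] in
lemma dimAt_baseChange (B F : Type u) [CommRing B] [Field F] [Algebra A B] [Algebra A F] [Algebra B F]
    [IsScalarTower A B F] : dimAt (A := B) (B ⊗[A] M) F = dimAt M F (A := A) :=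
  (AlgebraTensorModule.cancelBaseChange A B F F M).finrank_eq

/-- constant fibre dimension over a reduced local ring gives freeness -/
theorem free_of_dimAt_eq [IsLocalRing A] [IsReduced A]
    (h : ∀ (q : Ideal A) [q.IsPrime], dimAt M q.ResidueField (A := A) = dimAt M (IsLocalRing.ResidueField A) (A := A)) :
    Module.Free A M := by
  classical
  let k := IsLocalRing.ResidueField A
  let n := dimAt M k (A := A)
  let b : Module.Basis (Fin n) k (k ⊗[A] M) := Module.finBasis k (k ⊗[A] M)
  choose x hx using fun i => TensorProduct.mk_surjective A M k IsLocalRing.residue_surjective (b i)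
  have hspan : Submodule.span A (Set.range x) = ⊤ := IsLocalRing.span_eq_top_of_tmul_eq_basis x b hx
  let g : (Fin n → A) →ₗ[A] M := Fintype.linearCombination A x
  have hg : Function.Surjective g := by
    rw [← LinearMap.range_eq_top, Fintype.range_linearCombination, hspan]
  refine Module.Free.of_equiv (LinearEquiv.ofBijective g ⟨(injective_iff_map_eq_zero _).mpr fun v hv => funext fun i => ?_, hg⟩)
  refine IsNilpotent.eq_zero (mem_nilradical.mp ?_)
  rw [nilradical_eq_sInf, Submodule.mem_sInf]
  rintro (q : Ideal A) (hq : Ideal.IsPrime _)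
  let gq := g.baseChange q.ResidueField
  have hsurj : Function.Surjective gq := LinearMap.lTensor_surjective _ hg
  have hdim : Module.finrank q.ResidueField (q.ResidueField ⊗[A] (Fin n → A)) =
      Module.finrank q.ResidueField (q.ResidueField ⊗[A] M) := by
    rw [Module.finrank_baseChange, Module.finrank_fin_fun]
    exact (h q).symm
  have hinj : Function.Injective gq := (LinearMap.injective_iff_surjective_of_finrank_eq_finrank hdim).mpr hsurj
  have hv0 : (1 : q.ResidueField) ⊗ₜ[A] v = 0 := hinj (by rw [LinearMap.baseChange_tmul, hv, tmul_zero, map_zero])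
  have := congrArg ((TensorProduct.rid A q.ResidueField).toLinearMap ∘ₗ (LinearMap.proj i : (Fin n → A) →ₗ[A] A).lTensor q.ResidueField) hv0
  simp only [LinearMap.coe_comp, LinearEquiv.coe_coe, Function.comp_apply, LinearMap.lTensor_tmul, LinearMap.proj_apply,
    map_zero, TensorProduct.rid_tmul, ← Algebra.algebraMap_eq_smul_one, Ideal.algebraMap_residueField_eq_zero] at this
  exact this

/-- fibre dimensions along a specialisation agree -/
theorem dimAt_eq_of_dvr [IsLocalRing A] [IsNoetherianRing A]
    (h : ∀ (B : Type u) [CommRing B] [IsDomain B] [IsDiscreteValuationRing B] [Algebra A B],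
      Module.Flat B (B ⊗[A] M)) (q : Ideal A) [q.IsPrime] :
    dimAt M q.ResidueField (A := A) = dimAt M (IsLocalRing.ResidueField A) (A := A) := by
  classical
  by_cases hqm : RingHom.ker (algebraMap A q.ResidueField) = IsLocalRing.maximalIdeal A
  · let f : IsLocalRing.ResidueField A →+* q.ResidueField :=
      Ideal.Quotient.lift _ (algebraMap A q.ResidueField) (fun a ha => RingHom.mem_ker.mp (hqm ▸ ha))
    let _ : Algebra (IsLocalRing.ResidueField A) q.ResidueField := f.toAlgebra
    have : IsScalarTower A (IsLocalRing.ResidueField A) q.ResidueField := .of_algebraMap_eq fun _ => rfl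
    exact dimAt_tower M _ _
  · have hgen : Subfield.closure (Set.range (algebraMap A q.ResidueField) ∪ ∅) = ⊤ := by
      rw [Set.union_empty, eq_top_iff]
      intro z _
      obtain ⟨r, s, hs, rfl⟩ := IsFractionRing.div_surjective (A ⧸ q) z
      obtain ⟨r, rfl⟩ := Ideal.Quotient.mk_surjective r
      obtain ⟨s, rfl⟩ := Ideal.Quotient.mk_surjective s
      rw [Ideal.algebraMap_quotient_residueField_mk, Ideal.algebraMap_quotient_residueField_mk]
      exact div_mem (Subfield.subset_closure ⟨r, rfl⟩) (Subfield.subset_closure ⟨s, rfl⟩)
    obtain ⟨V, hV, hmem, hval⟩ := Groth.L18.exists_isDiscreteValuationRing_dominating Set.finite_empty hgen hqm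
    let _ : Algebra A V := ((algebraMap A q.ResidueField).codRestrict V.toSubring hmem).toAlgebra
    have : IsScalarTower A V q.ResidueField := .of_algebraMap_eq fun _ => rfl
    have := h V
    have : Module.Free V (V ⊗[A] M) := Module.free_of_flat_of_isLocalRing
    have hres : ∀ a ∈ IsLocalRing.maximalIdeal A, IsLocalRing.residue V (algebraMap A V a) = 0 := fun a ha =>
      (IsLocalRing.residue_eq_zero_iff _).mpr ((V.valuation_lt_one_iff _).mpr (hval a ha))
    let f : IsLocalRing.ResidueField A →+* IsLocalRing.ResidueField V :=
      Ideal.Quotient.lift _ ((IsLocalRing.residue V).comp (algebraMap A V)) hres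
    let _ : Algebra (IsLocalRing.ResidueField A) (IsLocalRing.ResidueField V) := f.toAlgebra
    have : IsScalarTower A (IsLocalRing.ResidueField A) (IsLocalRing.ResidueField V) := .of_algebraMap_eq fun a => by
      rw [IsScalarTower.algebraMap_apply A V (IsLocalRing.ResidueField V)]
      rfl
    rw [← dimAt_tower M (IsLocalRing.ResidueField A) (IsLocalRing.ResidueField V), dimAt_eq_rank M V, dimAt_eq_rank M V]

theorem flat_of_dvr [IsReduced A] [IsNoetherianRing A]
    (h : ∀ (B : Type u) [CommRing B] [IsDomain B] [IsDiscreteValuationRing B] [Algebra A B],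
      Module.Flat B (B ⊗[A] M)) : Module.Flat A M := by
  refine Module.flat_of_localized_maximal M fun P _ => ?_
  let T := Localization.AtPrime P
  have : IsReduced T := isReduced_localizationPreserves P.primeCompl T inferInstance
  have : Module.Free T (T ⊗[A] M) := free_of_dimAt_eq _ fun q _ => dimAt_eq_of_dvr (A := T) (T ⊗[A] M) (fun B _ _ _ _ => by
    let _ : Algebra A B := ((algebraMap T B).comp (algebraMap A T)).toAlgebra
    have : IsScalarTower A T B := .of_algebraMap_eq fun _ => rfl
    have := h B
    exact Module.Flat.of_linearEquiv (AlgebraTensorModule.cancelBaseChange A T B B M)) q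
  have : Module.Flat A T := IsLocalization.flat T P.primeCompl
  have : Module.Flat A (T ⊗[A] M) := Module.Flat.trans A T _
  exact Module.Flat.of_linearEquiv
    ((LocalizedModule.equivTensorProduct P.primeCompl M).restrictScalars A)

end Groth.L02.FlatDVR
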