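import Groth.Agent.L18.DominatingDVR
import Mathlib.RingTheory.DedekindDomain.IntegralClosure
import Mathlib.RingTheory.Ideal.GoingUp
import Mathlib.RingTheory.Ideal.MinimalPrime.Noetherian
import Mathlib.RingTheory.KrullDimension.Basic
import Mathlib.RingTheory.IntegralClosure.IntegrallyClosed

/-!
The integral closure of a one-dimensional Noetherian domain in a finite extension of its fraction field.
-/

universe u

namespace Groth.L02.KrullAkizuki

variable {A B : Type u} [CommRing A] [IsDomain A] [IsNoetherianRing A] [Ring.DimensionLEOne A]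
  (K L : Type u) [Field K] [Algebra A K] [IsFractionRing A K]
  [Field L] [Algebra K L] [FiniteDimensional K L] [Algebra A L] [IsScalarTower A K L]
  [CommRing B] [IsDomain B] [Algebra A B] [Algebra B L] [IsScalarTower A B L] [IsIntegralClosure B A L]

omit [IsNoetherianRing A] [Ring.DimensionLEOne A] [IsDomain B] in
include K L in
/-- a finite intermediate algebra with the same fraction field -/
theorem exists_finite_subalgebra : ∃ C : Subalgebra A B, Module.Finite A C ∧
    (∀ z : B, ∃ d r : C, d ≠ 0 ∧ algebraMap C B d * z = algebraMap C B r) := by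
  classical
  have : Algebra.IsIntegral A B := IsIntegralClosure.isIntegral_algebra A L
  obtain ⟨s, b, hb⟩ := FiniteDimensional.exists_is_basis_integral A K L
  have hinjL : Function.Injective (algebraMap A L) := by
    rw [IsScalarTower.algebraMap_eq A K L]
    exact (algebraMap K L).injective.comp (IsFractionRing.injective A K)
  let w : s → B := fun i => IsIntegralClosure.mk' B (b i) (hb i)
  let C := Algebra.adjoin A (Set.range w)
  have hfin : Module.Finite A C :=
    Algebra.finite_adjoin_of_finite_of_isIntegral (Set.finite_range w) fun x _ => Algebra.IsIntegral.isIntegral x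
  refine ⟨C, hfin, fun z => ?_⟩
  obtain ⟨⟨d, hd⟩, hdz⟩ := IsLocalization.exist_integer_multiples_of_finite (nonZeroDivisors A)
    (fun i => b.repr (algebraMap B L z) i)
  choose r hr using hdz
  have hd0 : algebraMap A B d ≠ 0 := fun h => nonZeroDivisors.ne_zero hd (hinjL (by
    rw [IsScalarTower.algebraMap_apply A B L, h, map_zero, map_zero]))
  refine ⟨algebraMap A C d, ∑ i, r i • ⟨w i, Algebra.subset_adjoin ⟨i, rfl⟩⟩,
    fun h => hd0 (congrArg Subtype.val h), ?_⟩
  apply IsIntegralClosure.algebraMap_injective B A L
  show algebraMap B L (algebraMap A B d * z) = algebraMap B L ((∑ i, r i • (⟨w i, _⟩ : C) : C) : B)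
  rw [map_mul, ← IsScalarTower.algebraMap_apply, ← b.sum_repr (algebraMap B L z), Finset.mul_sum,
    AddSubmonoidClass.coe_finsetSum, map_sum]
  refine Finset.sum_congr rfl fun i _ => ?_
  have h2 : algebraMap A L (r i) = algebraMap A L d * algebraMap K L (b.repr (algebraMap B L z) i) := by
    rw [IsScalarTower.algebraMap_apply A K L, IsScalarTower.algebraMap_apply A K L, ← map_mul, hr i]
    exact congrArg _ (Algebra.smul_def d _)
  simp only [Algebra.smul_def, MulMemClass.coe_mul, Subalgebra.coe_algebraMap, map_mul, ← IsScalarTower.algebraMap_apply A B L, w,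
    IsIntegralClosure.algebraMap_mk']
  rw [h2, mul_assoc]

include K L in
theorem main : IsDedekindDomain B ∧ Function.Surjective (PrimeSpectrum.comap (algebraMap A B)) ∧
      (∀ p : PrimeSpectrum A, (PrimeSpectrum.comap (algebraMap A B) ⁻¹' {p}).Finite) ∧
      ∀ Q : Ideal B, Q.IsMaximal → Module.Finite (A ⧸ Q.comap (algebraMap A B)) (B ⧸ Q) := by
  classical
  have : Algebra.IsIntegral A B := IsIntegralClosure.isIntegral_algebra A L
  have hinj : Function.Injective (algebraMap A B) := fun a a' h => IsFractionRing.injective A K
    ((algebraMap K L).injective (by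
      rw [← IsScalarTower.algebraMap_apply, ← IsScalarTower.algebraMap_apply, IsScalarTower.algebraMap_apply A B L, h,
        ← IsScalarTower.algebraMap_apply]))
  obtain ⟨C, hC, hfrac⟩ := exists_finite_subalgebra K L (A := A) (B := B)
  have : IsNoetherianRing C := IsNoetherianRing.of_finite A C
  have : Algebra.IsIntegral A C := Algebra.IsIntegral.of_finite A C
  have : Ring.DimensionLEOne C := Ring.DimensionLEOne.of_isIntegral A C
  have hCinj : Function.Injective (algebraMap C B) := Subtype.val_injective
  have hN : IsNoetherianRing B := Groth.L18.isNoetherianRing_of_krullDimLE_one hCinj hfrac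
  have hdim : Ring.DimensionLEOne B := Ring.DimensionLEOne.of_isIntegral A B
  have hfracL := IsIntegralClosure.isFractionRing_of_finite_extension A K L B
  refine ⟨?_, fun p => ?_, fun p => ?_, fun Q hQ => ?_⟩
  · refine { toIsDedekindRing := (isDedekindRing_iff B L).mpr ⟨hN, hdim, fun {x} hx => ?_⟩ }
    exact ⟨IsIntegralClosure.mk' B x (isIntegral_trans (R := A) x hx), IsIntegralClosure.algebraMap_mk' B x _⟩
  · obtain ⟨Q, hQ, hQp⟩ := Ideal.exists_ideal_over_prime_of_isIntegral_of_isDomain (S := B) p.asIdeal
      (by rw [(RingHom.injective_iff_ker_eq_bot _).mp hinj]; exact bot_le)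
    exact ⟨⟨Q, hQ⟩, PrimeSpectrum.ext hQp⟩
  · refine (((p.asIdeal.map (algebraMap A B)).finite_minimalPrimes_of_isNoetherianRing B).preimage
      (f := PrimeSpectrum.asIdeal) fun _ _ _ _ h => PrimeSpectrum.ext h).subset fun Q hQ => ?_
    have hQp : Q.asIdeal.comap (algebraMap A B) = p.asIdeal := congrArg PrimeSpectrum.asIdeal hQ
    show Q.asIdeal ∈ (p.asIdeal.map (algebraMap A B)).minimalPrimes
    rw [← hQp]
    exact Ideal.IsIntegral.mem_minimalPrimes_map_under Q.asIdeal
  · by_cases hQ0 : Q.comap (algebraMap A B) = ⊥
    · have hbot : Q = ⊥ := Ideal.eq_bot_of_comap_eq_bot hQ0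
      have : Q.comap (algebraMap A B) ≠ ⊤ := Ideal.comap_ne_top _ hQ.ne_top
      subst hbot
      have hF : IsField B := Ideal.Quotient.maximal_ideal_iff_isField_quotient ⊥ |>.mp hQ |> (RingEquiv.quotientBot B).symm.toMulEquiv.isField
      have hFA : IsField A := isField_of_isIntegral_of_isField hinj hF
      let _ := hFA.toField
      have e : B ≃+* L := RingEquiv.ofBijective (algebraMap B L)
        ⟨IsIntegralClosure.algebraMap_injective B A L, fun z => by
          let _ := hF.toField
          obtain ⟨x, y, _, rfl⟩ := IsFractionRing.div_surjective B z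
          exact ⟨x / y, map_div₀ (algebraMap B L) x y⟩⟩
      have hK : Function.Surjective (algebraMap A K) := fun z => by
        obtain ⟨x, y, _, rfl⟩ := IsFractionRing.div_surjective A z
        exact ⟨x / y, map_div₀ (algebraMap A K) x y⟩
      have : Module.Finite A L := by
        have : Module.Finite A K := Module.Finite.of_surjective (Algebra.linearMap A K) hK
        exact Module.Finite.trans K L
      have : Module.Finite A B := Module.Finite.of_injective ((IsScalarTower.toAlgHom A B L).toLinearMap)
        (IsIntegralClosure.algebraMap_injective B A L)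
      exact Module.Finite.of_restrictScalars_finite A _ _
    · obtain ⟨x, hx, hx0⟩ := Submodule.exists_mem_ne_zero_of_ne_bot hQ0
      have hxC : algebraMap A C x ≠ 0 := fun h => hx0 (hinj (by rw [map_zero]; exact congrArg Subtype.val h))
      have hn := Groth.L18.isNoetherian_quotient_span_algebraMap hCinj hfrac hxC
      have : Module.Finite C (B ⧸ Ideal.span {algebraMap C B (algebraMap A C x)}) := Module.IsNoetherian.finite _ _
      have : Module.Finite A (B ⧸ Ideal.span {algebraMap C B (algebraMap A C x)}) := Module.Finite.trans C _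
      have hle : Ideal.span {algebraMap C B (algebraMap A C x)} ≤ Q := by
        rw [Ideal.span_singleton_le_iff_mem]; exact hx
      have : Module.Finite A (B ⧸ Q) := Module.Finite.of_surjective (Ideal.Quotient.factorₐ A hle).toLinearMap
        (Ideal.Quotient.factor_surjective hle)
      exact Module.Finite.of_restrictScalars_finite A _ _

end Groth.L02.KrullAkizuki
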