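import Mathlib.RingTheory.FinitePresentation
import Mathlib.RingTheory.Localization.Away.Basic
import Mathlib.RingTheory.Localization.AtPrime.Basic
import Mathlib.RingTheory.Localization.Integer

/-!
Spreading homomorphisms of finitely presented algebras out of local rings.
-/

namespace Groth.L02.AlgSpread

universe u

variable {R : Type u} [CommRing R]

section one

variable {T : Type u} [CommRing T] [Algebra R T]

/-- `T_x → T_y` for `x ∣ y` -/
noncomputable def tr {x y : T} (h : x ∣ y) : Localization.Away x →ₐ[R] Localization.Away y :=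
  IsLocalization.Away.liftAlgHom x (f := IsScalarTower.toAlgHom R T (Localization.Away y))
    (isUnit_of_dvd_unit (map_dvd _ h) (IsLocalization.Away.algebraMap_isUnit y))

lemma tr_algebraMap {x y : T} (h : x ∣ y) (t : T) :
    tr (R := R) h (algebraMap T _ t) = algebraMap T _ t := by
  rw [tr, IsLocalization.Away.liftAlgHom_apply, IsLocalization.Away.lift_eq]
  rfl

lemma isUnit_away {x y : T} (h : x ∣ y) : IsUnit (algebraMap T (Localization.Away y) x) :=
  isUnit_of_dvd_unit (map_dvd _ h) (IsLocalization.Away.algebraMap_isUnit y)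

lemma away_hom_ext {x : T} {P : Type u} [CommRing P] [Algebra R P] (f g : Localization.Away x →ₐ[R] P)
    (h : ∀ t, f (algebraMap T _ t) = g (algebraMap T _ t)) : f = g :=
  AlgHom.coe_ringHom_injective (IsLocalization.ringHom_ext (Submonoid.powers x) (RingHom.ext h))

lemma tr_tr {x y z : T} (h : x ∣ y) (h' : y ∣ z) (a : Localization.Away x) :
    tr (R := R) h' (tr (R := R) h a) = tr (R := R) (h.trans h') a :=
  DFunLike.congr_fun (away_hom_ext ((tr h').comp (tr h)) (tr (h.trans h'))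
    fun t => by simp only [AlgHom.comp_apply, tr_algebraMap]) a

variable (q : Ideal T) [q.IsPrime]

/-- `T_x → T_q` for `x ∉ q` -/
noncomputable def toQ (x : T) (hx : x ∉ q) : Localization.Away x →ₐ[R] Localization.AtPrime q :=
  IsLocalization.Away.liftAlgHom x (f := IsScalarTower.toAlgHom R T (Localization.AtPrime q))
    (show IsUnit (IsScalarTower.toAlgHom R T (Localization.AtPrime q) x) from
      IsLocalization.map_units (Localization.AtPrime q) (⟨x, hx⟩ : q.primeCompl))

lemma toQ_algebraMap (x : T) (hx : x ∉ q) (t : T) :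
    toQ (R := R) q x hx (algebraMap T _ t) = algebraMap T _ t := by
  rw [toQ, IsLocalization.Away.liftAlgHom_apply, IsLocalization.Away.lift_eq]
  rfl

lemma toQ_tr {x y : T} (h : x ∣ y) (hx : x ∉ q) (hy : y ∉ q) (a : Localization.Away x) :
    toQ (R := R) q y hy (tr (R := R) h a) = toQ (R := R) q x hx a :=
  DFunLike.congr_fun (away_hom_ext ((toQ q y hy).comp (tr h)) (toQ q x hx)
    fun t => by simp only [AlgHom.comp_apply, tr_algebraMap, toQ_algebraMap]) a

/-- An element killed in `T_q` is killed in some `T_{xc}`. -/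
lemma exists_tr_eq_zero (x : T) (hx : x ∉ q) (a : Localization.Away x) (ha : toQ (R := R) q x hx a = 0) :
    ∃ c ∉ q, ∀ y (h : x ∣ y), c ∣ y → tr (R := R) h a = 0 := by
  obtain ⟨⟨t, m⟩, ht⟩ := IsLocalization.surj (Submonoid.powers x) a
  have : algebraMap T (Localization.AtPrime q) t = 0 := by
    rw [← toQ_algebraMap (R := R) q x hx t, ← ht, map_mul, ha, zero_mul]
  obtain ⟨⟨c, hc⟩, hct⟩ := (IsLocalization.map_eq_zero_iff q.primeCompl _ t).mp this
  refine ⟨c, hc, fun y h hcy => ?_⟩
  have h1 := congrArg (tr (R := R) h) ht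
  rw [map_mul, tr_algebraMap, tr_algebraMap] at h1
  have h2 : algebraMap T (Localization.Away y) t = 0 := by
    refine (isUnit_away hcy).mul_right_eq_zero.mp ?_
    rw [← map_mul, hct, map_zero]
  rw [h2] at h1
  obtain ⟨_, k, rfl⟩ := m
  exact (((isUnit_away h).pow k)).mul_left_eq_zero.mp (by rw [← map_pow]; exact h1)

/-- The numerator of an element of `T_x` that is a unit in `T_q`. -/
lemma exists_numerator (x : T) (hx : x ∉ q) (a : Localization.Away x) (ha : IsUnit (toQ (R := R) q x hx a)) :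
    ∃ n ∉ q, (∀ y (h : x ∣ y), n ∣ y → IsUnit (tr (R := R) h a)) ∧
      ∃ k : ℕ, a * algebraMap T (Localization.Away x) (x ^ k) = algebraMap T (Localization.Away x) n := by
  obtain ⟨⟨t, m⟩, ht⟩ := IsLocalization.surj (Submonoid.powers x) a
  obtain ⟨_, k, rfl⟩ := m
  have hq : t ∉ q := by
    refine (IsLocalization.AtPrime.isUnit_to_map_iff (Localization.AtPrime q) q t).mp ?_
    rw [← toQ_algebraMap (R := R) q x hx t, ← ht, map_mul, toQ_algebraMap]
    exact ha.mul (IsLocalization.map_units _ (⟨x ^ k, fun h => hx (Ideal.IsPrime.mem_of_pow_mem ‹_› k h)⟩ : q.primeCompl))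
  refine ⟨t, hq, fun y h hty => ?_, k, ht⟩
  have h1 := congrArg (tr (R := R) h) ht
  rw [map_mul, tr_algebraMap, tr_algebraMap] at h1
  exact isUnit_of_mul_isUnit_left (h1 ▸ isUnit_away hty)

variable {S : Type u} [CommRing S] [Algebra R S]

theorem exists_lift [Algebra.FinitePresentation R S] (φ : S →ₐ[R] Localization.AtPrime q) :
    ∃ (x : T) (hx : x ∉ q) (ψ : S →ₐ[R] Localization.Away x), ∀ s, toQ (R := R) q x hx (ψ s) = φ s := by
  classical
  obtain ⟨n, f, hf, hker⟩ := (Algebra.FinitePresentation.out : ∃ (n : ℕ) (f : MvPolynomial (Fin n) R →ₐ[R] S),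
    Function.Surjective f ∧ (RingHom.ker f.toRingHom).FG)
  obtain ⟨⟨b, hb⟩, hb'⟩ := IsLocalization.exist_integer_multiples_of_finite q.primeCompl
    (fun i => φ (f (MvPolynomial.X i)))
  choose a ha using hb'
  replace hb : b ∉ q := hb
  let θ : MvPolynomial (Fin n) R →ₐ[R] Localization.Away b :=
    MvPolynomial.aeval fun i => IsLocalization.Away.invSelf (S := Localization.Away b) b * algebraMap T _ (a i)
  have hθ : (toQ q b hb).comp θ = φ.comp f := MvPolynomial.algHom_ext fun i => by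
    have h1 : toQ (R := R) q b hb (IsLocalization.Away.invSelf (S := Localization.Away b) b) *
        algebraMap T (Localization.AtPrime q) b = 1 := by
      rw [← toQ_algebraMap (R := R) q b hb b, ← map_mul, mul_comm,
        IsLocalization.Away.mul_invSelf, map_one]
    simp only [θ, AlgHom.comp_apply, MvPolynomial.aeval_X, map_mul, toQ_algebraMap, ha i, Algebra.smul_def,
      ← mul_assoc, h1, one_mul]
  obtain ⟨G, hG⟩ := hker
  have hc : ∀ g ∈ G, ∃ c ∉ q, ∀ y (h : b ∣ y), c ∣ y → tr (R := R) h (θ g) = 0 := fun g hg => by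
    refine exists_tr_eq_zero q b hb _ ?_
    have h0 : f g = 0 := RingHom.mem_ker.mp (hG ▸ Ideal.subset_span hg)
    have := DFunLike.congr_fun hθ g
    simp only [AlgHom.comp_apply, h0, map_zero] at this
    exact this
  choose c hc hc' using hc
  let C := ∏ g ∈ G.attach, c g.1 g.2
  have hx : b * C ∉ q := fun h => (Ideal.IsPrime.mem_or_mem ‹_› h).elim hb fun h => by
    obtain ⟨g, -, hg⟩ := (Ideal.IsPrime.prod_mem_iff (hp := ‹q.IsPrime›)).mp h
    exact hc _ _ hg
  let θ' : MvPolynomial (Fin n) R →ₐ[R] Localization.Away (b * C) := (tr (dvd_mul_right b C)).comp θ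
  have hle : RingHom.ker f.toRingHom ≤ RingHom.ker θ'.toRingHom := by
    rw [← hG, Ideal.span_le]
    exact fun g hg => hc' g hg _ (dvd_mul_right b C)
      ((Finset.dvd_prod_of_mem (fun g : {g // g ∈ G} => c g.1 g.2) (Finset.mem_attach G ⟨g, hg⟩)).trans
        (dvd_mul_left _ b))
  let ψ : S →ₐ[R] Localization.Away (b * C) :=
    (Ideal.Quotient.liftₐ _ θ' hle).comp (Ideal.quotientKerAlgEquivOfSurjective hf).symm.toAlgHom
  refine ⟨b * C, hx, ψ, fun s => ?_⟩
  obtain ⟨p, rfl⟩ := hf s
  have h1 : ψ (f p) = θ' p := by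
    have hp : (Ideal.quotientKerAlgEquivOfSurjective hf).symm (f p) = Ideal.Quotient.mk _ p := by
      rw [AlgEquiv.symm_apply_eq]
      rfl
    show Ideal.Quotient.liftₐ _ θ' hle ((Ideal.quotientKerAlgEquivOfSurjective hf).symm (f p)) = θ' p
    rw [hp]
    rfl
  rw [h1]
  show toQ q (b * C) hx (tr (R := R) (dvd_mul_right b C) (θ p)) = φ (f p)
  rw [toQ_tr q _ hb hx]
  exact DFunLike.congr_fun hθ p

theorem exists_tr_eq [Algebra.FiniteType R S] {x : T} (hx : x ∉ q) (ψ ψ' : S →ₐ[R] Localization.Away x)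
    (h : ∀ s, toQ (R := R) q x hx (ψ s) = toQ (R := R) q x hx (ψ' s)) :
    ∃ c ∉ q, ∀ y (hy : x ∣ y), c ∣ y → (tr hy).comp ψ = (tr hy).comp ψ' := by
  classical
  obtain ⟨G, hG⟩ := (Algebra.FiniteType.out : (⊤ : Subalgebra R S).FG)
  choose c hc hc' using fun g : S => exists_tr_eq_zero (R := R) q x hx (ψ g - ψ' g)
    (by rw [map_sub, h, sub_self])
  refine ⟨∏ g ∈ G, c g, fun hm => ?_, fun y hy hcy => ?_⟩
  · obtain ⟨g, -, hg⟩ := (Ideal.IsPrime.prod_mem_iff (hp := ‹q.IsPrime›)).mp hm
    exact hc g hg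
  · refine AlgHom.ext_of_adjoin_eq_top hG fun g hg => ?_
    have := hc' g y hy ((Finset.dvd_prod_of_mem c hg).trans hcy)
    rwa [map_sub, sub_eq_zero] at this

end one

variable {S T : Type u} [CommRing S] [CommRing T] [Algebra R S] [Algebra R T]

/-- Extension of `ψ : S → T_y` to `S_g`, when `g` becomes a unit. -/
noncomputable def ext' {y : T} (ψ : S →ₐ[R] Localization.Away y) (g : S) (hg : IsUnit (ψ g)) :
    Localization.Away g →ₐ[R] Localization.Away y :=
  IsLocalization.Away.liftAlgHom g (f := ψ) hg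

lemma ext'_algebraMap {y : T} (ψ : S →ₐ[R] Localization.Away y) (g : S) (hg : IsUnit (ψ g)) (s : S) :
    ext' ψ g hg (algebraMap S _ s) = ψ s :=
  IsLocalization.Away.lift_eq g hg s

/-- One half of an inverse pair. -/
theorem exists_compatible (q : Ideal S) [q.IsPrime] (q' : Ideal T) [q'.IsPrime] [Algebra.FiniteType R S]
    (e : Localization.AtPrime q ≃ₐ[R] Localization.AtPrime q') {a : T} (ha : a ∉ q') {b : S} (hb : b ∉ q)
    (ψ : S →ₐ[R] Localization.Away a) (hψ : ∀ s, toQ (R := R) q' a ha (ψ s) = e (algebraMap S _ s))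
    (ψ' : T →ₐ[R] Localization.Away b) (hψ' : ∀ t, toQ (R := R) q b hb (ψ' t) = e.symm (algebraMap T _ t)) :
    ∃ g ∉ q, b ∣ g ∧ ∀ y (hy : g ∣ y) (hby : b ∣ y),
      ∃ hu : IsUnit (((tr (R := R) hby).comp ψ') a),
        (ext' ((tr hby).comp ψ') a hu).comp ψ = IsScalarTower.toAlgHom R S (Localization.Away y) := by
  obtain ⟨n, hn, hn', -⟩ := exists_numerator (R := R) q b hb (ψ' a) (by
    rw [hψ']
    exact (IsLocalization.map_units _ (⟨a, ha⟩ : q'.primeCompl)).map e.symm)
  have hbn : b * n ∉ q := fun h => (Ideal.IsPrime.mem_or_mem ‹_› h).elim hb hn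
  have hu : IsUnit (((tr (R := R) (dvd_mul_right b n)).comp ψ') a) :=
    hn' _ (dvd_mul_right b n) (dvd_mul_left n b)
  let E := ext' ((tr (dvd_mul_right b n)).comp ψ') a hu
  have hE : ∀ z, toQ (R := R) q (b * n) hbn (E z) = e.symm (toQ (R := R) q' a ha z) := by
    have := away_hom_ext ((toQ q (b * n) hbn).comp E) (e.symm.toAlgHom.comp (toQ q' a ha)) fun t => by
      simp only [E, AlgHom.comp_apply, ext'_algebraMap, toQ_tr q _ hb hbn, hψ', toQ_algebraMap]
      rfl
    exact fun z => DFunLike.congr_fun this z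
  obtain ⟨c, hc, hc'⟩ := exists_tr_eq q hbn (E.comp ψ) (IsScalarTower.toAlgHom R S _) fun s => by
    rw [AlgHom.comp_apply, hE, hψ, e.symm_apply_apply, IsScalarTower.toAlgHom_apply, toQ_algebraMap]
  refine ⟨b * n * c, fun h => (Ideal.IsPrime.mem_or_mem ‹_› h).elim hbn hc,
    (dvd_mul_right b n).trans (dvd_mul_right _ c), fun y hy hby => ?_⟩
  have hy' : b * n ∣ y := (dvd_mul_right _ c).trans hy
  refine ⟨hn' y hby ((dvd_mul_left n b).trans hy'), ?_⟩
  have h1 := hc' y hy' ((dvd_mul_left c _).trans hy)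
  have h2 : (tr hy').comp (IsScalarTower.toAlgHom R S (Localization.Away (b * n))) =
      IsScalarTower.toAlgHom R S (Localization.Away y) :=
    AlgHom.ext fun s => tr_algebraMap hy' s
  rw [← h2, ← h1, ← AlgHom.comp_assoc]
  congr 1
  refine away_hom_ext _ _ fun t => ?_
  simp only [E, AlgHom.comp_apply, ext'_algebraMap, tr_tr]

theorem exists_iso (q : Ideal S) [q.IsPrime] (q' : Ideal T) [q'.IsPrime]
    [Algebra.FinitePresentation R S] [Algebra.FinitePresentation R T]
    (e : Localization.AtPrime q ≃ₐ[R] Localization.AtPrime q') :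
    ∃ (g : S) (g' : T), g ∉ q ∧ g' ∉ q' ∧ Nonempty (Localization.Away g ≃ₐ[R] Localization.Away g') := by
  obtain ⟨a, ha, ψ, hψ⟩ := exists_lift q' (e.toAlgHom.comp (IsScalarTower.toAlgHom R S _))
  obtain ⟨b, hb, ψ', hψ'⟩ := exists_lift q (e.symm.toAlgHom.comp (IsScalarTower.toAlgHom R T _))
  obtain ⟨g₂, hg₂, hbg, hcomp⟩ := exists_compatible q q' e ha hb ψ hψ ψ' hψ'
  obtain ⟨g₂', hg₂', hag, hcomp'⟩ := exists_compatible q' q e.symm hb ha ψ' hψ' ψ (by simpa using hψ)
  obtain ⟨n', hn', hn'u, -⟩ := exists_numerator (R := R) q' a ha (ψ g₂) (by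
    rw [hψ]
    exact (IsLocalization.map_units (Localization.AtPrime q) (⟨g₂, hg₂⟩ : q.primeCompl)).map e)
  let G' := g₂' * n'
  have hG' : G' ∉ q' := fun h => (Ideal.IsPrime.mem_or_mem ‹_› h).elim hg₂' hn'
  obtain ⟨n, hn, hnu, k, ht⟩ := exists_numerator (R := R) q b hb (ψ' G') (by
    rw [hψ']
    exact (IsLocalization.map_units (Localization.AtPrime q') (⟨G', hG'⟩ : q'.primeCompl)).map e.symm)
  let g := g₂ * n
  have hg : g ∉ q := fun h => (Ideal.IsPrime.mem_or_mem ‹_› h).elim hg₂ hn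
  have haG : a ∣ G' := hag.trans (dvd_mul_right _ _)
  have hbG : b ∣ g := hbg.trans (dvd_mul_right _ _)
  obtain ⟨hua, hl⟩ := hcomp g (dvd_mul_right _ _) hbG
  obtain ⟨hub, hr⟩ := hcomp' G' (dvd_mul_right _ _) haG
  have hu' : IsUnit (((tr (R := R) hbG).comp ψ') G') := hnu g hbG (dvd_mul_left _ _)
  let β := ext' ((tr hbG).comp ψ') G' hu'
  -- the image of `g` is a unit
  have hu : IsUnit (((tr (R := R) haG).comp ψ) g) := by
    show IsUnit (((tr (R := R) haG).comp ψ) (g₂ * n))
    rw [map_mul]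
    refine (hn'u G' haG (dvd_mul_left _ _)).mul ?_
    have : IsUnit (((tr (R := R) haG).comp ψ) n) := by
      have h1 := congrArg (ext' ((tr haG).comp ψ) b hub) ht
      rw [map_mul, ext'_algebraMap, ext'_algebraMap] at h1
      rw [← h1, show ext' ((tr haG).comp ψ) b hub (ψ' G') = algebraMap T _ G' from DFunLike.congr_fun hr G',
        map_pow]
      exact (IsLocalization.Away.algebraMap_isUnit G').mul (hub.pow k)
    exact this
  let α := ext' ((tr haG).comp ψ) g hu
  refine ⟨g, G', hg, hG', ⟨AlgEquiv.ofAlgHom α β ?_ ?_⟩⟩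
  · refine away_hom_ext _ _ fun t => ?_
    have h1 : α.comp (tr hbG) = ext' ((tr haG).comp ψ) b hub := away_hom_ext _ _ fun s => by
      simp only [α, AlgHom.comp_apply, tr_algebraMap, ext'_algebraMap]
    show α (β (algebraMap T _ t)) = algebraMap T _ t
    rw [ext'_algebraMap, AlgHom.comp_apply, show α (tr (R := R) hbG (ψ' t)) = _ from DFunLike.congr_fun h1 (ψ' t)]
    exact DFunLike.congr_fun hr t
  · refine away_hom_ext _ _ fun s => ?_
    have h1 : β.comp (tr haG) = ext' ((tr hbG).comp ψ') a hua := away_hom_ext _ _ fun t => by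
      simp only [β, AlgHom.comp_apply, tr_algebraMap, ext'_algebraMap]
    show β (α (algebraMap S _ s)) = algebraMap S _ s
    rw [ext'_algebraMap, AlgHom.comp_apply, show β (tr (R := R) haG (ψ s)) = _ from DFunLike.congr_fun h1 (ψ s)]
    exact DFunLike.congr_fun hl s

end Groth.L02.AlgSpread
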