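import Groth.Agent.L03.SerreSplit
import Mathlib.Algebra.Module.FinitePresentation
import Mathlib.LinearAlgebra.Dimension.Constructions
import Mathlib.RingTheory.Localization.AtPrime.Basic
import Mathlib.RingTheory.Spectrum.Prime.Noetherian
import Mathlib.RingTheory.Flat.Rank
import Mathlib.Topology.KrullDimension

/-!
Bass cancellation for projective modules of rank bigger than the dimension.
-/

set_option autoImplicit false
set_option linter.style.haveILetI false
universe u

open Groth.L03

namespace Groth.L02.BassCancel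

variable {R : Type u} [CommRing R] {P : Type u} [AddCommGroup P] [Module R P] [Module.Finite R P]

theorem finrank_Vs_ge [Module.Projective R P] [IsNoetherianRing R] {N : ℕ}
    (hrk : ∀ p : PrimeSpectrum R, N ≤ Module.rankAtStalk (R := R) P p) (x : MaximalSpectrum R) :
    N ≤ Module.finrank (R ⧸ x.asIdeal) (SerreSplit.Vs P x.asIdeal) := by
  classical
  haveI := x.isMaximal
  letI := Ideal.Quotient.field x.asIdeal
  let S := x.asIdeal.primeCompl
  let Rm := Localization.AtPrime x.asIdeal
  haveI : Module.FinitePresentation R P := Module.finitePresentation_of_finite R P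
  haveI : Module.Finite Rm (LocalizedModule S P) :=
    Module.Finite.of_isLocalizedModule S (LocalizedModule.mkLinearMap S P)
  haveI : Module.Flat Rm (LocalizedModule S P) :=
    Module.Flat.of_isLocalizedModule Rm S (LocalizedModule.mkLinearMap S P)
  haveI : Module.Free Rm (LocalizedModule S P) := Module.free_of_flat_of_isLocalRing
  let b := Module.finBasis Rm (LocalizedModule S P)
  have hle : N ≤ Module.finrank Rm (LocalizedModule S P) := hrk ⟨x.asIdeal, inferInstance⟩
  have hφ : ∀ a : Fin N, ∃ (φ : P →ₗ[R] R) (c : S), ∀ y, algebraMap R Rm (φ y) =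
      algebraMap R Rm c * b.coord (Fin.castLE hle a) (LocalizedModule.mkLinearMap S P y) := by
    intro a
    obtain ⟨φ, c, hc⟩ := Module.FinitePresentation.exists_lift_of_isLocalizedModule S (Algebra.linearMap R Rm)
      ((b.coord (Fin.castLE hle a)).restrictScalars R ∘ₗ LocalizedModule.mkLinearMap S P)
    refine ⟨φ, c, fun y => ?_⟩
    have := LinearMap.congr_fun hc y
    simpa [Submonoid.smul_def, Algebra.smul_def] using this
  choose φ c hφc using hφ
  have hm : ∀ a : Fin N, ∃ (m : P) (e : S), LocalizedModule.mkLinearMap S P m = algebraMap R Rm e • b (Fin.castLE hle a) := by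
    intro a
    obtain ⟨⟨m, e⟩, he⟩ := IsLocalizedModule.surj S (LocalizedModule.mkLinearMap S P) (b (Fin.castLE hle a))
    refine ⟨m, e, ?_⟩
    rw [← he, algebraMap_smul]
    rfl
  choose m e hme using hm
  have hdet : (Matrix.of fun i j => φ i (m j)).det ∉ x.asIdeal := by
    intro hd
    have hmap : (algebraMap R Rm).mapMatrix (Matrix.of fun i j => φ i (m j)) =
        Matrix.diagonal (fun a => algebraMap R Rm (c a) * algebraMap R Rm (e a)) := by
      ext i j
      rw [RingHom.mapMatrix_apply, Matrix.map_apply, Matrix.of_apply, hφc, hme, map_smul,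
        Module.Basis.coord_apply, Module.Basis.repr_self, Finsupp.single_apply, Matrix.diagonal_apply]
      simp only [(Fin.castLE_injective hle).eq_iff]
      by_cases hij : i = j
      · subst hij; simp
      · simp [hij, Ne.symm hij]
    have hu : IsUnit (algebraMap R Rm (Matrix.of fun i j => φ i (m j)).det) := by
      rw [RingHom.map_det, hmap, Matrix.det_diagonal]
      exact IsUnit.prod_univ_iff.2 fun a => (IsLocalization.map_units Rm (c a)).mul (IsLocalization.map_units Rm (e a))
    rw [IsLocalization.AtPrime.isUnit_to_map_iff Rm x.asIdeal] at hu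
    exact hu hd
  simpa using ((SerreSplit.linearIndependent_iff_exists_det x.asIdeal m).2 ⟨φ, hdet⟩).fintype_card_le_finrank

variable [IsNoetherianRing R] {d : ℕ}

theorem noetherianSpace : TopologicalSpace.NoetherianSpace (MaximalSpectrum R) :=
  Topology.IsInducing.noetherianSpace (i := MaximalSpectrum.toPrimeSpectrum) ⟨rfl⟩

variable [Module.Projective R P]

theorem exists_unimodular (hd : ringKrullDim R ≤ d)
    (hrk : ∀ p : PrimeSpectrum R, d + 2 ≤ Module.rankAtStalk (R := R) P p + 1)
    (a : R) : ∀ (p : P), (∀ x : MaximalSpectrum R, a ∉ x.asIdeal ∨ ∃ φ : P →ₗ[R] R, φ p ∉ x.asIdeal) →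
    ∃ (v : P) (ψ : P →ₗ[R] R), ψ (p + a • v) = 1 := by
  classical
  haveI := noetherianSpace (R := R)
  have hdim : topologicalKrullDim (MaximalSpectrum R) ≤ d := by
    refine (Topology.IsInducing.topologicalKrullDim_le (f := MaximalSpectrum.toPrimeSpectrum) ⟨rfl⟩).trans ?_
    rw [PrimeSpectrum.topologicalKrullDim_eq_ringKrullDim]; exact hd
  suffices key : ∀ (C : TopologicalSpace.Closeds (MaximalSpectrum R)) (p : P),
      (C : Set (MaximalSpectrum R)) = {x | SerreSplit.img x.asIdeal p = 0} →
      (∀ x : MaximalSpectrum R, a ∈ x.asIdeal → SerreSplit.img x.asIdeal p ≠ 0) →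
      ∃ (v : P) (ψ : P →ₗ[R] R), ψ (p + a • v) = 1 by
    intro p hp
    have hcl : IsClosed {x : MaximalSpectrum R | SerreSplit.img x.asIdeal p = 0} := by
      convert SerreSplit.isClosed_bad (R := R) (fun _ : Fin 1 => p) using 1
      ext x
      haveI := x.isMaximal
      letI := Ideal.Quotient.field x.asIdeal
      simp [SerreSplit.bad, linearIndependent_unique_iff]
    exact key ⟨_, hcl⟩ p rfl fun x hx =>
      (SerreSplit.img_ne_zero_iff x.asIdeal p).2 ((hp x).resolve_left (not_not_intro hx))
  intro C
  induction C using WellFoundedLT.induction with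
  | ind C ih =>
    intro p hC hp
    rcases Set.eq_empty_or_nonempty (C : Set (MaximalSpectrum R)) with he | ⟨x₀, hx₀⟩
    · have htop : LinearMap.range (Module.Dual.eval R P p) = ⊤ := by
        by_contra hne
        obtain ⟨I, hI, hle⟩ := Ideal.exists_le_maximal _ hne
        haveI := hI
        have h0 : SerreSplit.img I p ≠ 0 := fun h => by
          have : (⟨I, hI⟩ : MaximalSpectrum R) ∈ (C : Set (MaximalSpectrum R)) := by rw [hC]; exact h
          simp [he] at this
        obtain ⟨φ, hφ⟩ := (SerreSplit.img_ne_zero_iff I p).1 h0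
        exact hφ (hle ⟨φ, rfl⟩)
      obtain ⟨ψ, hψ⟩ : (1 : R) ∈ LinearMap.range (Module.Dual.eval R P p) := htop ▸ Submodule.mem_top
      exact ⟨0, ψ, by rw [smul_zero, add_zero]; exact hψ⟩
    haveI := x₀.isMaximal
    letI := Ideal.Quotient.field x₀.asIdeal
    have hV := finrank_Vs_ge (P := P) (N := d + 1) (fun q => by have := hrk q; omega) x₀
    obtain ⟨z, hz⟩ : ∃ z : SerreSplit.Vs P x₀.asIdeal, z ≠ 0 := by
      by_contra! hall
      haveI : Subsingleton (SerreSplit.Vs P x₀.asIdeal) := ⟨fun u w => by rw [hall u, hall w]⟩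
      rw [Module.finrank_zero_of_subsingleton] at hV
      omega
    obtain ⟨w, rfl⟩ := SerreSplit.img_surjective x₀.asIdeal z
    have hdimk : ∀ x : MaximalSpectrum R, 1 + d ≤ Module.finrank (R ⧸ x.asIdeal) (SerreSplit.Vs P x.asIdeal) :=
      fun x => by have := finrank_Vs_ge (P := P) (N := d + 1) (fun q => by have := hrk q; omega) x; omega
    -- one more than the dimension is available outside `C`
    obtain ⟨t, F', hF', ht, hb, hcod⟩ := SerreSplit.exists_section d 1 (fun _ : Fin 1 => p) (C : Set (MaximalSpectrum R))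
      C.isClosed hdimk (fun x hx => by
        rw [hC]
        haveI := x.isMaximal
        letI := Ideal.Quotient.field x.asIdeal
        simpa [SerreSplit.bad, linearIndependent_unique_iff] using hx)
      {x₀} (by simpa using hx₀) (fun _ => w)
    -- bad points outside `C` are isolated: kill the new section there
    have hfin : F'.Finite := by
      obtain ⟨S₀, hfin, hcl, hirr, hS₀⟩ :=
        TopologicalSpace.NoetherianSpace.exists_finite_set_isClosed_irreducible hF'
      rw [hS₀]
      refine hfin.sUnion fun Z hZ => ?_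
      suffices hsub : Z.Subsingleton from hsub.finite
      intro u hu v hv
      by_contra huv
      let Zc : TopologicalSpace.IrreducibleCloseds (MaximalSpectrum R) := ⟨Z, hirr Z hZ, hcl Z hZ⟩
      let Uc : TopologicalSpace.IrreducibleCloseds (MaximalSpectrum R) := ⟨{u}, isIrreducible_singleton, isClosed_singleton⟩
      have hlt : Uc < Zc := by
        refine lt_of_le_of_ne (show ({u} : Set (MaximalSpectrum R)) ⊆ Z by simpa using hu) fun he => huv ?_
        have : v ∈ ({u} : Set (MaximalSpectrum R)) := by
          have e := congrArg (fun Y : TopologicalSpace.IrreducibleCloseds (MaximalSpectrum R) => (Y : Set (MaximalSpectrum R))) he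
          exact (show ({u} : Set (MaximalSpectrum R)) = Z from e) ▸ hv
        exact (Set.mem_singleton_iff.1 this).symm
      have h1 := hcod Zc (hS₀ ▸ Set.subset_sUnion_of_mem hZ)
      have h2 : ((d + 1 : ℕ) : ℕ∞) ≤ Order.coheight Uc :=
        le_trans (by push_cast; gcongr) (Order.coheight_add_one_le hlt)
      have h3 := le_trans (Order.coheight_le_krullDim Uc) hdim
      have h4 : ((d + 1 : ℕ) : ℕ∞) ≤ (d : ℕ∞) := h2.trans (by exact_mod_cast h3)
      have h5 : d + 1 ≤ d := by exact_mod_cast h4
      omega
    obtain ⟨r, hr⟩ := SerreSplit.exists_of_finset (insert x₀ hfin.toFinset) fun x => if x = x₀ then (1 : R) else 0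
    have hC' : ∀ x : MaximalSpectrum R, SerreSplit.img x.asIdeal p = 0 ↔ x ∈ (C : Set (MaximalSpectrum R)) :=
      fun x => by rw [hC]; rfl
    have hout : ∀ x : MaximalSpectrum R, SerreSplit.img x.asIdeal p ≠ 0 →
        SerreSplit.img x.asIdeal (p + a • r • t) ≠ 0 := by
      intro x hx h0
      haveI := x.isMaximal
      letI := Ideal.Quotient.field x.asIdeal
      rw [smul_smul, map_add, ← SerreSplit.smul_img] at h0
      by_cases hr0 : Ideal.Quotient.mk x.asIdeal (a * r) = 0
      · rw [hr0, zero_smul, add_zero] at h0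
        exact hx h0
      by_cases hxF : x ∈ F'
      · have hne : x ≠ x₀ := fun e => hx ((hC' x).2 (e ▸ hx₀))
        have hmem := hr x (Finset.mem_insert_of_mem (hfin.mem_toFinset.2 hxF))
        rw [if_neg hne, sub_zero] at hmem
        exact hr0 (Ideal.Quotient.eq_zero_iff_mem.2 (Ideal.mul_mem_left _ a hmem))
      · have hli : ¬ x ∈ SerreSplit.bad (Fin.snoc (fun _ : Fin 1 => p) t) := fun h =>
          (hb h).elim (fun h => hx ((hC' x).2 h)) hxF
        have hli' := not_not.1 hli
        rw [show (fun i => SerreSplit.img x.asIdeal ((Fin.snoc (fun _ : Fin 1 => p) t : Fin 2 → P) i)) =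
          Fin.snoc (fun _ : Fin 1 => SerreSplit.img x.asIdeal p) (SerreSplit.img x.asIdeal t) from
            Fin.comp_snoc (SerreSplit.img x.asIdeal) _ t, linearIndependent_finSnoc] at hli'
        refine hli'.2 ?_
        rw [Set.range_const, Submodule.mem_span_singleton]
        refine ⟨-(Ideal.Quotient.mk x.asIdeal (a * r))⁻¹, ?_⟩
        rw [eq_neg_of_add_eq_zero_left h0, smul_neg, smul_smul, neg_mul, inv_mul_cancel₀ hr0, neg_smul, one_smul, neg_neg]
    have hax₀ : a ∉ x₀.asIdeal := fun h => hp x₀ h ((hC' x₀).2 hx₀)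
    have hin : SerreSplit.img x₀.asIdeal (p + a • r • t) ≠ 0 := by
      intro h0
      have hr1 := hr x₀ (Finset.mem_insert_self _ _)
      rw [if_pos rfl] at hr1
      have e : Ideal.Quotient.mk x₀.asIdeal (a * r) = Ideal.Quotient.mk x₀.asIdeal a := by
        rw [map_mul, Ideal.Quotient.eq.2 hr1, map_one, mul_one]
      rw [smul_smul, map_add, (hC' x₀).2 hx₀, zero_add, ← SerreSplit.smul_img, e, ht x₀ (by simp)] at h0
      exact (smul_eq_zero.1 h0).elim (fun h => hax₀ (Ideal.Quotient.eq_zero_iff_mem.1 h)) hz
    have hcl : IsClosed {x : MaximalSpectrum R | SerreSplit.img x.asIdeal (p + a • r • t) = 0} := by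
      convert SerreSplit.isClosed_bad (R := R) (fun _ : Fin 1 => p + a • r • t) using 1
      ext x
      haveI := x.isMaximal
      letI := Ideal.Quotient.field x.asIdeal
      simp [SerreSplit.bad, linearIndependent_unique_iff]
    obtain ⟨v, ψ, hψ⟩ := ih ⟨_, hcl⟩ (lt_of_le_of_ne
      (show {x : MaximalSpectrum R | SerreSplit.img x.asIdeal (p + a • r • t) = 0} ⊆ (C : Set (MaximalSpectrum R)) from
        fun x hx => by_contra fun h => hout x (fun h0 => h ((hC' x).1 h0)) hx)
      (fun e => hin (show x₀ ∈ {x : MaximalSpectrum R | SerreSplit.img x.asIdeal (p + a • r • t) = 0} by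
        have e' := congrArg (fun Y : TopologicalSpace.Closeds (MaximalSpectrum R) => (Y : Set (MaximalSpectrum R))) e
        exact (show {x : MaximalSpectrum R | SerreSplit.img x.asIdeal (p + a • r • t) = 0} = _ from e') ▸ hx₀)))
      (p + a • r • t) rfl (fun x hx => by
        rw [map_add, SerreSplit.img_smul_eq_zero hx, add_zero]; exact hp x hx)
    exact ⟨r • t + v, ψ, by rw [smul_add, ← add_assoc]; exact hψ⟩

theorem cancel_one (hd : ringKrullDim R ≤ d)
    (hrk : ∀ p : PrimeSpectrum R, d + 1 ≤ Module.rankAtStalk (R := R) P p)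
    {P' : Type u} [AddCommGroup P'] [Module R P'] (e : (P × R) ≃ₗ[R] (P' × R)) : Nonempty (P ≃ₗ[R] P') := by
  obtain ⟨p, a, hq⟩ : ∃ p a, e (p, a) = (0, 1) := ⟨(e.symm (0, 1)).1, (e.symm (0, 1)).2, e.apply_symm_apply _⟩
  obtain ⟨v, ψ, hψ⟩ := exists_unimodular hd (fun q => by have := hrk q; omega) a p fun x => by
    by_contra! h
    let f : P × R →ₗ[R] R := LinearMap.snd R P' R ∘ₗ e.toLinearMap
    have h1 : f (p, a) = 1 := by simp [f, hq]
    have h2 : f (p, a) = f (p, 0) + a * f (0, 1) := by
      rw [← smul_eq_mul, ← map_smul, ← map_add]; simp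
    refine x.isMaximal.ne_top ((Ideal.eq_top_iff_one _).2 ?_)
    rw [← h1, h2]
    exact add_mem (h.2 (f ∘ₗ LinearMap.inl R P R)) (Ideal.mul_mem_right _ _ h.1)
  -- an automorphism of `P × R` moving `(0, 1)` to `(p, a)`
  let A₁ : (P × R) ≃ₗ[R] (P × R) :=
    { toFun := fun z => (z.1 + z.2 • v, z.2)
      invFun := fun z => (z.1 - z.2 • v, z.2)
      map_add' := fun z w => by simp [add_smul]; abel
      map_smul' := fun c z => by simp [smul_add, smul_smul]
      left_inv := fun z => by simp
      right_inv := fun z => by simp }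
  let A₂ : (P × R) ≃ₗ[R] (P × R) :=
    { toFun := fun z => (z.1, z.2 + (1 - a) * ψ z.1)
      invFun := fun z => (z.1, z.2 - (1 - a) * ψ z.1)
      map_add' := fun z w => by ext <;> simp [mul_add]; ring
      map_smul' := fun c z => by ext <;> simp [mul_add]; ring
      left_inv := fun z => by simp
      right_inv := fun z => by simp }
  let A₃ : (P × R) ≃ₗ[R] (P × R) :=
    { toFun := fun z => (z.1 - z.2 • (p + a • v), z.2)
      invFun := fun z => (z.1 + z.2 • (p + a • v), z.2)
      map_add' := fun z w => by simp [add_smul]; abel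
      map_smul' := fun c z => by simp [smul_sub, smul_smul, mul_assoc]
      left_inv := fun z => by simp
      right_inv := fun z => by simp }
  have hA : A₃ (A₂ (A₁ (p, a))) = (0, 1) := by
    simp [A₁, A₂, A₃, hψ]
  let f : (P × R) ≃ₗ[R] (P' × R) := ((A₁.trans A₂).trans A₃).symm.trans e
  have hf : f (0, 1) = (0, 1) := by
    show e (((A₁.trans A₂).trans A₃).symm (0, 1)) = _
    rw [← hA]
    simp only [LinearEquiv.trans_symm, LinearEquiv.trans_apply, LinearEquiv.symm_apply_apply]
    exact hq
  have hfs : f.symm (0, 1) = (0, 1) := by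
    conv_lhs => rw [← hf]
    exact f.symm_apply_apply _
  have key : ∀ {A B : Type u} [AddCommGroup A] [Module R A] [AddCommGroup B] [Module R B] (g : (A × R) ≃ₗ[R] (B × R)),
      g (0, 1) = (0, 1) → ∀ x, (g.symm ((g (x, 0)).1, 0)).1 = x := by
    intro A B _ _ _ _ g hg x
    have : ((g (x, 0)).1, (0 : R)) = g (x, 0) - (g (x, 0)).2 • g (0, 1) := by rw [hg]; ext <;> simp
    rw [this, map_sub, map_smul, LinearEquiv.symm_apply_apply, LinearEquiv.symm_apply_apply]
    simp
  exact ⟨{ (LinearMap.fst R P' R ∘ₗ f.toLinearMap ∘ₗ LinearMap.inl R P R) with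
    invFun := fun y => (f.symm (y, 0)).1
    left_inv := fun x => key f hf x
    right_inv := fun y => key f.symm hfs y }⟩

theorem cancel (hd : ringKrullDim R ≤ d) {P' : Type u} [AddCommGroup P'] [Module R P'] : ∀ (m : ℕ),
    (∀ p : PrimeSpectrum R, d + 1 ≤ Module.rankAtStalk (R := R) P p) →
    ((P × (Fin m → R)) ≃ₗ[R] (P' × (Fin m → R))) → Nonempty (P ≃ₗ[R] P') := by
  intro m
  induction m with
  | zero =>
    intro _ e
    exact ⟨(LinearEquiv.prodUnique).symm.trans (e.trans LinearEquiv.prodUnique)⟩
  | succ m ih =>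
    intro hrk e
    let σ : (Fin (m + 1) → R) ≃ₗ[R] ((Fin m → R) × R) :=
      { toFun := fun c => (fun i => c i.succ, c 0)
        invFun := fun z => Fin.cons z.2 z.1
        map_add' := fun _ _ => rfl
        map_smul' := fun _ _ => rfl
        left_inv := fun c => Fin.cons_self_tail c
        right_inv := fun z => rfl }
    let e' : ((P × (Fin m → R)) × R) ≃ₗ[R] ((P' × (Fin m → R)) × R) :=
      (LinearEquiv.prodAssoc R P (Fin m → R) R).trans
        (((LinearEquiv.refl R P).prodCongr σ.symm).trans
          (e.trans (((LinearEquiv.refl R P').prodCongr σ).trans (LinearEquiv.prodAssoc R P' (Fin m → R) R).symm)))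
    obtain ⟨e''⟩ := cancel_one hd (fun q => by
      have := hrk q
      rw [Module.rankAtStalk_prod, Pi.add_apply]
      omega) e'
    exact ih hrk e''

end Groth.L02.BassCancel
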