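import Mathlib.AlgebraicGeometry.Morphisms.UniversallyInjective
import Mathlib.AlgebraicGeometry.Pullbacks
import Mathlib.RingTheory.Kaehler.Basic
import Mathlib.RingTheory.Nilpotent.Lemmas
import Mathlib.RingTheory.Spectrum.Prime.RingHom

/-!
An algebraic criterion for universal injectivity of `Spec S → Spec R`.
-/

universe u

open TensorProduct AlgebraicGeometry CategoryTheory

namespace Groth.L02.Radicial

/-- if `1 ⊗ s - s ⊗ 1` is nilpotent for all `s` then `Spec S → Spec R` is universally injective -/
theorem universallyInjective {R S : Type u} [CommRing R] [CommRing S] [Algebra R S]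
    (h : ∀ s : S, IsNilpotent ((1 : S) ⊗ₜ[R] s - s ⊗ₜ[R] (1 : S))) :
    UniversallyInjective (Spec.map (CommRingCat.ofHom (algebraMap R S))) := by
  rw [UniversallyInjective.iff_diagonal, diagonal_SpecMap, MorphismProperty.cancel_right_of_respectsIso @Surjective]
  refine ⟨fun x => ?_⟩
  let F := (Algebra.TensorProduct.lmul' R : S ⊗[R] S →ₐ[R] S).toRingHom
  have hF : Function.Surjective F := fun s => ⟨s ⊗ₜ 1, by simp [F]⟩
  have hker : RingHom.ker F ≤ nilradical (S ⊗[R] S) := by
    rw [show RingHom.ker F = KaehlerDifferential.ideal R S from rfl, ← KaehlerDifferential.span_range_eq_ideal,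
      Ideal.span_le]
    rintro _ ⟨s, rfl⟩
    exact mem_nilradical.mpr (h s)
  have hx : x ∈ Set.range (PrimeSpectrum.comap F) := by
    rw [range_comap_of_surjective S F hF]
    exact fun z hz => (@nilradical_le_prime _ _ (PrimeSpectrum.asIdeal x) x.2) (hker hz)
  exact hx

end Groth.L02.Radicial
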