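import Mathlib.Algebra.CharP.Frobenius
import Mathlib.Algebra.CharP.Lemmas
import Mathlib.Algebra.CharP.Algebra
import Mathlib.FieldTheory.KummerPolynomial
import Mathlib.Order.Zorn
import Mathlib.RingTheory.Ideal.Maps
import Mathlib.Algebra.Ring.Subring.Basic

/-!
A square-zero surjection onto a field of characteristic `p` has a ring section.
-/

set_option autoImplicit false
universe u

open Polynomial

namespace Groth.L02.CharPSection

theorem exists_section {B : Type u} {K : Type*} [CommRing B] [Field K] (p : ℕ) [hp : Fact p.Prime] [CharP B p]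
    [CharP K p] (π : B →+* K) (hπ : Function.Surjective π) (hsq : ∀ x y, π x = 0 → π y = 0 → x * y = 0) :
    ∃ s : K →+* B, π.comp s = RingHom.id K := by
  classical
  have hzero : ∀ x, π x = 0 → x ^ p = 0 := by
    intro x hx
    obtain ⟨m, hm⟩ : ∃ m, p = m + 2 := ⟨p - 2, by have := hp.out.two_le; omega⟩
    rw [hm, pow_add, sq, hsq x x hx hx, mul_zero]
  choose ℓ hℓ using hπ
  have hfrob : ∀ (x : B) (c : K), π x = c → x ^ p = ℓ c ^ p := by
    intro x c hx
    rw [← sub_eq_zero, ← sub_pow_char, hzero]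
    rw [map_sub, hx, hℓ, sub_self]
  let φ : K →+* B :=
    { toFun := fun c => ℓ c ^ p
      map_one' := by rw [← hfrob 1 1 (map_one π), one_pow]
      map_mul' := fun a b => by rw [← hfrob (ℓ a * ℓ b) (a * b) (by rw [map_mul, hℓ, hℓ]), mul_pow]
      map_zero' := by rw [← hfrob 0 0 (map_zero π), zero_pow hp.out.pos.ne']
      map_add' := fun a b => by rw [← hfrob (ℓ a + ℓ b) (a + b) (by rw [map_add, hℓ, hℓ]), add_pow_char] }
  have hφ : ∀ c, π (φ c) = c ^ p := fun c => by simp [φ, hℓ]
  let S : Set (Subring B) := {T | φ.range ≤ T ∧ ∀ x ∈ T, π x = 0 → x = 0}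
  have hne : φ.range ∈ S := ⟨le_rfl, by
    rintro _ ⟨c, rfl⟩ h
    rw [hφ] at h
    rw [eq_zero_of_pow_eq_zero h, map_zero]⟩
  obtain ⟨T, -, hTmax⟩ := zorn_le_nonempty₀ S (fun C hC hchain y hy => by
    refine ⟨sSup C, ⟨le_trans (hC hy).1 (le_sSup hy), fun x hx h0 => ?_⟩, fun z hz => le_sSup hz⟩
    rw [Subring.mem_sSup_of_directedOn ⟨y, hy⟩ hchain.directedOn] at hx
    obtain ⟨T', hT', hx'⟩ := hx
    exact (hC hT').2 x hx' h0) φ.range hne
  have hφT : φ.range ≤ T := hTmax.prop.1
  have hinj : ∀ x ∈ T, π x = 0 → x = 0 := hTmax.prop.2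
  haveI : Nontrivial B := π.domain_nontrivial
  haveI : Nontrivial T := ⟨0, 1, fun h => zero_ne_one (congrArg Subtype.val h)⟩
  let F : Subfield K :=
    { T.map π with
      inv_mem' := by
        rintro _ ⟨t, ht, rfl⟩
        by_cases h0 : π t = 0
        · exact ⟨0, T.zero_mem, by simp [h0]⟩
        refine ⟨t ^ (p - 1) * φ (π t)⁻¹, T.mul_mem (T.pow_mem ht _) (hφT ⟨_, rfl⟩), ?_⟩
        rw [map_mul, map_pow, hφ, inv_pow]
        obtain ⟨m, hm⟩ : ∃ m, p = m + 1 := ⟨p - 1, by have := hp.out.pos; omega⟩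
        simp [hm, pow_succ]
        field_simp }
  have hsurj : ∀ c : K, c ∈ F := by
    intro c
    by_contra hc
    let ev : T[X] →+* B := eval₂RingHom T.subtype (ℓ c)
    let g : T →+* F := (π.comp T.subtype).codRestrict F (fun t => ⟨t.1, t.2, rfl⟩)
    have hφc : φ c ∈ T := hφT ⟨c, rfl⟩
    let q : T[X] := X ^ p - C ⟨φ c, hφc⟩
    have hq : q.Monic := monic_X_pow_sub_C _ hp.out.pos.ne'
    have hevq : ev q = 0 := by simp [ev, q, φ]
    have hirr : Irreducible (X ^ p - C (g ⟨φ c, hφc⟩) : F[X]) := by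
      refine X_pow_sub_C_irreducible_of_prime hp.out fun b hb => hc ?_
      have hb' : (b : K) ^ p = c ^ p := by
        have := congrArg Subtype.val hb
        simpa [g, hφ] using this
      rw [← frobenius_def, ← frobenius_def] at hb'
      exact frobenius_inj K p hb' ▸ b.2
    have hrange : ev.range ∈ S := by
      refine ⟨hφT.trans fun t ht => ⟨C ⟨t, ht⟩, by simp [ev]⟩, ?_⟩
      rintro _ ⟨P, rfl⟩ h0
      rw [← modByMonic_add_div P q, map_add, map_mul, hevq, zero_mul, add_zero] at h0 ⊢
      have hr : ((P %ₘ q).map g).eval₂ F.subtype c = 0 := by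
        rw [eval₂_map]
        rw [show F.subtype.comp g = π.comp T.subtype from rfl, ← h0]
        simp only [ev, coe_eval₂RingHom, hom_eval₂, hℓ]
      suffices (P %ₘ q).map g = 0 by
        have h1 : P %ₘ q = 0 := by
          rw [← Polynomial.map_eq_zero_iff (f := g) (fun a b hab => ?_)]
          · exact this
          · apply Subtype.ext
            rw [← sub_eq_zero]
            refine hinj _ (T.sub_mem a.2 b.2) ?_
            rw [map_sub, sub_eq_zero]
            exact congrArg Subtype.val hab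
        rw [h1, map_zero]
      by_contra hne'
      letI : Algebra F K := F.subtype.toAlgebra
      have hmin : minpoly F c = X ^ p - C (g ⟨φ c, hφc⟩) :=
        (minpoly.eq_of_irreducible_of_monic hirr (by simp [RingHom.algebraMap_toAlgebra, g, hφ])
          (monic_X_pow_sub_C _ hp.out.pos.ne')).symm
      have hdeg := minpoly.degree_le_of_ne_zero F c hne' (by rw [aeval_def]; exact hr)
      rw [hmin, degree_X_pow_sub_C hp.out.pos] at hdeg
      have h1 : ((P %ₘ q).map g).degree < (q.degree) :=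
        degree_map_le.trans_lt (degree_modByMonic_lt P hq)
      rw [degree_X_pow_sub_C hp.out.pos] at h1
      exact absurd hdeg (not_le.mpr h1)
    have hle : T ≤ ev.range := fun t ht => ⟨C ⟨t, ht⟩, by simp [ev]⟩
    have hmem : ℓ c ∈ ev.range := ⟨X, by simp [ev]⟩
    exact hc ⟨ℓ c, hTmax.le_of_ge hrange hle hmem, hℓ c⟩
  have hbij : Function.Bijective (π.comp T.subtype) := by
    refine ⟨fun a b hab => Subtype.ext ?_, fun c => ?_⟩
    · rw [← sub_eq_zero]
      refine hinj _ (T.sub_mem a.2 b.2) ?_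
      rw [map_sub, sub_eq_zero]
      exact hab
    · obtain ⟨t, ht, rfl⟩ := hsurj c
      exact ⟨⟨t, ht⟩, rfl⟩
  exact ⟨T.subtype.comp (RingEquiv.ofBijective _ hbij).symm.toRingHom,
    RingHom.ext fun c => (RingEquiv.ofBijective _ hbij).apply_symm_apply c⟩

end Groth.L02.CharPSection
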