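import Groth.Agent.L24.Alg.FlatModel
import Mathlib.RingTheory.Spectrum.Prime.Chevalley
import Mathlib.RingTheory.Flat.FaithfullyFlat.Algebra
import Mathlib.RingTheory.LocalRing.ResidueField.Ideal
import Mathlib.RingTheory.TensorProduct.Free
import Mathlib.Algebra.MvPolynomial.CommRing

/-!
Faithfully flat algebras of finite presentation descend to finitely presented algebras.
-/

set_option autoImplicit false
universe u

open TensorProduct PrimeSpectrum

namespace Groth.L02.DescendFF

theorem mem_range_baseChange {A B C : Type*} [CommRing A] [CommRing B] [CommRing C] [Algebra A B]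
    [Algebra A C] (p : PrimeSpectrum C)
    (h : comap (algebraMap A C) p ∈ Set.range (comap (algebraMap A B))) :
    p ∈ Set.range (comap (algebraMap C (C ⊗[A] B))) := by
  rw [← nontrivial_iff_mem_rangeComap] at h ⊢
  set q := comap (algebraMap A C) p with hq
  let φ : q.asIdeal.ResidueField →ₐ[A] p.asIdeal.ResidueField :=
    Ideal.ResidueField.mapₐ q.asIdeal p.asIdeal (Algebra.ofId A C) (by simp [hq, Algebra.ofId])
  letI : Algebra q.asIdeal.ResidueField p.asIdeal.ResidueField := φ.toRingHom.toAlgebra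
  haveI : IsScalarTower A q.asIdeal.ResidueField p.asIdeal.ResidueField :=
    .of_algebraMap_eq fun x => (φ.commutes x).symm
  haveI : Nontrivial (p.asIdeal.ResidueField ⊗[q.asIdeal.ResidueField] (q.asIdeal.ResidueField ⊗[A] B)) :=
    TensorProduct.nontrivial_of_linearMap_injective_of_flat_left _ _ _
      (f := Algebra.linearMap q.asIdeal.ResidueField (q.asIdeal.ResidueField ⊗[A] B))
      (algebraMap q.asIdeal.ResidueField (q.asIdeal.ResidueField ⊗[A] B)).injective
  let e₁ := TensorProduct.AlgebraTensorModule.cancelBaseChange A q.asIdeal.ResidueField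
    p.asIdeal.ResidueField p.asIdeal.ResidueField B
  let e₂ := TensorProduct.AlgebraTensorModule.cancelBaseChange A C
    p.asIdeal.ResidueField p.asIdeal.ResidueField B
  exact ((e₁.restrictScalars A).trans (e₂.symm.restrictScalars A)).toEquiv.nontrivial_congr.mp ‹_›

theorem exists_stage_aux {R T A : Type u} [CommRing R] [CommRing T] [CommRing A] [Algebra R T]
    [Algebra.FinitePresentation R T] [Algebra R A] (g : T →ₐ[R] A) {ι : Type} [Fintype ι] (f : ι → T) (a : ι → A)
    (h : ∑ i, a i * g (f i) = 1) :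
    ∃ (A₁ : Type u) (_ : CommRing A₁) (_ : Algebra R A₁) (ι₁ : T →ₐ[R] A₁) (φ : A₁ →ₐ[R] A),
      φ.comp ι₁ = g ∧ Algebra.FinitePresentation R A₁ ∧ ∃ y : ι → A₁, ∑ i, y i * ι₁ (f i) = 1 := by
  let rel : MvPolynomial ι T := ∑ i, MvPolynomial.X i * MvPolynomial.C (f i) - 1
  let ev : MvPolynomial ι T →ₐ[R] A :=
    { MvPolynomial.eval₂Hom g.toRingHom a with
      commutes' := fun r => by
        simp [IsScalarTower.algebraMap_apply R T (MvPolynomial ι T)] }
  have hrel : ev rel = 0 := by
    simp [ev, rel, h]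
  haveI : Algebra.FinitePresentation R (MvPolynomial ι T) :=
    Algebra.FinitePresentation.trans R T (MvPolynomial ι T)
  refine ⟨MvPolynomial ι T ⧸ Ideal.span {rel}, inferInstance, inferInstance,
    (Ideal.Quotient.mkₐ R _).comp (IsScalarTower.toAlgHom R T (MvPolynomial ι T)),
    Ideal.Quotient.liftₐ _ ev (fun x hx => by
      obtain ⟨c, rfl⟩ := Ideal.mem_span_singleton.mp hx
      simp [hrel]),
    ?_, Algebra.FinitePresentation.quotient (Submodule.fg_span_singleton rel),
    fun i => Ideal.Quotient.mk _ (MvPolynomial.X i), ?_⟩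
  · ext x
    show ev (MvPolynomial.C x) = g x
    simp [ev]
  · have : Ideal.Quotient.mk (Ideal.span {rel}) rel = 0 :=
      Ideal.Quotient.eq_zero_iff_mem.mpr (Ideal.mem_span_singleton_self _)
    simp only [rel, map_sub, map_sum, map_mul, map_one, sub_eq_zero] at this
    exact this

/-- A finitely presented `R`-algebra over which a relation `∑ aᵢ fᵢ = 1` holds. -/
theorem exists_stage {R A' A : Type u} [CommRing R] [CommRing A'] [CommRing A] [Algebra R A] [Algebra A' A]
    [Algebra.FinitePresentation ℤ A'] {ι : Type} [Fintype ι] (f : ι → A') (a : ι → A)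
    (h : ∑ i, a i * algebraMap A' A (f i) = 1) :
    ∃ (A₁ : Type u) (_ : CommRing A₁) (_ : Algebra R A₁) (_ : Algebra A' A₁) (_ : Algebra A₁ A),
      IsScalarTower R A₁ A ∧ IsScalarTower A' A₁ A ∧ Algebra.FinitePresentation R A₁ ∧
      ∃ y : ι → A₁, ∑ i, y i * algebraMap A' A₁ (f i) = 1 := by
  let g : R ⊗[ℤ] A' →ₐ[R] A :=
    Algebra.TensorProduct.lift (Algebra.ofId R A) ((algebraMap A' A).toIntAlgHom) (fun _ _ => Commute.all _ _)
  have hg : ∀ x : A', g (1 ⊗ₜ x) = algebraMap A' A x := fun x => by simp [g]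
  haveI : Algebra.FinitePresentation R (R ⊗[ℤ] A') := inferInstance
  obtain ⟨A₁, _, _, ι₁, φ, hφ, hfp, y, hy⟩ :=
    exists_stage_aux g (fun i => (1 : R) ⊗ₜ[ℤ] f i) a (by simpa only [hg] using h)
  letI : Algebra A' A₁ := (ι₁.toRingHom.comp
    (Algebra.TensorProduct.includeRight : A' →ₐ[ℤ] R ⊗[ℤ] A').toRingHom).toAlgebra
  letI : Algebra A₁ A := φ.toRingHom.toAlgebra
  exact ⟨A₁, inferInstance, inferInstance, inferInstance, inferInstance,
    .of_algebraMap_eq fun r => (φ.commutes r).symm,
    .of_algebraMap_eq fun x => (hg x).symm.trans (DFunLike.congr_fun hφ ((1 : R) ⊗ₜ[ℤ] x)).symm,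
    hfp, y, hy⟩

theorem descend {R A B : Type u} [CommRing R] [CommRing A] [CommRing B] [Algebra R A]
    [Algebra A B] [Algebra.FinitePresentation A B] [Module.FaithfullyFlat A B] :
    ∃ (A₀ B₀ : Type u) (_ : CommRing A₀) (_ : CommRing B₀) (_ : Algebra R A₀) (_ : Algebra A₀ A) (_ : IsScalarTower R A₀ A)
      (_ : Algebra A₀ B₀), Algebra.FinitePresentation R A₀ ∧ Algebra.FinitePresentation A₀ B₀ ∧ Module.FaithfullyFlat A₀ B₀ ∧
      Nonempty (B ≃ₐ[A] A ⊗[A₀] B₀) := by
  classical
  obtain ⟨A', C₀, _, _, hfg, _, _, ⟨e⟩⟩ := Groth.L24.Alg.exists_subalgebra_fg_flat ℤ (B := A) B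
  haveI : Algebra.FiniteType ℤ A' := A'.fg_iff_finiteType.mp hfg
  haveI : Algebra.FinitePresentation ℤ A' := Algebra.FinitePresentation.of_finiteType.mp inferInstance
  haveI : IsNoetherianRing A' := Algebra.FiniteType.isNoetherianRing ℤ A'
  have hopen : IsOpen (Set.range (comap (algebraMap A' C₀))) :=
    isOpenMap_comap_of_hasGoingDown_of_finitePresentation.isOpen_range
  obtain ⟨I, hI⟩ := (isClosed_iff_zeroLocus_ideal _).mp hopen.isClosed_compl
  have htop : I.map (algebraMap A' A) = ⊤ := by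
    by_contra hne
    obtain ⟨m, hm, hle⟩ := Ideal.exists_le_maximal _ hne
    have h1 : comap (algebraMap A' A) ⟨m, hm.isPrime⟩ ∈ (Set.range (comap (algebraMap A' C₀)))ᶜ := by
      rw [hI, mem_zeroLocus]
      exact Ideal.map_le_iff_le_comap.mp hle
    obtain ⟨Q, hQ⟩ := PrimeSpectrum.comap_surjective_of_faithfullyFlat (A := A) (B := B) ⟨m, hm.isPrime⟩
    refine h1 ⟨comap ((Algebra.TensorProduct.includeRight : C₀ →ₐ[A'] A ⊗[A'] C₀).toRingHom.comp (RingHom.id _))
      (comap e.symm.toRingHom Q), ?_⟩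
    rw [← hQ, ← comap_comp_apply, ← comap_comp_apply, ← comap_comp_apply]
    congr 1
    apply RingHom.ext
    intro x
    simp only [RingHom.comp_apply, RingHom.id_apply, AlgHom.toRingHom_eq_coe, RingHom.coe_coe,
      AlgHom.commutes]
    show e.symm (algebraMap A' (A ⊗[A'] C₀) x) = _
    rw [IsScalarTower.algebraMap_apply A' A (A ⊗[A'] C₀)]
    exact e.symm.commutes _
  obtain ⟨G, hG⟩ := (IsNoetherian.noetherian I : I.FG)
  have hspan : (1 : A) ∈ Ideal.span (Set.range fun g : G => algebraMap A' A g) := by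
    have : Ideal.span (Set.range fun g : G => algebraMap A' A g) = I.map (algebraMap A' A) := by
      rw [← hG, Ideal.map_span]
      congr 1
      ext; simp
    rw [this, htop]; trivial
  obtain ⟨a, ha⟩ := (Ideal.mem_span_range_iff_exists_fun).mp hspan
  let eG : Fin G.card ≃ G := G.equivFin.symm
  obtain ⟨A₁, _, _, _, _, _, _, hfp, y, hy⟩ := exists_stage (R := R) (A' := A') (A := A)
    (fun i => (eG i : A')) (fun i => a (eG i)) (by rw [← ha]; exact eG.sum_comp fun g : G => a g * algebraMap A' A g)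
  refine ⟨A₁, A₁ ⊗[A'] C₀, inferInstance, inferInstance, inferInstance, inferInstance, inferInstance,
    inferInstance, hfp, inferInstance, Module.FaithfullyFlat.of_comap_surjective ?_,
    ⟨e.trans (Algebra.TensorProduct.cancelBaseChange A' A₁ A A C₀).symm⟩⟩
  intro p
  refine mem_range_baseChange p ?_
  by_contra hn
  have h2 : comap (algebraMap A' A₁) p ∈ (Set.range (comap (algebraMap A' C₀)))ᶜ := hn
  rw [hI, mem_zeroLocus] at h2
  refine p.isPrime.ne_top ((Ideal.eq_top_iff_one _).mpr ?_)
  rw [← hy]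
  exact sum_mem fun i _ => Ideal.mul_mem_left _ _ (h2 (hG ▸ Ideal.subset_span (eG i).2))

end Groth.L02.DescendFF
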