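import Groth.Agent.L02.Pi
import Groth.Agent.L02.TensorLimit
import Groth.Agent.L02.UnivInj

/-! Domination of linear maps and the criterion for Mittag-Leffler modules. -/

universe u

namespace Groth.L02

open TensorProduct

variable {R : Type u} [CommRing R] {P M N : Type u}
  [AddCommGroup P] [Module R P] [AddCommGroup M] [Module R M] [AddCommGroup N] [Module R N]

theorem exists_fg_ker_rTensor {L Q : Type u} [AddCommGroup L] [Module R L] [AddCommGroup Q]
    [Module R Q] (π : L →ₗ[R] M) (hπ : Function.Surjective π) (y : L ⊗[R] Q)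
    (hy : π.rTensor Q y = 0) :
    ∃ K0 : Submodule R L, K0.FG ∧ K0 ≤ LinearMap.ker π ∧
      y ∈ LinearMap.range (K0.subtype.rTensor Q) := by
  have hex : Function.Exact ((LinearMap.ker π).subtype.rTensor Q) (π.rTensor Q) :=
    rTensor_exact Q (LinearMap.exact_subtype_ker_map π) hπ
  obtain ⟨z, rfl⟩ := (hex _).mp hy
  obtain ⟨K0', hK0, z', hz'⟩ := exists_fg_rTensor (N := Q) (TensorProduct.comm R _ _ z)
  let K0 : Submodule R L := K0'.map (LinearMap.ker π).subtype
  let j : K0' →ₗ[R] K0 := (LinearMap.ker π).subtype.restrict (fun k hk => ⟨k, hk, rfl⟩)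
  refine ⟨K0, hK0.map _, by rintro _ ⟨k, _, rfl⟩; exact k.2,
    j.rTensor Q (TensorProduct.comm R _ _ z'), ?_⟩
  rw [← LinearMap.comp_apply, ← LinearMap.rTensor_comp,
    show K0.subtype.comp j = (LinearMap.ker π).subtype.comp K0'.subtype from LinearMap.ext fun _ => rfl,
    LinearMap.rTensor_comp, LinearMap.comp_apply]
  congr 1
  apply (TensorProduct.comm R _ _).injective
  have key : ∀ v : Q ⊗[R] K0', TensorProduct.comm R _ _
      (K0'.subtype.rTensor Q (TensorProduct.comm R _ _ v)) = K0'.subtype.lTensor Q v := fun v => by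
    induction v using TensorProduct.induction_on with
    | zero => simp
    | tmul a b => simp
    | add a b ha hb => simp only [map_add, ha, hb]
  rw [key, hz']

theorem factor_core {L F Q : Type u} [AddCommGroup L] [Module R L] [AddCommGroup F] [Module R F]
    [Module.FinitePresentation R F] [AddCommGroup Q] [Module R Q]
    (π : L →ₗ[R] M) (K0 : Submodule R L) (hK0 : K0.FG) (hK0π : K0 ≤ LinearMap.ker π)
    (ι : F →ₗ[R] L) (ρ : L →ₗ[R] F) (hfix : ∀ a ∈ K0, ι (ρ a) = a)
    (i₀ : P →ₗ[R] F) (hi₀ : ρ.comp (ι.comp i₀) = i₀) (x : P ⊗[R] Q)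
    (hx : (ι.comp i₀).rTensor Q x ∈ LinearMap.range (K0.subtype.rTensor Q)) :
    ∃ (P' : Type u) (_ : AddCommGroup P') (_ : Module R P') (_ : Module.FinitePresentation R P')
      (f' : P →ₗ[R] P') (h : P' →ₗ[R] M), π.comp (ι.comp i₀) = h ∘ₗ f' ∧ f'.rTensor Q x = 0 := by
  let K1 : Submodule R F := K0.map ρ
  have hle : K1 ≤ LinearMap.ker (π.comp ι) := by
    rintro _ ⟨k, hk, rfl⟩
    rw [LinearMap.mem_ker, LinearMap.comp_apply, hfix k hk]
    exact hK0π hk
  have hfp : Module.FinitePresentation R (F ⧸ K1) :=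
    Module.finitePresentation_of_surjective K1.mkQ K1.mkQ_surjective
      (by rw [Submodule.ker_mkQ]; exact hK0.map ρ)
  refine ⟨F ⧸ K1, inferInstance, inferInstance, hfp, K1.mkQ.comp i₀, K1.liftQ (π.comp ι) hle, ?_, ?_⟩
  · rw [← LinearMap.comp_assoc, ← LinearMap.comp_assoc, Submodule.liftQ_mkQ]
  · obtain ⟨z, hz⟩ := hx
    rw [← hi₀, ← LinearMap.comp_assoc, LinearMap.rTensor_comp, LinearMap.comp_apply, ← hz,
      ← LinearMap.comp_apply, ← LinearMap.rTensor_comp]
    have h0 : (K1.mkQ.comp ρ).comp K0.subtype = 0 :=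
      LinearMap.ext fun k => (Submodule.Quotient.mk_eq_zero K1).mpr ⟨k, k.2, rfl⟩
    rw [h0, LinearMap.rTensor_zero, LinearMap.zero_apply]

theorem exists_fp_factor_generic {L Q : Type u} [AddCommGroup L] [Module R L]
    [AddCommGroup Q] [Module R Q] [Module.FinitePresentation R P] (f : P →ₗ[R] M)
    (π : L →ₗ[R] M) (hπ : Function.Surjective π)
    (hL : ∀ J : Submodule R L, J.FG → ∃ (k : ℕ) (ι : (Fin k → R) →ₗ[R] L)
      (ρ : L →ₗ[R] (Fin k → R)), ∀ a ∈ J, ι (ρ a) = a)
    (x : P ⊗[R] Q) (hx : f.rTensor Q x = 0) :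
    ∃ (P' : Type u) (_ : AddCommGroup P') (_ : Module R P') (_ : Module.FinitePresentation R P')
      (f' : P →ₗ[R] P') (h : P' →ₗ[R] M), f = h ∘ₗ f' ∧ f'.rTensor Q x = 0 := by
  have hπ' : Function.Surjective (f.coprod π) := fun m => by
    obtain ⟨l, hl⟩ := hπ m
    exact ⟨(0, l), by simp [hl]⟩
  obtain ⟨K0, hK0, hK0π, hxK⟩ := exists_fg_ker_rTensor (f.coprod π) hπ'
    ((LinearMap.inl R P L).rTensor Q x) (by
      rw [← LinearMap.comp_apply, ← LinearMap.rTensor_comp, LinearMap.coprod_inl, hx])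
  obtain ⟨k, ι, ρ, hfix⟩ := hL (K0.map (LinearMap.snd R P L)) (hK0.map _)
  have : Module.FinitePresentation R (Fin k → R) := Module.finitePresentation_of_projective R _
  have : Module.FinitePresentation R (P × (Fin k → R)) := inferInstance
  have := factor_core (f.coprod π) K0 hK0 hK0π ((LinearMap.id).prodMap ι) ((LinearMap.id).prodMap ρ)
    (fun a ha => Prod.ext rfl (hfix a.2 ⟨a, ha, rfl⟩)) (LinearMap.inl R P (Fin k → R))
    (LinearMap.ext fun p => by simp) x (by
      rw [show (LinearMap.id.prodMap ι).comp (LinearMap.inl R P (Fin k → R)) = LinearMap.inl R P L from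
        LinearMap.ext fun p => by simp]
      exact hxK)
  rwa [show (LinearMap.id.prodMap ι).comp (LinearMap.inl R P (Fin k → R)) = LinearMap.inl R P L from
    LinearMap.ext fun p => by simp, LinearMap.coprod_inl] at this

theorem exists_coords_of_fg (α : Type u) (J : Submodule R (α →₀ R)) (hJ : J.FG) :
    ∃ (k : ℕ) (ι : (Fin k → R) →ₗ[R] (α →₀ R)) (ρ : (α →₀ R) →ₗ[R] (Fin k → R)),
      ∀ a ∈ J, ι (ρ a) = a := by
  obtain ⟨k, ι, ρ, _, h, _⟩ := exists_coords (M := (R : Type u)) α J hJ 0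
  exact ⟨k, ι, ρ, h⟩

theorem exists_fp_factor_of_mem_ker_rTensor {Q : Type u} [AddCommGroup Q] [Module R Q]
    [Module.FinitePresentation R P] (f : P →ₗ[R] M) (x : P ⊗[R] Q) (hx : f.rTensor Q x = 0) :
    ∃ (P' : Type u) (_ : AddCommGroup P') (_ : Module R P') (_ : Module.FinitePresentation R P')
      (f' : P →ₗ[R] P') (h : P' →ₗ[R] M), f = h ∘ₗ f' ∧ f'.rTensor Q x = 0 :=
  exists_fp_factor_generic f (Finsupp.linearCombination R (id : M → M))
    (fun m => ⟨Finsupp.single m 1, by simp⟩) (exists_coords_of_fg M) x hx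

theorem ker_rTensor_le_of_finitePresentation {P' : Type u} [AddCommGroup P'] [Module R P']
    (f : P →ₗ[R] N) (g : P →ₗ[R] P')
    (h : ∀ (Q : Type u) [AddCommGroup Q] [Module R Q], Module.FinitePresentation R Q →
      LinearMap.ker (f.rTensor Q) ≤ LinearMap.ker (g.rTensor Q))
    (Q : Type u) [AddCommGroup Q] [Module R Q] :
    LinearMap.ker (f.rTensor Q) ≤ LinearMap.ker (g.rTensor Q) := by
  intro x hx
  obtain ⟨Q', _, _, hQ', k, x', rfl, hx'⟩ := exists_fp_preimage_of_rTensor_eq_zero f x hx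
  have := h Q' hQ' hx'
  rw [LinearMap.mem_ker] at this ⊢
  rw [← LinearMap.comp_apply, LinearMap.rTensor_comp_lTensor, ← LinearMap.lTensor_comp_rTensor,
    LinearMap.comp_apply, this, map_zero]

theorem exists_factor_killing_family [Module.FinitePresentation R P] (f : P →ₗ[R] M)
    (hM : CAlg.IsMittagLeffler R M) {ι : Type u} {Q : ι → Type u} [∀ i, AddCommGroup (Q i)]
    [∀ i, Module R (Q i)] (z : ∀ i, P ⊗[R] Q i) (hz : ∀ i, f.rTensor (Q i) (z i) = 0) :
    ∃ (P' : Type u) (_ : AddCommGroup P') (_ : Module R P') (_ : Module.FinitePresentation R P')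
      (f' : P →ₗ[R] P') (h : P' →ₗ[R] M), f = h ∘ₗ f' ∧ ∀ i, f'.rTensor (Q i) (z i) = 0 := by
  obtain ⟨x, hx⟩ := piRightHom_surjective_of_finite (M := P) (Q := Q) z
  have hfx : f.rTensor (∀ i, Q i) x = 0 := by
    apply hM ι Q
    rw [piRightHom_rTensor, hx, map_zero]
    exact funext hz
  obtain ⟨P', _, _, hP', f', h, hfac, hf'x⟩ := exists_fp_factor_of_mem_ker_rTensor f x hfx
  refine ⟨P', inferInstance, inferInstance, hP', f', h, hfac, fun i => ?_⟩
  have := congrFun (congrArg (piRightHom R R P' Q) hf'x) i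
  rwa [piRightHom_rTensor, hx, map_zero] at this

/-- A map out of a finitely presented module into a Mittag-Leffler module is dominated by one of
its factors through finitely presented modules. -/
theorem exists_dominating_factor [Module.FinitePresentation R P] (f : P →ₗ[R] M)
    (hM : CAlg.IsMittagLeffler R M) :
    ∃ (P' : Type u) (_ : AddCommGroup P') (_ : Module R P') (_ : Module.FinitePresentation R P')
      (f' : P →ₗ[R] P') (h : P' →ₗ[R] M), f = h ∘ₗ f' ∧
      ∀ (Q : Type u) [AddCommGroup Q] [Module R Q],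
        LinearMap.ker (f.rTensor Q) = LinearMap.ker (f'.rTensor Q) := by
  obtain ⟨P', _, _, hP', f', h, hfac, hf'z⟩ := exists_factor_killing_family f hM
    (ι := Σ d : (Σ n : ℕ, Submodule R (Fin n → R)), LinearMap.ker (f.rTensor ((Fin d.1 → R) ⧸ d.2)))
    (Q := fun i => (Fin i.1.1 → R) ⧸ i.1.2) (fun i => i.2.1) (fun i => i.2.2)
  refine ⟨P', inferInstance, inferInstance, hP', f', h, hfac, fun Q₀ _ _ => le_antisymm ?_ ?_⟩
  · refine ker_rTensor_le_of_finitePresentation f f' (fun Q₁ _ _ hQ₁ z hz => ?_) Q₀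
    obtain ⟨n, K, e, _⟩ := Module.FinitePresentation.exists_fin R Q₁
    have hz' : (e.toLinearMap.lTensor P) z ∈ LinearMap.ker (f.rTensor ((Fin n → R) ⧸ K)) := by
      rw [LinearMap.mem_ker, ← LinearMap.comp_apply, LinearMap.rTensor_comp_lTensor,
        ← LinearMap.lTensor_comp_rTensor, LinearMap.comp_apply, LinearMap.mem_ker.mp hz, map_zero]
    have := hf'z ⟨⟨n, K⟩, ⟨_, hz'⟩⟩
    rw [LinearMap.mem_ker]
    apply (e.lTensor P').injective
    rw [map_zero]
    refine Eq.trans ?_ this
    show e.toLinearMap.lTensor P' (f'.rTensor Q₁ z) = f'.rTensor _ (e.toLinearMap.lTensor P z)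
    rw [← LinearMap.comp_apply, LinearMap.lTensor_comp_rTensor, ← LinearMap.rTensor_comp_lTensor,
      LinearMap.comp_apply]
  · intro z hz
    rw [LinearMap.mem_ker] at hz ⊢
    rw [hfac, LinearMap.rTensor_comp, LinearMap.comp_apply, hz, map_zero]

theorem isMittagLeffler_of_forall_dominate
    (h : ∀ (n : ℕ) (f : (Fin n → R) →ₗ[R] M),
      ∃ (Q : Type u) (_ : AddCommGroup Q) (_ : Module R Q) (_ : Module.FinitePresentation R Q)
        (g : (Fin n → R) →ₗ[R] Q), ∀ (N : Type u) [AddCommGroup N] [Module R N],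
          LinearMap.ker (f.rTensor N) = LinearMap.ker (g.rTensor N)) :
    CAlg.IsMittagLeffler R M := by
  classical
  intro ι Q _ _
  rw [injective_iff_map_eq_zero]
  intro x hx
  obtain ⟨n, f, x0, rfl⟩ : ∃ (n : ℕ) (f : (Fin n → R) →ₗ[R] M) (x0 : (Fin n → R) ⊗[R] (∀ i, Q i)),
      f.rTensor _ x0 = x := by
    obtain ⟨S, hS⟩ := TensorProduct.exists_finset x
    let e := S.equivFin
    refine ⟨S.card, Fintype.linearCombination R (fun i => (e.symm i).1.1),
      ∑ i, (Pi.single i (1 : R)) ⊗ₜ (e.symm i).1.2, ?_⟩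
    rw [hS, map_sum]
    rw [← Finset.sum_coe_sort S, ← Equiv.sum_comp e.symm]
    simp [Fintype.linearCombination_apply, Pi.single_apply]
  obtain ⟨Q', _, _, hQ', g, hg⟩ := h n f
  rw [piRightHom_rTensor] at hx
  have : g.rTensor (∀ i, Q i) x0 = 0 := by
    apply isMittagLeffler_of_finitePresentation (M := Q') ι Q
    rw [piRightHom_rTensor, map_zero]
    funext i
    exact LinearMap.mem_ker.mp ((hg (Q i)).le (LinearMap.mem_ker.mpr (congrFun hx i)))
  exact LinearMap.mem_ker.mp ((hg _).ge (LinearMap.mem_ker.mpr this))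

theorem factors_of_ker_rTensor_le {M' : Type u} [AddCommGroup M'] [Module R M'] (f : M →ₗ[R] N)
    (g : M →ₗ[R] M') [Module.FinitePresentation R (N ⧸ LinearMap.range f)]
    (h : ∀ (Q : Type u) [AddCommGroup Q] [Module R Q],
      LinearMap.ker (f.rTensor Q) ≤ LinearMap.ker (g.rTensor Q)) :
    ∃ k : N →ₗ[R] M', g = k ∘ₗ f := by
  let r : M →ₗ[R] N × M' := f.prod (-g)
  let S := LinearMap.range r
  let a : M' →ₗ[R] (N × M') ⧸ S := S.mkQ.comp (LinearMap.inr R N M')
  let b : N →ₗ[R] (N × M') ⧸ S := S.mkQ.comp (LinearMap.inl R N M')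
  have hle : S ≤ LinearMap.ker ((LinearMap.range f).mkQ.comp (LinearMap.fst R N M')) := by
    rintro _ ⟨m, rfl⟩
    simp [r]
  let q := S.liftQ _ hle
  have hq : Function.Surjective q := fun y => by
    obtain ⟨n, rfl⟩ := (LinearMap.range f).mkQ_surjective y
    exact ⟨S.mkQ (n, 0), rfl⟩
  have hex : Function.Exact a q := by
    intro y
    constructor
    · intro hy
      obtain ⟨⟨n, m'⟩, rfl⟩ := S.mkQ_surjective y
      obtain ⟨m, rfl⟩ := (Submodule.Quotient.mk_eq_zero _).mp hy
      refine ⟨m' + g m, ?_⟩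
      simp only [a, LinearMap.comp_apply, LinearMap.inr_apply, Submodule.mkQ_apply]
      rw [Submodule.Quotient.eq]
      exact ⟨-m, by simp [r]⟩
    · rintro ⟨m', rfl⟩
      simp [q, a]
  have hab : b.comp f = a.comp g := by
    refine LinearMap.ext fun m => ?_
    simp only [a, b, LinearMap.comp_apply, LinearMap.inr_apply, LinearMap.inl_apply, Submodule.mkQ_apply]
    rw [Submodule.Quotient.eq]
    exact ⟨m, by simp [r]⟩
  have hui : CAlgX.UniversallyInjective R a := by
    intro Q _ _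
    rw [injective_iff_map_eq_zero]
    intro y hy
    have : (LinearMap.inr R N M').rTensor Q y ∈ LinearMap.range (S.subtype.rTensor Q) := by
      refine (rTensor_exact Q (LinearMap.exact_subtype_mkQ S) S.mkQ_surjective _).mp ?_
      rw [← LinearMap.comp_apply, ← LinearMap.rTensor_comp]
      exact hy
    obtain ⟨z, hz⟩ := this
    obtain ⟨w, rfl⟩ := LinearMap.rTensor_surjective Q r.surjective_rangeRestrict z
    rw [← LinearMap.comp_apply, ← LinearMap.rTensor_comp,
      show S.subtype.comp r.rangeRestrict = r from rfl] at hz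
    have h1 := congrArg ((LinearMap.fst R N M').rTensor Q) hz
    have h2 := congrArg ((LinearMap.snd R N M').rTensor Q) hz
    simp only [← LinearMap.comp_apply, ← LinearMap.rTensor_comp, r, LinearMap.fst_prod,
      LinearMap.snd_prod, LinearMap.fst_comp_inr, LinearMap.snd_comp_inr, LinearMap.rTensor_zero,
      LinearMap.zero_apply, LinearMap.rTensor_id, LinearMap.id_apply] at h1 h2
    rw [← h2, LinearMap.rTensor_neg, LinearMap.neg_apply, LinearMap.mem_ker.mp (h Q h1), neg_zero]
  obtain ⟨s, hs⟩ := exists_section_of_universallyInjective a q hex hq hui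
  have hainj : Function.Injective a := by
    have hR := hui R
    intro u v huv
    have h3 := hR (a₁ := u ⊗ₜ 1) (a₂ := v ⊗ₜ 1) (by simp [huv])
    simpa using congrArg (TensorProduct.rid R M') h3
  have hmem : ∀ y, ∃ m', a m' = y - s (q y) := fun y => (hex _).mp (by
    rw [map_sub, sub_eq_zero]
    exact (LinearMap.congr_fun hs (q y)).symm)
  choose t ht using hmem
  let tl : ((N × M') ⧸ S) →ₗ[R] M' :=
    { toFun := t
      map_add' := fun u v => hainj (by rw [map_add, ht, ht, ht, map_add, map_add]; abel)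
      map_smul' := fun c u => hainj (by
        rw [RingHom.id_apply, map_smul, ht, ht, map_smul, map_smul, smul_sub]) }
  refine ⟨tl.comp b, LinearMap.ext fun m => hainj ?_⟩
  show a (g m) = a (t (b (f m)))
  rw [ht, show b (f m) = a (g m) from LinearMap.congr_fun hab m, hex.apply_apply_eq_zero, map_zero,
    sub_zero]

end Groth.L02
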