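import Mathlib.RingTheory.RegularLocalRing.Defs
import Mathlib.RingTheory.Filtration
import Mathlib.LinearAlgebra.Dimension.Finite
import Mathlib.LinearAlgebra.FiniteDimensional.Basic
import Mathlib.RingTheory.Nakayama
import Mathlib.Algebra.Ring.Action.Basic

/-!
The fixed subscheme of a linearly reductive finite group acting on a regular local algebra is regular.
-/

set_option autoImplicit false
universe u

open IsLocalRing

namespace Groth.L02.FixedLocusRegular

variable {k A G : Type u} [Field k] [CommRing A] [Algebra k A] [IsLocalRing A] [Group G]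
  [MulSemiringAction G A] [SMulCommClass G k A]

variable (k) in
/-- The action of `g`, as a `k`-linear map. -/
def act (g : G) : A →ₗ[k] A where
  toFun a := g • a
  map_add' := smul_add g
  map_smul' c a := smul_comm g c a

@[simp] lemma act_apply (g : G) (a : A) : act k g a = g • a := rfl

lemma smul_mem_maximal (g : G) {a : A} (ha : a ∈ maximalIdeal A) : g • a ∈ maximalIdeal A := by
  rw [mem_maximalIdeal] at ha ⊢
  intro h
  refine ha ?_
  have := h.map (MulSemiringAction.toRingHom G A g⁻¹)
  simpa [inv_smul_smul] using this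

lemma smul_mem_maximal_pow (g : G) (j : ℕ) {a : A} (ha : a ∈ maximalIdeal A ^ j) :
    g • a ∈ maximalIdeal A ^ j := by
  induction j generalizing a with
  | zero => simp
  | succ j ih =>
    rw [pow_succ] at ha ⊢
    refine Submodule.mul_induction_on ha (fun x hx y hy => ?_) (fun x y hx hy => ?_)
    · rw [smul_mul']; exact Ideal.mul_mem_mul (ih hx) (smul_mem_maximal g hy)
    · rw [smul_add]; exact add_mem hx hy

section

variable (J : Ideal A) (hJ : ∀ (g : G), ∀ x ∈ J, g • x ∈ J)
  (h1 : ∀ (g : G) (a : A), g • a - a ∈ J ⊔ maximalIdeal A)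
  (h2 : ∀ (g : G), ∀ a ∈ maximalIdeal A, g • a - a ∈ J ⊔ maximalIdeal A ^ 2)

include h1 h2 in
omit [Algebra k A] [SMulCommClass G k A] in
lemma sub_mem_succ (g : G) : ∀ (j : ℕ), ∀ a ∈ maximalIdeal A ^ j, g • a - a ∈ J ⊔ maximalIdeal A ^ (j + 1) := by
  intro j
  induction j with
  | zero => intro a _; simpa using h1 g a
  | succ j ih =>
    intro a ha
    rw [pow_succ] at ha
    refine Submodule.mul_induction_on ha (fun x hx y hy => ?_) (fun x y hx hy => ?_)
    · have e : g • (x * y) - x * y = (g • x - x) * (g • y) + x * (g • y - y) := by rw [smul_mul']; ring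
      rw [e]
      obtain ⟨p, hp, q, hq, hpq⟩ := Submodule.mem_sup.mp (ih x hx)
      obtain ⟨p', hp', q', hq', hpq'⟩ := Submodule.mem_sup.mp (h2 g y hy)
      rw [← hpq, ← hpq', add_mul, mul_add]
      refine add_mem (add_mem (Submodule.mem_sup_left (J.mul_mem_right _ hp)) (Submodule.mem_sup_right ?_))
        (add_mem (Submodule.mem_sup_left (J.mul_mem_left _ hp')) (Submodule.mem_sup_right ?_))
      · rw [pow_succ _ (j + 1)]
        exact Ideal.mul_mem_mul hq (smul_mem_maximal g hy)
      · rw [show j + 1 + 1 = j + 2 by rfl, pow_add]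
        exact Ideal.mul_mem_mul hx hq'
    · have e : g • (x + y) - (x + y) = (g • x - x) + (g • y - y) := by rw [smul_add]; abel
      rw [e]; exact add_mem hx hy

include hJ h1 h2 in
omit [Algebra k A] [SMulCommClass G k A] in
lemma sub_mem_all [IsNoetherianRing A] (g : G) (N : ℕ) (hN : 0 < N) (hgN : g ^ N = 1) (hunit : IsUnit (N : A))
    (a : A) : g • a - a ∈ J := by
  have key : ∀ n, g • a - a ∈ J ⊔ maximalIdeal A ^ n := by
    intro n
    induction n with
    | zero => simp
    | succ n ih =>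
      obtain ⟨p, hp, q, hq, hpq⟩ := Submodule.mem_sup.mp ih
      have hstep : ∀ i : ℕ, (g ^ i) • a - a - (i : A) * (g • a - a) ∈ J ⊔ maximalIdeal A ^ (n + 1) := by
        intro i
        induction i with
        | zero => simp
        | succ i hi =>
          have hmove : (g ^ i) • (g • a - a) - (g • a - a) ∈ J ⊔ maximalIdeal A ^ (n + 1) := by
            rw [← hpq]
            have e : (g ^ i) • (p + q) - (p + q) = ((g ^ i) • p - p) + ((g ^ i) • q - q) := by rw [smul_add]; abel
            rw [e]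
            exact add_mem (Submodule.mem_sup_left (sub_mem (hJ _ p hp) hp)) (sub_mem_succ J h1 h2 _ n q hq)
          have e : (g ^ (i + 1)) • a - a - ((i + 1 : ℕ) : A) * (g • a - a) =
              ((g ^ i) • (g • a - a) - (g • a - a)) + ((g ^ i) • a - a - (i : A) * (g • a - a)) := by
            rw [pow_succ, mul_smul, smul_sub]; push_cast; ring
          rw [e]
          exact add_mem hmove hi
      have h := hstep N
      rw [hgN, one_smul, sub_self, zero_sub, neg_mem_iff] at h
      have := Ideal.mul_mem_left (J ⊔ maximalIdeal A ^ (n + 1)) (↑hunit.unit⁻¹ : A) h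
      rwa [← mul_assoc, IsUnit.val_inv_mul, one_mul] at this
  by_cases hJtop : J = ⊤
  · simp [hJtop]
  haveI : Nontrivial (A ⧸ J) := Ideal.Quotient.nontrivial_iff.mpr hJtop
  haveI : IsLocalRing (A ⧸ J) := .of_surjective' _ Ideal.Quotient.mk_surjective
  rw [← Ideal.Quotient.eq_zero_iff_mem, ← Submodule.mem_bot (A ⧸ J),
    ← Ideal.iInf_pow_eq_bot_of_isLocalRing ((maximalIdeal A).map (Ideal.Quotient.mk J)) ?_]
  · simp only [Submodule.mem_iInf]
    intro n
    obtain ⟨p, hp, q, hq, hpq⟩ := Submodule.mem_sup.mp (key n)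
    rw [← Ideal.map_pow, ← hpq, map_add, Ideal.Quotient.eq_zero_iff_mem.mpr hp, zero_add]
    exact Ideal.mem_map_of_mem _ hq
  · intro htop
    rw [Ideal.eq_top_iff_one, ← map_one (Ideal.Quotient.mk J), Ideal.mem_quotient_iff_mem_sup] at htop
    exact (maximalIdeal.isMaximal A).ne_top ((Ideal.eq_top_iff_one _).mpr
      (sup_le le_rfl (le_maximalIdeal hJtop) htop))

end

variable [Fintype G]

/-- Averaging over `G`. -/
noncomputable def avg (f : G → (A →ₗ[k] A)) : A →ₗ[k] A := (Fintype.card G : k)⁻¹ • ∑ g, f g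

variable (hG : (Fintype.card G : k) ≠ 0)

include hG in
lemma avg_const (f : G → (A →ₗ[k] A)) (a b : A) (h : ∀ g, f g a = b) : avg f a = b := by
  simp [avg, h, ← Nat.cast_smul_eq_nsmul k, smul_smul, inv_mul_cancel₀ hG]

include hG in
theorem isRegularLocalRing_coinvariants [IsRegularLocalRing A]
    (hres : ∀ a : A, ∃ c : k, a - algebraMap k A c ∈ maximalIdeal A) :
    IsRegularLocalRing (A ⧸ Ideal.span {x : A | ∃ (g : G) (a : A), x = g • a - a}) := by
  classical
  let N := (maximalIdeal A).spanFinrank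
  obtain ⟨x, hxN, hx⟩ : ∃ x : Fin N → A, True ∧ Ideal.span (Set.range x) = maximalIdeal A := by
    have hfg : (maximalIdeal A).FG := IsNoetherian.noetherian _
    haveI := (Submodule.FG.finite_generators hfg).to_subtype
    refine ⟨fun i => ((Finite.equivFinOfCardEq (Submodule.FG.generators_ncard hfg)).symm i).1, trivial, ?_⟩
    show Submodule.span A (Set.range (Subtype.val ∘ (Finite.equivFinOfCardEq (Submodule.FG.generators_ncard hfg)).symm)) = _
    rw [(Equiv.surjective _).range_comp, Subtype.range_coe]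
    exact Submodule.span_generators _
  let M2 : Submodule k A := (maximalIdeal A ^ 2).restrictScalars k
  obtain ⟨f, hf⟩ := LinearMap.exists_leftInverse_of_injective M2.subtype M2.ker_subtype
  let π : A →ₗ[k] A := avg fun g : G => act k g ∘ₗ (M2.subtype ∘ₗ f) ∘ₗ act k g⁻¹
  have hπ : ∀ a, π a ∈ maximalIdeal A ^ 2 := by
    intro a
    show ((Fintype.card G : k)⁻¹ • ∑ g : G, act k g ∘ₗ (M2.subtype ∘ₗ f) ∘ₗ act k g⁻¹) a ∈ M2
    simp only [LinearMap.smul_apply, LinearMap.sum_apply, LinearMap.comp_apply, act_apply]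
    exact M2.smul_mem _ (M2.sum_mem fun g _ => smul_mem_maximal_pow g 2 (f (g⁻¹ • a)).2)
  have hπid : ∀ a ∈ maximalIdeal A ^ 2, π a = a := by
    intro a ha
    refine avg_const hG _ a a fun g => ?_
    have := LinearMap.congr_fun hf ⟨g⁻¹ • a, smul_mem_maximal_pow g⁻¹ 2 ha⟩
    simp only [LinearMap.comp_apply, Submodule.subtype_apply, LinearMap.id_apply] at this
    simp [this]
  have hπG : ∀ (h : G) a, π (h • a) = h • π a := by
    intro h a
    show ((Fintype.card G : k)⁻¹ • ∑ g : G, _ : A →ₗ[k] A) _ = h • ((Fintype.card G : k)⁻¹ • ∑ g : G, _ : A →ₗ[k] A) a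
    simp only [LinearMap.smul_apply, LinearMap.sum_apply, LinearMap.comp_apply, act_apply,
      Submodule.subtype_apply, smul_comm h ((Fintype.card G : k)⁻¹), Finset.smul_sum]
    refine Fintype.sum_equiv (Equiv.mulLeft h⁻¹) _ _ fun g => ?_
    simp [mul_smul, mul_inv_rev]
  let φ : (Fin N → k) →ₗ[k] A := (LinearMap.id - π) ∘ₗ Fintype.linearCombination k x
  let V : Submodule k A := LinearMap.range φ
  haveI : Module.Finite k V := Module.Finite.range φ
  have hmod : ∀ a ∈ maximalIdeal A, a - π a ∈ V := by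
    intro a ha
    rw [← hx, Ideal.mem_span_range_iff_exists_fun] at ha
    obtain ⟨c, rfl⟩ := ha
    choose c' hc' using fun i => hres (c i)
    refine ⟨c', ?_⟩
    have hq : (∑ i, c i * x i) - ∑ i, c' i • x i ∈ maximalIdeal A ^ 2 := by
      rw [← Finset.sum_sub_distrib]
      refine sum_mem fun i _ => ?_
      rw [Algebra.smul_def, ← sub_mul, sq]
      exact Ideal.mul_mem_mul (hc' i) (hx ▸ Ideal.subset_span ⟨i, rfl⟩)
    have := hπid _ hq
    rw [map_sub] at this
    simp only [φ, LinearMap.comp_apply, LinearMap.sub_apply, LinearMap.id_apply, Fintype.linearCombination_apply]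
    linear_combination this
  have hVm : ∀ v ∈ V, v ∈ maximalIdeal A := by
    rintro v ⟨c, rfl⟩
    simp only [φ, LinearMap.comp_apply, LinearMap.sub_apply, LinearMap.id_apply, Fintype.linearCombination_apply]
    refine sub_mem ?_ (Ideal.pow_le_self two_ne_zero (hπ _))
    exact sum_mem fun i _ => Submodule.smul_of_tower_mem _ (c i) (hx ▸ Ideal.subset_span ⟨i, rfl⟩)
  have hVG : ∀ (g : G), ∀ v ∈ V, g • v ∈ V := by
    rintro g v ⟨c, rfl⟩
    simp only [φ, LinearMap.comp_apply, LinearMap.sub_apply, LinearMap.id_apply, smul_sub, ← hπG]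
    refine hmod _ (smul_mem_maximal g ?_)
    rw [Fintype.linearCombination_apply]
    exact sum_mem fun i _ => Submodule.smul_of_tower_mem _ (c i) (hx ▸ Ideal.subset_span ⟨i, rfl⟩)
  let E : A →ₗ[k] A := avg (G := G) (act k)
  have hEG : ∀ (h : G) a, E (h • a) = E a := by
    intro h a
    simp only [E, avg, LinearMap.smul_apply, LinearMap.sum_apply, act_apply]
    congr 1
    exact Fintype.sum_equiv (Equiv.mulRight h) _ _ fun g => by simp [mul_smul]
  have hEV : ∀ v ∈ V, E v ∈ V := fun v hv => by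
    simp only [E, avg, LinearMap.smul_apply, LinearMap.sum_apply, act_apply]
    exact V.smul_mem _ (V.sum_mem fun g _ => hVG g v hv)
  have hEE : ∀ a, E (E a) = E a := by
    intro a
    conv_lhs => arg 2; simp only [E, avg, LinearMap.smul_apply, LinearMap.sum_apply, act_apply]
    rw [map_smul, map_sum]
    simp [hEG, ← Nat.cast_smul_eq_nsmul k, smul_smul, inv_mul_cancel₀ hG]
  let EV : V →ₗ[k] A := E ∘ₗ V.subtype
  let V' : Submodule k A := (LinearMap.ker EV).map V.subtype
  let V'' : Submodule k A := LinearMap.range EV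
  have hdim : Module.finrank k V' + Module.finrank k V'' ≤ N := by
    have h1 := LinearMap.finrank_range_add_finrank_ker EV
    have h2 : Module.finrank k V ≤ N := (LinearMap.finrank_range_le φ).trans (by simp)
    have h3 : Module.finrank k V' = Module.finrank k (LinearMap.ker EV) :=
      (Submodule.equivMapOfInjective V.subtype V.injective_subtype (LinearMap.ker EV)).finrank_eq.symm
    show Module.finrank k V' + Module.finrank k (LinearMap.range EV) ≤ N
    omega
  have gen : ∀ (W : Submodule k A) [Module.Finite k W],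
      (Ideal.span (W : Set A)).spanFinrank ≤ Module.finrank k W := by
    intro W _
    let b := Module.finBasis k W
    have e : Ideal.span (W : Set A) = Ideal.span (Set.range fun i => (b i : A)) := by
      refine le_antisymm (Ideal.span_le.mpr fun w hw => ?_)
        (Ideal.span_mono (Set.range_subset_iff.mpr fun i => (b i).2))
      have := congrArg Subtype.val (b.sum_repr ⟨w, hw⟩)
      simp only [Submodule.coe_sum, Submodule.coe_smul] at this
      rw [← this]
      exact sum_mem fun i _ => Submodule.smul_of_tower_mem _ _ (Ideal.subset_span ⟨i, rfl⟩)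
    rw [e]
    exact (Submodule.spanFinrank_span_le_ncard_of_finite (Set.finite_range _)).trans
      ((Set.ncard_range_of_injective (Subtype.val_injective.comp b.injective)).trans_le (by simp))
  let J₀ : Ideal A := Ideal.span (V' : Set A)
  let J : Ideal A := Ideal.span {x : A | ∃ (g : G) (a : A), x = g • a - a}
  have hV'stable : ∀ (g : G), ∀ v ∈ V', g • v ∈ V' := by
    rintro g _ ⟨⟨v, hv⟩, hker, rfl⟩
    refine ⟨⟨g • v, hVG g v hv⟩, ?_, rfl⟩
    show E (g • v) = 0
    rw [hEG]; exact hker
  have hJ₀ : ∀ (g : G), ∀ a ∈ J₀, g • a ∈ J₀ := by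
    intro g a ha
    have hle : J₀ ≤ J₀.comap (MulSemiringAction.toRingHom G A g) :=
      Ideal.span_le.mpr fun v hv => Ideal.subset_span (hV'stable g v hv)
    exact hle ha
  have h2 : ∀ (g : G), ∀ a ∈ maximalIdeal A, g • a - a ∈ J₀ ⊔ maximalIdeal A ^ 2 := by
    intro g a ha
    have e : g • a - a = (g • (a - π a) - (a - π a)) + (π (g • a) - π a) := by rw [smul_sub, hπG]; ring
    rw [e]
    refine add_mem (Submodule.mem_sup_left (Ideal.subset_span ?_)) (Submodule.mem_sup_right (sub_mem (hπ _) (hπ _)))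
    refine ⟨⟨_, sub_mem (hVG g _ (hmod a ha)) (hmod a ha)⟩, ?_, rfl⟩
    show E _ = 0
    simp [map_sub, hEG]
  have h1 : ∀ (g : G) (a : A), g • a - a ∈ J₀ ⊔ maximalIdeal A := by
    intro g a
    obtain ⟨c, hc⟩ := hres a
    have hfix : g • algebraMap k A c = algebraMap k A c := by
      rw [Algebra.algebraMap_eq_smul_one, smul_comm, smul_one]
    have e : g • a - a = g • (a - algebraMap k A c) - (a - algebraMap k A c) := by rw [smul_sub, hfix]; ring
    rw [e]
    exact Submodule.mem_sup_right (sub_mem (smul_mem_maximal g hc) hc)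
  have hcard : IsUnit (Fintype.card G : A) := by
    rw [← map_natCast (algebraMap k A)]; exact (IsUnit.mk0 _ hG).map _
  have hJeq : J = J₀ := by
    refine le_antisymm (Ideal.span_le.mpr ?_) (Ideal.span_le.mpr ?_)
    · rintro _ ⟨g, a, rfl⟩
      exact sub_mem_all J₀ hJ₀ h1 h2 g (Fintype.card G) Fintype.card_pos pow_card_eq_one hcard a
    · rintro _ ⟨⟨v, hv⟩, hker, rfl⟩
      have hv0 : E v = 0 := hker
      have : v = (Fintype.card G : k)⁻¹ • ∑ g : G, (v - g • v) := by
        have hE : E v = (Fintype.card G : k)⁻¹ • ∑ g : G, g • v := by simp [E, avg]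
        rw [Finset.sum_sub_distrib, smul_sub, ← hE, hv0, sub_zero]
        simp [← Nat.cast_smul_eq_nsmul k, smul_smul, inv_mul_cancel₀ hG]
      show v ∈ J
      rw [this]
      refine Submodule.smul_of_tower_mem _ _ (sum_mem fun g _ => ?_)
      rw [← neg_sub]
      exact neg_mem (Ideal.subset_span ⟨g, v, rfl⟩)
  show IsRegularLocalRing (A ⧸ J)
  rw [hJeq]
  have hJ₀m : J₀ ≤ maximalIdeal A := Ideal.span_le.mpr (by rintro _ ⟨⟨v, hv⟩, -, rfl⟩; exact hVm v hv)
  haveI : Nontrivial (A ⧸ J₀) :=
    Ideal.Quotient.nontrivial_iff.mpr (ne_top_of_le_ne_top (maximalIdeal.isMaximal A).ne_top hJ₀m)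
  haveI : IsLocalRing (A ⧸ J₀) := .of_surjective' _ Ideal.Quotient.mk_surjective
  let W : Ideal A := Ideal.span (V'' : Set A)
  have hgen : maximalIdeal A ≤ J₀ ⊔ W := by
    refine Submodule.le_of_le_smul_of_le_jacobson_bot (IsNoetherian.noetherian _)
      ((IsLocalRing.jacobson_eq_maximalIdeal ⊥ bot_ne_top).ge) (fun a ha => ?_)
    have hmem := hmod a ha
    have e : a = ((a - π a) - E (a - π a)) + E (a - π a) + π a := by ring
    rw [e]
    refine add_mem (Submodule.mem_sup_left (add_mem ?_ ?_)) (Submodule.mem_sup_right ?_)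
    · refine Submodule.mem_sup_left (Ideal.subset_span ⟨⟨_, sub_mem hmem (hEV _ hmem)⟩, ?_, rfl⟩)
      show E (_ - _) = 0
      rw [map_sub, hEE, sub_self]
    · exact Submodule.mem_sup_right (Ideal.subset_span ⟨⟨_, hmem⟩, rfl⟩)
    · rw [smul_eq_mul, ← sq]; exact hπ a
  have hmax : maximalIdeal (A ⧸ J₀) ≤ W.map (Ideal.Quotient.mk J₀) := by
    intro b hb
    obtain ⟨a, rfl⟩ := Ideal.Quotient.mk_surjective b
    have ha : a ∈ maximalIdeal A := fun hu => hb (hu.map _)
    obtain ⟨p, hp, q, hq, rfl⟩ := Submodule.mem_sup.mp (hgen ha)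
    rw [map_add, Ideal.Quotient.eq_zero_iff_mem.mpr hp, zero_add]
    exact Ideal.mem_map_of_mem _ hq
  have hWm : W.map (Ideal.Quotient.mk J₀) ≤ maximalIdeal (A ⧸ J₀) := by
    refine Ideal.map_le_iff_le_comap.mpr (Ideal.span_le.mpr ?_)
    rintro _ ⟨⟨v, hv⟩, rfl⟩
    intro hu
    have hEvm : E v ∈ maximalIdeal A := hVm _ (hEV v hv)
    rw [mem_maximalIdeal] at hEvm
    haveI : IsLocalHom (Ideal.Quotient.mk J₀) := .of_surjective _ Ideal.Quotient.mk_surjective
    exact hEvm ((isUnit_map_iff _ _).mp hu)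
  refine IsRegularLocalRing.of_spanFinrank_maximalIdeal_le _ ?_
  have ha : (maximalIdeal (A ⧸ J₀)).spanFinrank ≤ Module.finrank k V'' := by
    rw [le_antisymm hmax hWm]
    exact (Ideal.spanFinrank_map_le_of_fg _ (IsNoetherian.noetherian W)).trans (gen V'')
  have hdimle := ringKrullDim_le_ringKrullDim_quotient_add_spanFinrank J₀
    (hJ₀m.trans (IsLocalRing.ringJacobson_eq_maximalIdeal A).ge)
  rw [← IsRegularLocalRing.spanFinrank_maximalIdeal (R := A)] at hdimle
  obtain ⟨d, hd⟩ : ∃ d : ℕ, ringKrullDim (A ⧸ J₀) = d := by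
    obtain ⟨d, hd⟩ := WithBot.ne_bot_iff_exists.mp (ringKrullDim_ne_bot (R := A ⧸ J₀))
    have htop : ringKrullDim (A ⧸ J₀) ≠ ⊤ := ringKrullDim_ne_top
    rw [← hd] at htop ⊢
    obtain ⟨m, hm⟩ := ENat.ne_top_iff_exists.mp (fun h : d = ⊤ => htop (by rw [h]; rfl))
    exact ⟨m, by rw [← hm]; rfl⟩
  rw [hd] at hdimle ⊢
  have hJn : J₀.spanFinrank ≤ Module.finrank k V' := gen V'
  have : (maximalIdeal A).spanFinrank ≤ d + J₀.spanFinrank := by exact_mod_cast hdimle
  exact_mod_cast (by omega : (maximalIdeal (A ⧸ J₀)).spanFinrank ≤ d)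

end Groth.L02.FixedLocusRegular
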