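import Mathlib.LinearAlgebra.Matrix.Transvection
import Mathlib.LinearAlgebra.Matrix.GeneralLinearGroup.Defs
import Mathlib.RingTheory.LocalRing.ResidueField.Basic

/-!
Over a local ring the invertible matrices are generated by transvections and invertible diagonal
matrices.
-/

namespace Groth.L02.GLLocal

open Matrix

variable {B : Type*} [CommRing B] [IsLocalRing B] {n : Type*} [Fintype n] [DecidableEq n]

local notation "π" => IsLocalRing.residue B

lemma isUnit_diag {N : Matrix n n B} (hN : N.map π = 1) (k : n) : IsUnit (N k k) := by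
  refine (IsLocalRing.residue_ne_zero_iff_isUnit _).mp ?_
  have := congrFun (congrFun hN k) k
  simp only [map_apply, one_apply_eq] at this
  rw [this]
  exact one_ne_zero

variable (P : Matrix n n B → Prop)
  (hT : ∀ i j (c : B), i ≠ j → P (transvection i j c))
  (hD : ∀ d : n → B, (∀ i, IsUnit (d i)) → P (diagonal d))
  (hmul : ∀ A A', P A → P A' → P (A * A'))

include hT hmul in
lemma clear_column (S : Finset n) (k : n) (hk : k ∉ S) (N : Matrix n n B) (hN : N.map π = 1)
    (hS : ∀ i, ∀ j ∈ S, i ≠ j → N i j = 0) (R : Finset n) (hR : k ∉ R) :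
    ∃ N' : Matrix n n B, N'.map π = 1 ∧ (∀ i, ∀ j ∈ S, i ≠ j → N' i j = 0) ∧
      (∀ i ∈ R, N' i k = 0) ∧ (P N' → P N) := by
  induction R using Finset.induction_on with
  | empty => exact ⟨N, hN, hS, by simp, id⟩
  | @insert i R hi ih =>
    obtain ⟨N', h1, h2, h3, h4⟩ := ih (fun h => hR (Finset.mem_insert_of_mem h))
    have hik : i ≠ k := fun h => hR (h ▸ Finset.mem_insert_self i R)
    obtain ⟨u, hu⟩ := isUnit_diag h1 k
    let c : B := -(N' i k * ↑u⁻¹)
    have hc : π c = 0 := by
      have := congrFun (congrFun h1 i) k
      simp only [map_apply, one_apply_ne hik] at this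
      simp [c, this]
    have hrow : ∀ a j, a ≠ i → (transvection i k c * N') a j = N' a j := fun a j ha =>
      transvection_mul_apply_of_ne i k a j ha c N'
    refine ⟨transvection i k c * N', ?_, fun a j hj haj => ?_, fun a ha => ?_, fun h => h4 ?_⟩
    · rw [Matrix.map_mul, h1, mul_one, transvection, Matrix.map_add _ (map_add π),
        Matrix.map_one _ (map_zero π) (map_one π), Matrix.map_single, hc, single_zero, add_zero]
    · by_cases hai : a = i
      · subst hai
        rw [transvection_mul_apply_same, h2 a j hj haj,
          h2 k j hj (fun h => hk (h ▸ hj)), mul_zero, add_zero]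
      · rw [hrow a j hai]; exact h2 a j hj haj
    · by_cases hai : a = i
      · subst hai
        rw [transvection_mul_apply_same, ← hu]
        simp [c, mul_assoc]
      · rw [hrow a k hai]; exact h3 a ((Finset.mem_insert.mp ha).resolve_left hai)
    · have : N' = transvection i k (-c) * (transvection i k c * N') := by
        rw [← mul_assoc, transvection_mul_transvection_same i k hik, neg_add_cancel, transvection_zero,
          one_mul]
      rw [this]
      exact hmul _ _ (hT i k _ hik) h

include hT hD hmul in
lemma of_map_residue_eq_one (N : Matrix n n B) (hN : N.map π = 1) : P N := by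
  suffices ∀ (T : Finset n) (N : Matrix n n B), N.map π = 1 →
      (∀ i j, j ∉ T → i ≠ j → N i j = 0) → P N from
    this Finset.univ N hN fun i j hj _ => absurd (Finset.mem_univ j) hj
  intro T
  induction T using Finset.induction_on with
  | empty =>
    intro N hN h
    have : N = diagonal N.diag := by
      ext i j
      by_cases hij : i = j
      · subst hij; simp
      · rw [diagonal_apply_ne _ hij, h i j (Finset.notMem_empty j) hij]
    rw [this]
    exact hD _ fun i => isUnit_diag hN i
  | @insert k T hk ih =>
    intro N hN h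
    obtain ⟨N', h1, h2, h3, h4⟩ := clear_column P hT hmul (Finset.univ.filter (· ∉ insert k T)) k
      (by simp) N hN (fun i j hj hij => h i j (by simpa using hj) hij) (Finset.univ.erase k)
      (Finset.notMem_erase k _)
    refine h4 (ih N' h1 fun i j hj hij => ?_)
    by_cases hjk : j = k
    · subst hjk; exact h3 i (Finset.mem_erase.mpr ⟨hij, Finset.mem_univ i⟩)
    · exact h2 i j (by simp [hjk, hj]) hij

include hT hD hmul in
theorem induction_on (M : Matrix n n B) (hM : IsUnit M.det) : P M := by
  classical
  have key : ∀ N : Matrix n n (IsLocalRing.ResidueField B), N.det ≠ 0 →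
      ∃ M0 : Matrix n n B, IsUnit M0.det ∧ M0.map π = N ∧ P M0 := by
    intro N hN
    refine diagonal_transvection_induction_of_det_ne_zero
      (fun N => ∃ M0 : Matrix n n B, IsUnit M0.det ∧ M0.map π = N ∧ P M0) N hN (fun D hdet => ?_)
      (fun t => ?_) (fun A A' _ _ ⟨a, ha, ha', hPa⟩ ⟨a', hb, hb', hPb⟩ => ?_)
    · choose d hd using fun i => IsLocalRing.residue_surjective (D i)
      rw [det_diagonal] at hdet
      have hu : ∀ i, IsUnit (d i) := fun i => (IsLocalRing.residue_ne_zero_iff_isUnit _).mp
        (by rw [hd]; exact Finset.prod_ne_zero_iff.mp hdet i (Finset.mem_univ i))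
      refine ⟨diagonal d, ?_, ?_, hD d hu⟩
      · rw [det_diagonal]; exact IsUnit.prod_iff.mpr fun i _ => hu i
      · rw [diagonal_map (map_zero π)]; simp [Function.comp_def, hd]
    · obtain ⟨c, hc⟩ := IsLocalRing.residue_surjective t.c
      refine ⟨transvection t.i t.j c, by rw [det_transvection_of_ne _ _ t.hij]; exact isUnit_one, ?_,
        hT _ _ c t.hij⟩
      rw [TransvectionStruct.toMatrix, transvection, transvection, Matrix.map_add _ (map_add π),
        Matrix.map_one _ (map_zero π) (map_one π), Matrix.map_single, hc]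
    · exact ⟨a * a', by rw [det_mul]; exact ha.mul hb, by rw [Matrix.map_mul, ha', hb'],
        hmul _ _ hPa hPb⟩
  obtain ⟨M0, h0, h0', hP0⟩ := key (M.map π) (by
    rw [show M.map π = (IsLocalRing.residue B).mapMatrix M from rfl, ← RingHom.map_det]
    exact (IsLocalRing.residue_ne_zero_iff_isUnit _).mpr hM)
  have hM' : M = M0 * (M0⁻¹ * M) := by rw [← mul_assoc, mul_nonsing_inv _ h0, one_mul]
  rw [hM']
  refine hmul _ _ hP0 (of_map_residue_eq_one P hT hD hmul _ ?_)
  rw [Matrix.map_mul, ← h0', ← Matrix.map_mul, nonsing_inv_mul _ h0,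
    Matrix.map_one _ (map_zero π) (map_one π)]

/-- A transvection as an element of the general linear group. -/
def tv {R : Type*} [CommRing R] {n : Type*} [Fintype n] [DecidableEq n] (i j : n) (h : i ≠ j) (c : R) :
    GL n R where
  val := transvection i j c
  inv := transvection i j (-c)
  val_inv := by rw [transvection_mul_transvection_same i j h, add_neg_cancel, transvection_zero]
  inv_val := by rw [transvection_mul_transvection_same i j h, neg_add_cancel, transvection_zero]

/-- A diagonal matrix of units as an element of the general linear group. -/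
def dg {R : Type*} [CommRing R] {n : Type*} [Fintype n] [DecidableEq n] : (n → Rˣ) →* GL n R where
  toFun d :=
    { val := diagonal fun i => (d i : R)
      inv := diagonal fun i => (↑(d i)⁻¹ : R)
      val_inv := by rw [diagonal_mul_diagonal]; simp
      inv_val := by rw [diagonal_mul_diagonal]; simp }
  map_one' := Units.ext (by simp)
  map_mul' d d' := Units.ext (by simp [diagonal_mul_diagonal])

lemma dg_val {R : Type*} [CommRing R] {n : Type*} [Fintype n] [DecidableEq n] (d : n → Rˣ) :
    (dg d : Matrix n n R) = diagonal fun i => (d i : R) := rfl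

lemma tv_mul {R : Type*} [CommRing R] {n : Type*} [Fintype n] [DecidableEq n] (i j : n) (h : i ≠ j)
    (c c' : R) : tv i j h c * tv i j h c' = tv i j h (c + c') :=
  Units.ext (transvection_mul_transvection_same i j h c c')

lemma dg_mul_tv {R : Type*} [CommRing R] {n : Type*} [Fintype n] [DecidableEq n] (i j : n) (h : i ≠ j)
    (d : n → Rˣ) (c : R) : dg d * tv i j h c = tv i j h ((d i : R) * c * ↑(d j)⁻¹) * dg d := by
  refine Units.ext ?_
  ext a b
  show ((diagonal fun i => (d i : R)) * transvection i j c) a b =
    (transvection i j ((d i : R) * c * ↑(d j)⁻¹) * diagonal fun i => (d i : R)) a b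
  rw [diagonal_mul, mul_diagonal, transvection, transvection, Matrix.add_apply, Matrix.add_apply]
  by_cases hij : i = a ∧ j = b
  · obtain ⟨rfl, rfl⟩ := hij
    simp [h, mul_assoc]
  · by_cases hab : a = b
    · subst hab
      simp [hij]
    · simp [hij, hab]

/-- Conjugate diagonal matrices by a permutation matrix. -/
lemma exists_conj_dg {R : Type*} [CommRing R] {n : Type*} [Fintype n] [DecidableEq n] (σ : Equiv.Perm n) :
    ∃ g : GL n R, ∀ d : n → Rˣ, g * dg d * g⁻¹ = dg (d ∘ σ) := by
  let g : GL n R := ⟨(1 : Matrix n n R).submatrix σ id, (1 : Matrix n n R).submatrix id σ,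
    by rw [← Matrix.submatrix_mul _ _ _ _ _ Function.bijective_id, one_mul, submatrix_one_equiv],
    by rw [Matrix.submatrix_mul_equiv, one_mul, submatrix_id_id]⟩
  refine ⟨g, fun d => Units.ext ?_⟩
  show (1 : Matrix n n R).submatrix σ id * diagonal (fun i => (d i : R)) *
    (1 : Matrix n n R).submatrix id σ = diagonal fun i => ((d ∘ σ) i : R)
  rw [show diagonal (fun i => (d i : R)) = (diagonal (fun i => (d i : R))).submatrix id id from rfl,
    ← Matrix.submatrix_mul _ _ _ _ _ Function.bijective_id, one_mul,
    ← Matrix.submatrix_mul _ _ _ _ _ Function.bijective_id, mul_one, submatrix_diagonal_equiv]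
  rfl

lemma map_tv {R S : Type*} [CommRing R] [CommRing S] {n : Type*} [Fintype n] [DecidableEq n]
    (f : R →+* S) (i j : n) (h : i ≠ j) (c : R) :
    GeneralLinearGroup.map f (tv i j h c) = tv i j h (f c) := by
  refine Units.ext ?_
  show (transvection i j c).map f = transvection i j (f c)
  rw [transvection, transvection, Matrix.map_add _ (map_add f), Matrix.map_one _ (map_zero f) (map_one f),
    Matrix.map_single]

lemma map_dg {R S : Type*} [CommRing R] [CommRing S] {n : Type*} [Fintype n] [DecidableEq n]
    (f : R →+* S) (d : n → Rˣ) :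
    GeneralLinearGroup.map f (dg d) = dg fun i => Units.map (f : R →* S) (d i) := by
  refine Units.ext ?_
  show (diagonal fun i => (d i : R)).map f = _
  rw [diagonal_map (map_zero f), dg_val]
  rfl

omit [IsLocalRing B] in
lemma mem_iff_forall {B : Type*} [CommRing B] [IsLocalRing B] (H : Subgroup (GL n B))
    (hT : ∀ i j (h : i ≠ j) (c : B), tv i j h c ∈ H) (hD : ∀ d, dg d ∈ H) (g : GL n B) : g ∈ H := by
  have := induction_on (fun M => IsUnit M.det ∧ ∀ g : GL n B, (g : Matrix n n B) = M → g ∈ H)
    (fun i j c h => ⟨by rw [det_transvection_of_ne _ _ h]; exact isUnit_one, fun g hg => by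
      rw [show g = tv i j h c from Units.ext hg]; exact hT i j h c⟩)
    (fun d hd => ⟨by rw [det_diagonal]; exact IsUnit.prod_iff.mpr fun i _ => hd i, fun g hg => by
      rw [show g = dg fun i => (hd i).unit from Units.ext (hg.trans rfl)]; exact hD _⟩)
    (fun A A' hA hA' => ⟨by rw [det_mul]; exact hA.1.mul hA'.1, fun g hg => by
      obtain ⟨a, rfl⟩ := (isUnit_iff_isUnit_det A).mpr hA.1
      obtain ⟨a', rfl⟩ := (isUnit_iff_isUnit_det A').mpr hA'.1
      rw [show g = a * a' from Units.ext hg]
      exact H.mul_mem (hA.2 a rfl) (hA'.2 a' rfl)⟩)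
    (g : Matrix n n B) ((isUnit_iff_isUnit_det _).mp g.isUnit)
  exact this.2 g rfl

end Groth.L02.GLLocal
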