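import Mathlib.GroupTheory.Commutator.Basic
import Mathlib.GroupTheory.Abelianization.Defs
import Mathlib.LinearAlgebra.Matrix.GeneralLinearGroup.Defs
import Mathlib.RingTheory.Localization.AtPrime.Basic
import Mathlib.RingTheory.Localization.Away.Basic
import Mathlib.RingTheory.Localization.Integer

/-!
Spreading out membership in the commutator subgroup of `GL_n` from a localisation at a prime.
-/

namespace Groth.L02.GLSpread

open Matrix
open scoped commutatorElement

universe u

variable {S : Type u} [CommRing S] (q : Ideal S) [q.IsPrime] {n : Type*} [Fintype n] [DecidableEq n]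

local notation "Sq" => Localization.AtPrime q

lemma isUnit_map {g : S} (hg : g ∉ q) : IsUnit (algebraMap S Sq g) :=
  IsLocalization.map_units Sq (⟨g, hg⟩ : q.primeCompl)

/-- `S_g → S_q` -/
noncomputable def toQ (g : S) (hg : g ∉ q) : Localization.Away g →+* Sq :=
  IsLocalization.Away.lift g (isUnit_map q hg)

lemma toQ_comp (g : S) (hg : g ∉ q) : (toQ q g hg).comp (algebraMap S _) = algebraMap S Sq :=
  IsLocalization.Away.lift_comp (S := Localization.Away g) g _

/-- `S_g → S_{g'}` for `g ∣ g'` -/
noncomputable def transition (g g' : S) (h : g ∣ g') : Localization.Away g →+* Localization.Away g' :=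
  IsLocalization.Away.lift g (g := algebraMap S (Localization.Away g'))
    (isUnit_of_dvd_unit (map_dvd _ h) (IsLocalization.Away.algebraMap_isUnit g'))

lemma toQ_transition (g g' : S) (h : g ∣ g') (hg : g ∉ q) (hg' : g' ∉ q) :
    (toQ q g' hg').comp (transition g g' h) = toQ q g hg := by
  refine IsLocalization.ringHom_ext (Submonoid.powers g) ?_
  rw [RingHom.comp_assoc]
  have : (transition g g' h).comp (algebraMap S _) = algebraMap S (Localization.Away g') := by
    unfold transition
    rw [IsLocalization.Away.lift_comp]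
  rw [this, toQ_comp, toQ_comp]

lemma map_toQ_transition (g g' : S) (h : g ∣ g') (hg : g ∉ q) (hg' : g' ∉ q)
    (y : GL n (Localization.Away g)) :
    GeneralLinearGroup.map (toQ q g' hg') (GeneralLinearGroup.map (transition g g' h) y) =
      GeneralLinearGroup.map (toQ q g hg) y :=
  Units.ext (Matrix.ext fun i j =>
    RingHom.congr_fun (toQ_transition q g g' h hg hg') ((y : Matrix n n (Localization.Away g)) i j))

/-- Every element of `GL_n(S_q)` comes from some `GL_n(S_g)`. -/
lemma exists_lift (x : GL n Sq) : ∃ g, ∃ hg : g ∉ q, ∃ y : GL n (Localization.Away g),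
    GeneralLinearGroup.map (toQ q g hg) y = x := by
  obtain ⟨⟨b, hb⟩, hb'⟩ := IsLocalization.exist_integer_multiples_of_finite q.primeCompl
    (fun ij : n × n => (x : Matrix n n Sq) ij.1 ij.2)
  choose A hA using hb'
  let M : Matrix n n S := Matrix.of fun i j => A (i, j)
  have hM : M.map (algebraMap S Sq) = algebraMap S Sq b • (x : Matrix n n Sq) := by
    ext i j
    simp only [M, Matrix.map_apply, Matrix.of_apply, Matrix.smul_apply, smul_eq_mul, hA]
    exact Algebra.smul_def _ _
  have hdet : M.det ∉ q := by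
    have : IsUnit (algebraMap S Sq M.det) := by
      rw [RingHom.map_det, RingHom.mapMatrix_apply, hM, det_smul]
      exact ((isUnit_map q hb).pow _).mul ((isUnit_iff_isUnit_det _).mp x.isUnit)
    exact (IsLocalization.AtPrime.isUnit_to_map_iff Sq q _).mp this
  have hg : b * M.det ∉ q := fun h => (Ideal.IsPrime.mem_or_mem ‹_› h).elim hb hdet
  let φ := algebraMap S (Localization.Away (b * M.det))
  have hu : IsUnit (φ b) := isUnit_of_dvd_unit (map_dvd φ (dvd_mul_right b M.det))
    (IsLocalization.Away.algebraMap_isUnit _)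
  have hu' : IsUnit (φ M.det) := isUnit_of_dvd_unit (map_dvd φ (dvd_mul_left M.det b))
    (IsLocalization.Away.algebraMap_isUnit _)
  obtain ⟨u, hu⟩ := hu
  have hy : IsUnit ((↑u⁻¹ : Localization.Away (b * M.det)) • M.map φ) := by
    rw [isUnit_iff_isUnit_det, det_smul, ← RingHom.mapMatrix_apply, ← RingHom.map_det]
    exact ((Units.isUnit _).pow _).mul hu'
  refine ⟨_, hg, hy.unit, Units.ext ?_⟩
  ext i j
  show toQ q _ hg (((↑u⁻¹ : Localization.Away (b * M.det)) • M.map φ) i j) = _
  rw [Matrix.smul_apply, Matrix.map_apply, smul_eq_mul, map_mul,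
    show toQ q _ hg (φ (M i j)) = algebraMap S Sq (M i j) from
      IsLocalization.Away.lift_eq _ _ _, show M i j = A (i, j) from rfl, hA (i, j), Algebra.smul_def,
    ← mul_assoc]
  have : toQ q _ hg (↑u⁻¹) * algebraMap S Sq b = 1 := by
    rw [← show toQ q _ hg (φ b) = algebraMap S Sq b from IsLocalization.Away.lift_eq _ _ _, ← hu,
      ← map_mul, Units.inv_mul, map_one]
  rw [this, one_mul]

lemma map_mem_commutator {R R' : Type*} [CommRing R] [CommRing R'] (f : R →+* R') {y : GL n R}
    (hy : y ∈ commutator (GL n R)) : GeneralLinearGroup.map f y ∈ commutator (GL n R') := by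
  have h := Subgroup.mem_map_of_mem (GeneralLinearGroup.map (n := n) f) hy
  rw [commutator_def, Subgroup.map_commutator] at h
  exact Subgroup.commutator_mono le_top le_top h

theorem exists_mem_commutator (x : GL n Sq) (hx : x ∈ commutator (GL n Sq)) :
    ∃ g, ∃ hg : g ∉ q, ∃ y ∈ commutator (GL n (Localization.Away g)),
      GeneralLinearGroup.map (toQ q g hg) y = x := by
  rw [commutator_eq_closure] at hx
  induction hx using Subgroup.closure_induction with
  | mem x hx =>
    obtain ⟨a, c, rfl⟩ := hx
    obtain ⟨g, hg, y, rfl⟩ := exists_lift q a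
    obtain ⟨g', hg', y', rfl⟩ := exists_lift q c
    have hgg : g * g' ∉ q := fun h => (Ideal.IsPrime.mem_or_mem ‹_› h).elim hg hg'
    let z := GeneralLinearGroup.map (n := n) (transition g (g * g') (dvd_mul_right _ _)) y
    let z' := GeneralLinearGroup.map (n := n) (transition g' (g * g') (dvd_mul_left _ _)) y'
    refine ⟨g * g', hgg, ⁅z, z'⁆, Subgroup.commutator_mem_commutator (Subgroup.mem_top z)
      (Subgroup.mem_top z'), ?_⟩
    rw [map_commutatorElement, map_toQ_transition q g _ _ hg hgg, map_toQ_transition q g' _ _ hg' hgg]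
  | one => exact ⟨1, fun h => Ideal.IsPrime.ne_top ‹_› ((Ideal.eq_top_iff_one q).mpr h), 1,
      Subgroup.one_mem _, map_one _⟩
  | mul a c _ _ iha ihc =>
    obtain ⟨g, hg, y, hy, rfl⟩ := iha
    obtain ⟨g', hg', y', hy', rfl⟩ := ihc
    have hgg : g * g' ∉ q := fun h => (Ideal.IsPrime.mem_or_mem ‹_› h).elim hg hg'
    refine ⟨g * g', hgg, _, Subgroup.mul_mem _
      (map_mem_commutator (transition g (g * g') (dvd_mul_right _ _)) hy)
      (map_mem_commutator (transition g' (g * g') (dvd_mul_left _ _)) hy'), ?_⟩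
    rw [map_mul, map_toQ_transition q g _ _ hg hgg, map_toQ_transition q g' _ _ hg' hgg]
  | inv a _ iha =>
    obtain ⟨g, hg, y, hy, rfl⟩ := iha
    exact ⟨g, hg, y⁻¹, Subgroup.inv_mem _ hy, map_inv _ _⟩

/-- If `s` becomes a commutator product over `S_q`, it does so over some `S_g`. -/
theorem exists_mem_commutator_away (s : GL n S)
    (h : GeneralLinearGroup.map (algebraMap S Sq) s ∈ commutator (GL n Sq)) :
    ∃ g, g ∉ q ∧
      GeneralLinearGroup.map (algebraMap S (Localization.Away g)) s ∈
        commutator (GL n (Localization.Away g)) := by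
  obtain ⟨g, hg, y, hy, hy'⟩ := exists_mem_commutator q _ h
  have hex : ∀ ij : n × n, ∃ c ∉ q, algebraMap S (Localization.Away g) c *
      ((y : Matrix n n (Localization.Away g)) ij.1 ij.2 -
        algebraMap S (Localization.Away g) ((s : Matrix n n S) ij.1 ij.2)) = 0 := by
    intro ij
    set z := (y : Matrix n n (Localization.Away g)) ij.1 ij.2 -
        algebraMap S (Localization.Away g) ((s : Matrix n n S) ij.1 ij.2)
    have hz : toQ q g hg z = 0 := by
      rw [map_sub, ← RingHom.comp_apply (toQ q g hg) (algebraMap S _), toQ_comp, sub_eq_zero]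
      exact congrArg (fun m : GL n Sq => (m : Matrix n n Sq) ij.1 ij.2) hy'
    obtain ⟨⟨a, m⟩, ha⟩ := IsLocalization.surj (Submonoid.powers g) z
    have : algebraMap S Sq a = 0 := by
      rw [← toQ_comp q g hg, RingHom.comp_apply, ← ha, map_mul, hz, zero_mul]
    obtain ⟨⟨c, hc⟩, hca⟩ := (IsLocalization.map_eq_zero_iff q.primeCompl Sq a).mp this
    refine ⟨c, hc, ((IsLocalization.map_units (Localization.Away g) m).mul_left_inj).mp ?_⟩
    rw [zero_mul, mul_assoc, ha, ← map_mul, hca, map_zero]
  choose c hc hc' using hex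
  have hG : g * ∏ ij, c ij ∉ q := fun h => (Ideal.IsPrime.mem_or_mem ‹_› h).elim hg fun h => by
    obtain ⟨ij, -, hij⟩ := (Ideal.IsPrime.prod_mem_iff (hp := ‹q.IsPrime›)).mp h
    exact hc ij hij
  refine ⟨_, hG, ?_⟩
  convert! map_mem_commutator (transition g (g * ∏ ij, c ij) (dvd_mul_right _ _)) hy using 1
  refine Units.ext ?_
  ext i j
  show algebraMap S _ ((s : Matrix n n S) i j) =
    transition g (g * ∏ ij, c ij) (dvd_mul_right _ _) ((y : Matrix n n (Localization.Away g)) i j)
  have h1 := congrArg (transition g (g * ∏ ij, c ij) (dvd_mul_right _ _)) (hc' (i, j))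
  have hcomp : ∀ a, transition g (g * ∏ ij, c ij) (dvd_mul_right _ _) (algebraMap S _ a) =
      algebraMap S _ a := fun a => IsLocalization.Away.lift_eq g _ a
  rw [map_mul, map_sub, hcomp, hcomp, map_zero] at h1
  have hu : IsUnit (algebraMap S (Localization.Away (g * ∏ ij, c ij)) (c (i, j))) :=
    isUnit_of_dvd_unit (map_dvd _ ((Finset.dvd_prod_of_mem c (Finset.mem_univ (i, j))).trans
      (dvd_mul_left _ g))) (IsLocalization.Away.algebraMap_isUnit _)
  exact (sub_eq_zero.mp (hu.mul_right_eq_zero.mp h1)).symm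

end Groth.L02.GLSpread
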