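import Groth.Agent.L02.SepClosedTensor
import Mathlib.FieldTheory.SeparableClosure
import Mathlib.RingTheory.Unramified.Field
import Mathlib.RingTheory.Etale.Field
import Mathlib.RingTheory.TensorProduct.Free
import Mathlib.LinearAlgebra.FiniteDimensional.Basic

/-!
Geometric irreducibility of field extensions.
-/

set_option autoImplicit false
universe u

open TensorProduct Polynomial IntermediateField

namespace Groth.L02.GeomIrredField

variable {k K : Type u} [Field k] [Field K] [Algebra k K]

theorem separable_elements_of_irreducible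
    (h : ∀ (k' : Type u) [Field k'] [Algebra k k'], IrreducibleSpace (PrimeSpectrum (k' ⊗[k] K)))
    (α : K) (hα : IsSeparable k α) : α ∈ Set.range (algebraMap k K) := by
  by_contra hnot
  haveI : FiniteDimensional k k⟮α⟯ := adjoin.finiteDimensional hα.isIntegral
  haveI : Algebra.IsSeparable k k⟮α⟯ := (isSeparable_adjoin_simple_iff_isSeparable (F := k) (E := K)).mpr hα
  haveI : Algebra.FormallyEtale k k⟮α⟯ := Algebra.FormallyEtale.of_isSeparable k k⟮α⟯
  haveI : IsReduced (k⟮α⟯ ⊗[k] k⟮α⟯) :=
    Algebra.FormallyUnramified.isReduced_of_field k⟮α⟯ (k⟮α⟯ ⊗[k] k⟮α⟯)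
  have hp : (nilradical (k⟮α⟯ ⊗[k] K)).IsPrime :=
    PrimeSpectrum.irreducibleSpace_iff_isPrime_nilradical.mp (h k⟮α⟯)
  let ι := Algebra.TensorProduct.map (AlgHom.id k k⟮α⟯) k⟮α⟯.val
  have hι : Function.Injective ι :=
    Module.Flat.lTensor_preserves_injective_linearMap (M := k⟮α⟯) k⟮α⟯.val.toLinearMap Subtype.val_injective
  have hp' := SepClosedTensor.isPrime_nilradical_of_injective ι.toRingHom hι hp
  rw [nilradical_eq_zero] at hp'
  haveI : Nontrivial (k⟮α⟯ ⊗[k] k⟮α⟯) := ⟨1, 0, fun h1 => hp'.ne_top ((Ideal.eq_top_iff_one _).mpr (by simp [h1]))⟩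
  haveI : NoZeroDivisors (k⟮α⟯ ⊗[k] k⟮α⟯) :=
    ⟨fun {a b} hab => by simpa using hp'.mem_or_mem (by simp [hab] : a * b ∈ (0 : Ideal _))⟩
  haveI : IsDomain (k⟮α⟯ ⊗[k] k⟮α⟯) := NoZeroDivisors.to_isDomain (k⟮α⟯ ⊗[k] k⟮α⟯)
  have hfield : IsField (k⟮α⟯ ⊗[k] k⟮α⟯) := isField_of_isIntegral_of_isField' (R := k) (S := k⟮α⟯ ⊗[k] k⟮α⟯) (Field.toIsField k)
  have hinj : Function.Injective (Algebra.TensorProduct.lmul' k : k⟮α⟯ ⊗[k] k⟮α⟯ →ₐ[k] k⟮α⟯) :=
    (injective_iff_map_eq_zero _).mpr fun x hx => by
      by_contra hx0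
      obtain ⟨y, hy⟩ := hfield.mul_inv_cancel hx0
      simpa [hx] using congrArg (Algebra.TensorProduct.lmul' k : k⟮α⟯ ⊗[k] k⟮α⟯ →ₐ[k] k⟮α⟯) hy
  have hle := LinearMap.finrank_le_finrank_of_injective (f := (Algebra.TensorProduct.lmul' k :
    k⟮α⟯ ⊗[k] k⟮α⟯ →ₐ[k] k⟮α⟯).toLinearMap) hinj
  rw [Module.finrank_tensorProduct] at hle
  have hpos : 0 < Module.finrank k k⟮α⟯ := Module.finrank_pos
  have hne : Module.finrank k k⟮α⟯ ≠ 1 := by
    rw [Ne, IntermediateField.finrank_eq_one_iff, adjoin_simple_eq_bot_iff, mem_bot]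
    exact hnot
  nlinarith [show 2 ≤ Module.finrank k k⟮α⟯ by omega]

variable (h : ∀ α : K, IsSeparable k α → α ∈ Set.range (algebraMap k K))
include h

/-- A separable irreducible polynomial over `k` stays the minimal polynomial over `K`. -/
theorem minpoly_eq_map {E : Type u} [Field E] [IsAlgClosed E] [Algebra k E] [Algebra K E] [IsScalarTower k K E]
    (θ : E) (hθ : IsSeparable k θ) : minpoly K θ = (minpoly k θ).map (algebraMap k K) := by
  have hint : IsIntegral k θ := hθ.isIntegral
  have hgint : IsIntegral K θ := hint.tower_top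
  have hdvd : minpoly K θ ∣ (minpoly k θ).map (algebraMap k K) := minpoly.dvd_map_of_isScalarTower k K θ
  let S := separableClosure k E
  have hroots : ∀ r ∈ ((minpoly K θ).map (algebraMap K E)).roots, r ∈ S := by
    intro r hr
    rw [mem_separableClosure_iff]
    have hr0 : (minpoly K θ).aeval r = 0 := by
      have := (mem_roots'.mp hr).2
      rwa [IsRoot.def, eval_map, ← aeval_def] at this
    have : (minpoly k θ).aeval r = 0 := by
      obtain ⟨c, hc⟩ := hdvd
      rw [← aeval_map_algebraMap K, hc, map_mul, hr0, zero_mul]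
    exact Polynomial.Separable.of_dvd hθ (minpoly.dvd k r this)
  have hlift : (minpoly K θ).map (algebraMap K E) ∈ Polynomial.lifts (algebraMap S E) := by
    rw [Polynomial.Splits.eq_prod_roots_of_monic (IsAlgClosed.splits _) ((minpoly.monic hgint).map _)]
    refine multiset_prod_mem _ fun q hq => ?_
    obtain ⟨r, hr, rfl⟩ := Multiset.mem_map.mp hq
    exact ⟨X - C (⟨r, hroots r hr⟩ : S), by simp⟩
  have hcoeff : minpoly K θ ∈ Polynomial.lifts (algebraMap k K) := by
    rw [Polynomial.lifts_iff_coeff_lifts] at hlift ⊢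
    intro n
    obtain ⟨s, hs⟩ := hlift n
    refine h _ ?_
    have : IsSeparable k (algebraMap K E ((minpoly K θ).coeff n)) := by
      rw [← coeff_map, ← hs]
      exact mem_separableClosure_iff.mp s.2
    unfold IsSeparable at this ⊢
    rwa [minpoly.algebraMap_eq (algebraMap K E).injective] at this
  obtain ⟨g₀, hg₀, -, hmon⟩ := Polynomial.lifts_and_degree_eq_and_monic hcoeff (minpoly.monic hgint)
  have h0 : aeval θ g₀ = 0 := by
    rw [← aeval_map_algebraMap K, hg₀, minpoly.aeval]
  refine (Polynomial.eq_of_monic_of_associated (minpoly.monic hgint) ((minpoly.monic hint).map _)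
    (associated_of_dvd_dvd hdvd ?_))
  rw [← hg₀]
  exact Polynomial.map_dvd _ (minpoly.dvd k θ h0)

theorem injective_tensor_of_separable {L : Type u} [Field L] [Algebra k L] [FiniteDimensional k L]
    [Algebra.IsSeparable k L] : IsDomain (K ⊗[k] L) := by
  obtain ⟨θ, hθ⟩ := Field.exists_primitive_element k L
  let j : L →ₐ[k] AlgebraicClosure K := IsAlgClosed.lift
  let φ : K ⊗[k] L →ₐ[K] AlgebraicClosure K :=
    Algebra.TensorProduct.lift (Algebra.ofId K _) j (fun _ _ => Commute.all _ _)
  have hsep : IsSeparable k (j θ) := by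
    unfold IsSeparable
    rw [minpoly.algHom_eq j j.injective]
    exact Algebra.IsSeparable.isSeparable k θ
  have hdeg : (minpoly K (j θ)).natDegree = Module.finrank k L := by
    rw [minpoly_eq_map h (j θ) hsep, natDegree_map, minpoly.algHom_eq j j.injective,
      ← IntermediateField.adjoin.finrank (Algebra.IsIntegral.isIntegral θ), hθ, IntermediateField.finrank_top']
  have hint : IsIntegral K (j θ) := (hsep.isIntegral).tower_top
  have hmem : j θ ∈ φ.range := ⟨(1 : K) ⊗ₜ θ, by simp [φ]⟩
  have hle : Module.finrank K (K ⊗[k] L) ≤ Module.finrank K φ.range := by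
    rw [Module.finrank_baseChange, ← hdeg, ← IntermediateField.adjoin.finrank hint]
    have hsub : (K⟮j θ⟯).toSubalgebra ≤ φ.range := by
      rw [IntermediateField.adjoin_simple_toSubalgebra_of_isAlgebraic hint.isAlgebraic]
      exact Algebra.adjoin_le (by simpa using hmem)
    haveI : Module.Finite K φ.range := Module.Finite.range φ.toLinearMap
    exact Submodule.finrank_mono (t := Subalgebra.toSubmodule φ.range) (Subalgebra.toSubmodule.monotone hsub)
  have hinj : Function.Injective φ := by
    have := LinearMap.finrank_range_add_finrank_ker φ.toLinearMap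
    have hrange : Module.finrank K (LinearMap.range φ.toLinearMap) = Module.finrank K φ.range := rfl
    have hker : LinearMap.ker φ.toLinearMap = ⊥ := by
      rw [← Submodule.finrank_eq_zero (R := K)]
      omega
    exact LinearMap.ker_eq_bot.mp hker
  exact hinj.isDomain φ.toRingHom

theorem isDomain_separable_tensor (F : Type u) [Field F] [Algebra k F] [Algebra.IsSeparable k F] : IsDomain (F ⊗[k] K) := by
  haveI : Nontrivial (F ⊗[k] K) :=
    (Algebra.TensorProduct.includeRight_injective (algebraMap k (F)).injective :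
      Function.Injective (Algebra.TensorProduct.includeRight : K → F ⊗[k] K)).nontrivial
  have key : ∀ z : F ⊗[k] K, ∃ (L : IntermediateField k (F)),
      FiniteDimensional k L ∧ z ∈ (Algebra.TensorProduct.map L.val (AlgHom.id k K)).range := by
    intro z
    induction z using TensorProduct.induction_on with
    | zero => exact ⟨⊥, inferInstance, zero_mem _⟩
    | tmul a b =>
      exact ⟨k⟮a⟯, adjoin.finiteDimensional (Algebra.IsIntegral.isIntegral a),
        ⟨(⟨a, mem_adjoin_simple_self k a⟩ : k⟮a⟯) ⊗ₜ b, by simp⟩⟩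
    | add z w hz hw =>
      obtain ⟨L₁, _, x, rfl⟩ := hz
      obtain ⟨L₂, _, y, rfl⟩ := hw
      refine ⟨L₁ ⊔ L₂, inferInstance,
        Algebra.TensorProduct.map (IntermediateField.inclusion (le_sup_left : L₁ ≤ L₁ ⊔ L₂)) (AlgHom.id k K) x +
          Algebra.TensorProduct.map (IntermediateField.inclusion (le_sup_right : L₂ ≤ L₁ ⊔ L₂)) (AlgHom.id k K) y, ?_⟩
      have e : ∀ (L' : IntermediateField k (F)) (hL : L' ≤ L₁ ⊔ L₂) (t : L' ⊗[k] K),
          Algebra.TensorProduct.map (L₁ ⊔ L₂).val (AlgHom.id k K)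
            (Algebra.TensorProduct.map (IntermediateField.inclusion hL) (AlgHom.id k K) t) =
          Algebra.TensorProduct.map L'.val (AlgHom.id k K) t := by
        intro L' hL t
        rw [← AlgHom.comp_apply, ← Algebra.TensorProduct.map_comp]
        rfl
      simp only [AlgHom.toRingHom_eq_coe, RingHom.coe_coe, map_add, e]
  haveI : NoZeroDivisors (F ⊗[k] K) := ⟨fun {x y} hxy => by
    obtain ⟨L₁, _, x₁, hx⟩ := key x
    obtain ⟨L₂, _, y₁, hy⟩ := key y
    haveI : Algebra.IsSeparable k ↥(L₁ ⊔ L₂) := inferInstance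
    haveI := injective_tensor_of_separable h (L := ↥(L₁ ⊔ L₂))
    haveI : IsDomain (↥(L₁ ⊔ L₂) ⊗[k] K) :=
      (Algebra.TensorProduct.comm k ↥(L₁ ⊔ L₂) K).toMulEquiv.isDomain _
    let m := Algebra.TensorProduct.map (L₁ ⊔ L₂).val (AlgHom.id k K)
    have hm : Function.Injective m :=
      Module.Flat.rTensor_preserves_injective_linearMap (M := K) (L₁ ⊔ L₂).val.toLinearMap Subtype.val_injective
    let x₂ := Algebra.TensorProduct.map (IntermediateField.inclusion (le_sup_left : L₁ ≤ L₁ ⊔ L₂)) (AlgHom.id k K) x₁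
    let y₂ := Algebra.TensorProduct.map (IntermediateField.inclusion (le_sup_right : L₂ ≤ L₁ ⊔ L₂)) (AlgHom.id k K) y₁
    have hx₂ : m x₂ = x := by
      simp only [m, x₂, ← AlgHom.comp_apply, ← Algebra.TensorProduct.map_comp]
      exact hx
    have hy₂ : m y₂ = y := by
      simp only [m, y₂, ← AlgHom.comp_apply, ← Algebra.TensorProduct.map_comp]
      exact hy
    have h0 : x₂ * y₂ = 0 := hm (by rw [map_mul, hx₂, hy₂, hxy, map_zero])
    rcases mul_eq_zero.mp h0 with h1 | h1
    · left; rw [← hx₂, h1, map_zero]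
    · right; rw [← hy₂, h1, map_zero]⟩
  exact NoZeroDivisors.to_isDomain (F ⊗[k] K)

theorem irreducible_aux (F : Type u) [Field F] [IsSepClosed F] [Algebra k F] [Algebra.IsSeparable k F]
    (C : Type u) [Field C] [Algebra k C] [Algebra F C] [IsScalarTower k F C] :
    (nilradical (C ⊗[k] K)).IsPrime := by
  haveI := isDomain_separable_tensor h F
  have hd : (nilradical C).IsPrime := by rw [nilradical_eq_zero]; exact Ideal.isPrime_bot
  have hs : (nilradical (F ⊗[k] K)).IsPrime := by
    haveI : IsReduced (F ⊗[k] K) := ⟨fun x ⟨n, hn⟩ => eq_zero_of_pow_eq_zero hn⟩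
    rw [nilradical_eq_zero]; exact Ideal.isPrime_bot
  exact SepClosedTensor.isPrime_nilradical_of_injective
    (Algebra.TensorProduct.cancelBaseChange k F C C K).symm.toRingEquiv.toRingHom
    (Algebra.TensorProduct.cancelBaseChange k F C C K).symm.injective
    (SepClosedTensor.isPrime_nilradical_tensor (k := F) hd hs)

theorem irreducible_of_separable_elements (k' : Type u) [Field k'] [Algebra k k'] :
    IrreducibleSpace (PrimeSpectrum (k' ⊗[k] K)) := by
  rw [PrimeSpectrum.irreducibleSpace_iff_isPrime_nilradical]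
  let C := AlgebraicClosure k'
  refine SepClosedTensor.isPrime_nilradical_of_injective
    (Algebra.TensorProduct.map (IsScalarTower.toAlgHom k k' C) (AlgHom.id k K)).toRingHom
    (Module.Flat.rTensor_preserves_injective_linearMap (M := K) (IsScalarTower.toAlgHom k k' C).toLinearMap
      (algebraMap k' C).injective) ?_
  let j : SeparableClosure k →ₐ[k] C := IsAlgClosed.lift
  letI : Algebra (SeparableClosure k) C := j.toRingHom.toAlgebra
  haveI : IsScalarTower k (SeparableClosure k) C := .of_algebraMap_eq fun x => (j.commutes x).symm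
  exact irreducible_aux h (SeparableClosure k) C

end Groth.L02.GeomIrredField
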