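import Mathlib.Algebra.MonoidAlgebra.Basic
import Mathlib.Algebra.Polynomial.AlgebraMap
import Mathlib.RingTheory.Spectrum.Prime.Topology

/-!
Natural characters of the multiplicative group over a connected base, and vanishing of characters of
the additive group invariant under scaling.
-/

namespace Groth.L02.GmChar

open AddMonoidAlgebra

universe u

variable {R : Type u} [CommRing R]

lemma idem_eq [ConnectedSpace (PrimeSpectrum R)] {e : R} (he : IsIdempotentElem e) : e = 0 ∨ e = 1 := by
  have hcl : IsClopen (PrimeSpectrum.basicOpen e : Set (PrimeSpectrum R)) :=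
    PrimeSpectrum.isClopen_basicOpen_of_mul_add e (1 - e) (by rw [mul_sub, mul_one, he.eq, sub_self])
      (add_sub_cancel e 1)
  rcases isClopen_iff.mp hcl with h | h
  · left
    have hnil : IsNilpotent e := PrimeSpectrum.basicOpen_eq_bot_iff e |>.mp (TopologicalSpace.Opens.ext h)
    obtain ⟨k, hk⟩ := hnil
    rcases k.eq_zero_or_pos with rfl | hk0
    · rw [pow_zero] at hk; calc e = e * 1 := (mul_one e).symm
        _ = 0 := by rw [hk, mul_zero]
    · rwa [← Nat.succ_pred_eq_of_pos hk0, he.pow_succ_eq] at hk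
  · right
    have hu : IsUnit e := by
      by_contra hu
      obtain ⟨q, hq, hmem⟩ := exists_max_ideal_of_mem_nonunits hu
      have : (⟨q, hq.isPrime⟩ : PrimeSpectrum R) ∈ (PrimeSpectrum.basicOpen e : Set (PrimeSpectrum R)) := by
        rw [h]; exact Set.mem_univ _
      exact this hmem
    exact hu.mul_left_cancel (he.eq.trans (mul_one e).symm)

theorem exists_zpow [ConnectedSpace (PrimeSpectrum R)]
    (χ : ∀ (B : Type u) [CommRing B] [Algebra R B], Bˣ →* Bˣ)
    (hχ : ∀ (B C : Type u) [CommRing B] [Algebra R B] [CommRing C] [Algebra R C] (φ : B →ₐ[R] C)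
      (u : Bˣ), χ C (Units.map (φ : B →* C) u) = Units.map (φ : B →* C) (χ B u)) :
    ∃ m : ℤ, ∀ (B : Type u) [CommRing B] [Algebra R B] (u : Bˣ), χ B u = u ^ m := by
  classical
  let T : R[ℤ]ˣ := (of R ℤ).toHomUnits (Multiplicative.ofAdd 1)
  let f : R[ℤ] := (χ R[ℤ] T : R[ℤ]ˣ)
  let a : ℤ → R := fun k => f.coeff k
  let S := f.coeff.support
  have hf : f = ∑ k ∈ S, single k (a k) := (sum_coeff_single f).symm
  let ev : ∀ (B : Type u) [CommRing B] [Algebra R B], Bˣ → (R[ℤ] →ₐ[R] B) := fun B _ _ u =>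
    lift R B ℤ ((Units.coeHom B).comp (zpowersHom Bˣ u))
  have hev : ∀ (B : Type u) [CommRing B] [Algebra R B] (u : Bˣ),
      (χ B u : B) = ∑ k ∈ S, a k • ((u ^ k : Bˣ) : B) := by
    intro B _ _ u
    have h := congrArg Units.val (hχ R[ℤ] B (ev B u) T)
    have hT : Units.map ((ev B u : R[ℤ] →ₐ[R] B) : R[ℤ] →* B) T = u := Units.ext (by
      show lift R B ℤ _ (single (1 : ℤ) (1 : R)) = _
      rw [lift_single, one_smul]
      simp)
    rw [hT] at h
    rw [h]
    show ev B u f = _
    rw [hf, map_sum]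
    refine Finset.sum_congr rfl fun k _ => ?_
    show lift R B ℤ _ (single k (a k)) = _
    rw [lift_single]
    rfl
  let E : Multiplicative (ℤ × ℤ) →* (R[ℤ × ℤ])ˣ := (of R (ℤ × ℤ)).toHomUnits
  have hE : ∀ (x : ℤ × ℤ) (k : ℤ), ((E (Multiplicative.ofAdd x) ^ k : (R[ℤ × ℤ])ˣ) : R[ℤ × ℤ]) =
      single (k • x) 1 := fun x k => by
    rw [← map_zpow, ← ofAdd_zsmul]
    simp [E]
  have hmul := congrArg Units.val ((χ R[ℤ × ℤ]).map_mul (E (Multiplicative.ofAdd (1, 0)))
    (E (Multiplicative.ofAdd (0, 1))))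
  rw [Units.val_mul, ← map_mul, ← ofAdd_add, hev, hev, hev, Finset.sum_mul_sum] at hmul
  simp only [hE, smul_single, single_mul_single, Prod.smul_mk, smul_eq_mul, mul_one, mul_zero,
    Prod.mk_add_mk, add_zero, zero_add] at hmul
  have hjk : ∀ j k, a j * a k = if j = k then a j else 0 := by
    intro j k
    have h := congrArg (fun g : R[ℤ × ℤ] => g.coeff (j, k)) hmul
    simp only [coeff_sum, Finsupp.finsetSum_apply, coeff_single, Finsupp.single_apply,
      Prod.mk.injEq] at h
    have hmem : ∀ i, i ∉ S → a i = 0 := fun i hi => Finsupp.notMem_support_iff.mp hi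
    by_cases hj : j ∈ S
    · by_cases hk : k ∈ S
      · simp [Finset.sum_ite_eq', ite_and, hj, hk] at h
        rw [← h]
      · simp [hmem k hk]; intro h'; exact absurd (h' ▸ hj) hk
    · simp [hmem j hj]
  have hsum : ∑ k ∈ S, a k = 1 := by
    have h := hev R 1
    rw [map_one] at h
    simpa using h.symm
  haveI : Nontrivial R := by
    obtain ⟨⟨q, hq⟩⟩ := (inferInstance : Nonempty (PrimeSpectrum R))
    exact ⟨⟨0, 1, fun h => hq.ne_top ((Ideal.eq_top_iff_one q).mpr (h ▸ q.zero_mem))⟩⟩
  obtain ⟨m, hm, hm0⟩ : ∃ m ∈ S, a m ≠ 0 := by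
    by_contra! h
    rw [Finset.sum_eq_zero h] at hsum
    exact zero_ne_one hsum
  have hm1 : a m = 1 := (idem_eq (show IsIdempotentElem (a m) from (hjk m m).trans (if_pos rfl))).resolve_left hm0
  refine ⟨m, fun B _ _ u => Units.ext ?_⟩
  rw [hev, Finset.sum_eq_single m]
  · rw [hm1, one_smul]
  · intro k _ hk
    have := hjk k m
    rw [if_neg hk, hm1, mul_one] at this
    rw [this, zero_smul]
  · exact fun h => absurd hm h

theorem eq_one_of_scale_invariant
    (β : ∀ (B : Type u) [CommRing B] [Algebra R B], B → Bˣ)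
    (hβ : ∀ (B C : Type u) [CommRing B] [Algebra R B] [CommRing C] [Algebra R C] (φ : B →ₐ[R] C)
      (c : B), β C (φ c) = Units.map (φ : B →* C) (β B c))
    (hscale : ∀ (B : Type u) [CommRing B] [Algebra R B] (w : Bˣ) (c : B), β B (w * c) = β B c)
    (h0 : ∀ (B : Type u) [CommRing B] [Algebra R B], β B 0 = 1)
    (B : Type u) [CommRing B] [Algebra R B] (c : B) : β B c = 1 := by
  let f : Polynomial R := (β (Polynomial R) Polynomial.X : (Polynomial R)ˣ)
  have hev : ∀ (B : Type u) [CommRing B] [Algebra R B] (c : B),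
      (β B c : B) = Polynomial.aeval c f := fun B _ _ c => by
    have h := hβ (Polynomial R) B (Polynomial.aeval c) Polynomial.X
    rw [Polynomial.aeval_X] at h
    rw [h]
    rfl
  let T : R[ℤ]ˣ := (of R ℤ).toHomUnits (Multiplicative.ofAdd 1)
  let w : (Polynomial R[ℤ])ˣ := Units.map (Polynomial.C : R[ℤ] →+* Polynomial R[ℤ]).toMonoidHom T
  have h := congrArg Units.val (hscale (Polynomial R[ℤ]) w Polynomial.X)
  rw [hev, hev] at h
  have hco : ∀ (t : R[ℤ]) (g : Polynomial R) (k : ℕ),
      (Polynomial.aeval (Polynomial.C t * Polynomial.X : Polynomial R[ℤ]) g).coeff k =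
        algebraMap R R[ℤ] (g.coeff k) * t ^ k := by
    intro t g k
    induction g using Polynomial.induction_on' with
    | add p q hp hq => simp only [map_add, Polynomial.coeff_add, hp, hq, add_mul]
    | monomial n r =>
      rw [Polynomial.aeval_monomial, mul_pow, ← map_pow, ← mul_assoc,
        IsScalarTower.algebraMap_apply R R[ℤ] (Polynomial R[ℤ]), Polynomial.algebraMap_eq, ← map_mul,
        Polynomial.coeff_C_mul_X_pow, Polynomial.coeff_monomial]
      by_cases hnk : n = k
      · subst hnk; simp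
      · simp [hnk, Ne.symm hnk]
  have hk : ∀ k, k ≠ 0 → f.coeff k = 0 := by
    intro k hk
    have h' := congrArg (fun g : Polynomial R[ℤ] => g.coeff k) h
    rw [show (Polynomial.X : Polynomial R[ℤ]) = Polynomial.C 1 * Polynomial.X by rw [map_one, one_mul]] at h'
    rw [show (w : Polynomial R[ℤ]) * (Polynomial.C 1 * Polynomial.X) = Polynomial.C (T : R[ℤ]) * Polynomial.X by
      rw [map_one, one_mul]; rfl] at h'
    simp only [hco, one_pow, mul_one] at h'
    have := congrArg (fun g : R[ℤ] => g.coeff 0) h'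
    simp [T, ← LaurentPolynomial.single_eq_C_mul_T, Finsupp.single_apply, hk] at this
    exact this.symm
  refine Units.ext ?_
  rw [hev, Units.val_one]
  have hfC : f = Polynomial.C (f.coeff 0) := by
    ext k
    rcases eq_or_ne k 0 with rfl | hk0
    · simp
    · simp [hk k hk0, Polynomial.coeff_C, hk0]
  have h1 := congrArg Units.val (h0 R)
  rw [hev, hfC, Polynomial.aeval_C, Units.val_one] at h1
  rw [hfC, Polynomial.aeval_C]
  rw [show f.coeff 0 = 1 from h1, map_one]

end Groth.L02.GmChar
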