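import Groth.Agent.L29.Dual.GorensteinRing
import Mathlib.Algebra.Homology.DerivedCategory.Ext.EnoughProjectives
import Mathlib.Algebra.Category.ModuleCat.Projective
import Mathlib.LinearAlgebra.Dual.Defs
import Mathlib.RingTheory.Localization.AtPrime.Basic

/-!
Torsionless modules over Gorenstein rings of dimension at most one are reflexive.
-/

set_option autoImplicit false
universe u

open CategoryTheory CategoryTheory.Abelian IsLocalRing

attribute [local instance] HasDerivedCategory.standard

set_option backward.isDefEq.respectTransparency false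

namespace Groth.L02.GorensteinReflexive

variable {A : Type u} [CommRing A]

theorem hasInjectiveDimensionLT_two [LocCoh.IsGorensteinLocalRing A] (hd : ringKrullDim A ≤ 1) :
    HasInjectiveDimensionLT (ModuleCat.of A A) 2 := by
  obtain ⟨n, hn⟩ := Groth.L01.exists_dim_eq_nat (R := A)
  have hn1 : n ≤ 1 := by rw [hn] at hd; exact_mod_cast hd
  obtain ⟨-, hnorm⟩ := Groth.L29.Gorenstein.exists_normalized_self (A := A) n hn
  refine Groth.L06.ExtDim.hasInjectiveDimensionLT_of_forall_quotient 1 _ fun I =>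
    Groth.L29.Gorenstein.subsingleton_ext_of_residueField (ModuleCat.of A A) 2 (fun j hj => ?_) n (A ⧸ I)
      ((Module.supportDim_le_ringKrullDim _ _).trans hn.le) 2 le_rfl
  haveI := hnorm ((j : ℤ) - n) (by omega)
  haveI : Subsingleton (Dual.inD A (ResidueField A) ⟶ (Dual.inD A A)⟦(j : ℤ)⟧) :=
    (Groth.L29.HomD.homShiftEquiv _ (Dual.inD A A) (n : ℤ) ((j : ℤ) - n) j (by omega)).symm.toEquiv.subsingleton
  exact (Ext.homEquiv (X := ModuleCat.of A (ResidueField A)) (Y := ModuleCat.of A A) (n := j)).subsingleton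

theorem exists_extend_local [LocCoh.IsGorensteinLocalRing A] (hd : ringKrullDim A ≤ 1) {q n r : ℕ}
    (g : (Fin q → A) →ₗ[A] (Fin n → A)) (ψ : (Fin n → A) →ₗ[A] (Fin r → A))
    (hgψ : LinearMap.range g = LinearMap.ker ψ) (v : (Fin q → A) →ₗ[A] A) (hv : LinearMap.ker g ≤ LinearMap.ker v) :
    ∃ e : (Fin n → A) →ₗ[A] A, e ∘ₗ g = v := by
  haveI := hasInjectiveDimensionLT_two hd
  let S₂ := Groth.L29.HomD.sc (LinearMap.range ψ).subtype (LinearMap.range ψ).mkQ
    (LinearMap.exact_subtype_mkQ _)
  have hS₂ : S₂.ShortExact :=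
    Groth.L29.HomD.sc_shortExact _ _ (Submodule.injective_subtype _) (Submodule.mkQ_surjective _) _
  have h1 : Subsingleton (Ext (ModuleCat.of A (LinearMap.range ψ)) (ModuleCat.of A A) 1) := by
    refine subsingleton_of_forall_eq 0 fun z => ?_
    haveI := HasInjectiveDimensionLT.subsingleton (ModuleCat.of A A) 2 2 le_rfl
      (ModuleCat.of A ((Fin r → A) ⧸ LinearMap.range ψ))
    obtain ⟨y, hy⟩ := Ext.contravariant_sequence_exact₁ hS₂ (ModuleCat.of A A) z (show 1 + 1 = 2 by rfl)
      (Subsingleton.elim (α := Ext (ModuleCat.of A ((Fin r → A) ⧸ LinearMap.range ψ)) (ModuleCat.of A A) 2) _ _)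
    haveI : Projective (ModuleCat.of A (Fin r → A)) :=
      ModuleCat.projective_of_free (Pi.basisFun A (Fin r))
    rw [← hy, Ext.eq_zero_of_projective (P := ModuleCat.of A (Fin r → A)) y, Ext.comp_zero]
  let φ : LinearMap.ker ψ →ₗ[A] A :=
    (LinearMap.ker g).liftQ v hv ∘ₗ (g.quotKerEquivRange.symm.toLinearMap ∘ₗ
      (LinearEquiv.ofEq _ _ hgψ.symm).toLinearMap)
  let S₁ := Groth.L29.HomD.sc (LinearMap.ker ψ).subtype ψ.rangeRestrict
    (LinearMap.exact_iff.mpr (by rw [LinearMap.ker_rangeRestrict, Submodule.range_subtype]))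
  have hS₁ : S₁.ShortExact :=
    Groth.L29.HomD.sc_shortExact _ _ (Submodule.injective_subtype _) ψ.surjective_rangeRestrict _
  obtain ⟨x, hx⟩ := Ext.contravariant_sequence_exact₁ hS₁ (ModuleCat.of A A)
    (Ext.mk₀ (ModuleCat.ofHom φ)) (show 1 + 0 = 1 by rfl) (h1.elim _ _)
  obtain ⟨e, rfl⟩ : ∃ e, Ext.mk₀ e = x := ⟨_, Ext.mk₀_homEquiv₀_apply x⟩
  rw [Ext.mk₀_comp_mk₀] at hx
  have hx' := (Ext.mk₀_bijective _ _).1 hx
  refine ⟨e.hom, LinearMap.ext fun c => ?_⟩
  have hc : g c ∈ LinearMap.ker ψ := hgψ ▸ LinearMap.mem_range_self g c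
  have h3 := LinearMap.congr_fun (congrArg ModuleCat.Hom.hom hx') ⟨g c, hc⟩
  refine h3.trans ?_
  show (LinearMap.ker g).liftQ v hv (g.quotKerEquivRange.symm ⟨g c, _⟩) = v c
  rw [LinearMap.quotKerEquivRange_symm_apply_image g c]
  rfl

/-- Extending functionals from kernels of maps of free modules. -/
theorem exists_extend [LocCoh.IsGorensteinRing A] (hd : ringKrullDim A ≤ 1) {n r : ℕ}
    (ψ : (Fin n → A) →ₗ[A] (Fin r → A)) (φ : LinearMap.ker ψ →ₗ[A] A) :
    ∃ e : (Fin n → A) →ₗ[A] A, e ∘ₗ (LinearMap.ker ψ).subtype = φ := by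
  classical
  let I : Ideal A :=
    { carrier := {s | ∃ e : (Fin n → A) →ₗ[A] A, e ∘ₗ (LinearMap.ker ψ).subtype = s • φ}
      add_mem' := by
        rintro s t ⟨e, he⟩ ⟨e', he'⟩
        exact ⟨e + e', by rw [LinearMap.add_comp, he, he', add_smul]⟩
      zero_mem' := ⟨0, by simp⟩
      smul_mem' := by
        rintro c s ⟨e, he⟩
        exact ⟨c • e, by rw [LinearMap.smul_comp, he, smul_smul]; rfl⟩ }
  suffices h : I = ⊤ by
    obtain ⟨e, he⟩ := (Ideal.eq_top_iff_one _).mp h
    exact ⟨e, by rw [he, one_smul]⟩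
  by_contra hI
  obtain ⟨P, hP, hle⟩ := Ideal.exists_le_maximal I hI
  haveI := hP.isPrime
  obtain ⟨q, k, hk⟩ := Submodule.fg_iff_exists_fin_generating_family.mp (IsNoetherian.noetherian (LinearMap.ker ψ))
  have hkm : ∀ l, k l ∈ LinearMap.ker ψ := fun l => hk ▸ Submodule.subset_span ⟨l, rfl⟩
  let AP := Localization.AtPrime P
  have hdP : ringKrullDim (Localization.AtPrime P) ≤ 1 :=
    by
    rw [IsLocalization.AtPrime.ringKrullDim_eq_height P]
    exact (Ideal.height_le_ringKrullDim_of_ne_top hP.ne_top).trans hd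
  haveI := LocCoh.IsGorensteinRing.isGorensteinLocalRing_localization (A := A) P
  let ι : A →+* Localization.AtPrime P := algebraMap A _
  let g : (Fin q → Localization.AtPrime P) →ₗ[Localization.AtPrime P] (Fin n → Localization.AtPrime P) :=
    Fintype.linearCombination (Localization.AtPrime P) fun l i => ι (k l i)
  let ψP : (Fin n → Localization.AtPrime P) →ₗ[Localization.AtPrime P] (Fin r → Localization.AtPrime P) :=
    Fintype.linearCombination (Localization.AtPrime P) fun i j => ι (ψ (Pi.single i 1) j)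
  let v : (Fin q → Localization.AtPrime P) →ₗ[Localization.AtPrime P] Localization.AtPrime P :=
    Fintype.linearCombination (Localization.AtPrime P) fun l => ι (φ ⟨k l, hkm l⟩)
  have hψι : ∀ (x : Fin n → A), ψP (fun i => ι (x i)) = fun j => ι (ψ x j) := by
    intro x
    funext j
    conv_rhs => rw [pi_eq_sum_univ' x]
    simp [ψP, Fintype.linearCombination_apply, Finset.sum_apply]
  have clear : ∀ {m : ℕ} (c : Fin m → Localization.AtPrime P), ∃ (s : A) (c' : Fin m → A),
      s ∉ P ∧ ∀ i, ι s * c i = ι (c' i) := by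
    intro m c
    obtain ⟨s, hs⟩ := IsLocalization.exist_integer_multiples_of_finite P.primeCompl c
    choose c' hc' using hs
    exact ⟨s, c', s.2, fun i => by rw [hc', Algebra.smul_def]⟩
  have hgι : ∀ (c : Fin q → A), g (fun l => ι (c l)) = fun i => ι ((∑ l, c l • k l) i) := by
    intro c
    funext i
    simp [g, Fintype.linearCombination_apply, Finset.sum_apply]
  have hex : LinearMap.range g = LinearMap.ker ψP := by
    refine le_antisymm ?_ fun x hx => ?_
    · rintro _ ⟨c, rfl⟩
      rw [LinearMap.mem_ker, show g c = ∑ l, c l • (fun i => ι (k l i)) from Fintype.linearCombination_apply _ _ _,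
        map_sum]
      refine Finset.sum_eq_zero fun l _ => ?_
      rw [map_smul, hψι, show (fun j => ι (ψ (k l) j)) = 0 by funext j; simp [LinearMap.mem_ker.mp (hkm l)], smul_zero]
    · obtain ⟨s, x', hs, hx'⟩ := clear x
      have h0 : ∀ j, ι (ψ x' j) = 0 := by
        intro j
        have h1 : ψP (ι s • x) = 0 := by rw [map_smul, LinearMap.mem_ker.mp hx, smul_zero]
        rw [show ι s • x = fun i => ι (x' i) from funext hx', hψι] at h1
        exact congrFun h1 j
      choose t ht using fun j => (IsLocalization.map_eq_zero_iff P.primeCompl _ _).mp (h0 j)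
      let T : A := ∏ j, (t j : A)
      have hT : T • x' ∈ LinearMap.ker ψ := by
        rw [LinearMap.mem_ker, map_smul]
        funext j
        obtain ⟨c, hc⟩ : (t j : A) ∣ T := Finset.dvd_prod_of_mem _ (Finset.mem_univ j)
        simp [hc, mul_comm (t j : A) c, mul_assoc, ht j]
      rw [← hk, Submodule.mem_span_range_iff_exists_fun] at hT
      obtain ⟨c, hc⟩ := hT
      have hu : IsUnit (ι T * ι s) :=
        IsUnit.mul (IsLocalization.map_units _ (⟨T, prod_mem fun j _ => (t j).2⟩ : P.primeCompl))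
          (IsLocalization.map_units _ (⟨s, hs⟩ : P.primeCompl))
      refine ⟨(↑hu.unit⁻¹ : Localization.AtPrime P) • fun l => ι (c l), ?_⟩
      rw [map_smul, hgι, hc]
      funext i
      simp only [Pi.smul_apply, smul_eq_mul, map_mul, ← hx' i]
      rw [← mul_assoc (ι T), ← mul_assoc, IsUnit.val_inv_mul, one_mul]
  have hv : LinearMap.ker g ≤ LinearMap.ker v := by
    intro c hc
    obtain ⟨s, c', hs, hc'⟩ := clear c
    have h0 : ∀ i, ι ((∑ l, c' l • k l) i) = 0 := by
      intro i
      have h1 : g (ι s • c) = 0 := by rw [map_smul, LinearMap.mem_ker.mp hc, smul_zero]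
      rw [show ι s • c = fun l => ι (c' l) from funext hc', hgι] at h1
      exact congrFun h1 i
    choose t ht using fun i => (IsLocalization.map_eq_zero_iff P.primeCompl _ _).mp (h0 i)
    let T : A := ∏ i, (t i : A)
    have hT : T • (∑ l, c' l • k l) = 0 := by
      funext i
      obtain ⟨d, hd⟩ : (t i : A) ∣ T := Finset.dvd_prod_of_mem _ (Finset.mem_univ i)
      rw [Pi.smul_apply, smul_eq_mul, hd, mul_comm (t i : A) d, mul_assoc, ht i, mul_zero]
      rfl
    have hφ : T * ∑ l, c' l * φ ⟨k l, hkm l⟩ = 0 := by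
      have h2 : T • ∑ l, c' l • (⟨k l, hkm l⟩ : LinearMap.ker ψ) = 0 := Subtype.ext (by simpa using hT)
      have h3 := congrArg φ h2
      simp only [map_smul, map_sum, smul_eq_mul, map_zero] at h3
      exact h3
    rw [LinearMap.mem_ker]
    have hu : IsUnit (ι T * ι s) :=
      IsUnit.mul (IsLocalization.map_units _ (⟨T, prod_mem fun j _ => (t j).2⟩ : P.primeCompl))
        (IsLocalization.map_units _ (⟨s, hs⟩ : P.primeCompl))
    rw [← hu.mul_right_eq_zero]
    have h3 := congrArg ι hφ
    rw [map_mul, map_sum, map_zero] at h3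
    rw [← h3, mul_assoc, show ι s * v c = v (ι s • c) by rw [map_smul, smul_eq_mul],
      show ι s • c = fun l => ι (c' l) from funext hc']
    simp [v, Fintype.linearCombination_apply]
  obtain ⟨e, he⟩ := exists_extend_local hdP g ψP hex v hv
  obtain ⟨s, a, hs, ha⟩ := clear fun i => e (Pi.single i 1)
  let e' : (Fin n → A) →ₗ[A] A := Fintype.linearCombination A a
  have hdiff : ∀ l, ι (e' (k l) - s * φ ⟨k l, hkm l⟩) = 0 := by
    intro l
    have h1 : e (g (Pi.single l 1)) = v (Pi.single l 1) := LinearMap.congr_fun he _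
    have hgl : g (Pi.single l 1) = ∑ i, ι (k l i) • (Pi.single i 1 : Fin n → Localization.AtPrime P) := by
      simp only [g, Fintype.linearCombination_apply_single, one_smul]
      exact pi_eq_sum_univ' _
    rw [hgl, map_sum] at h1
    simp only [map_smul, smul_eq_mul, v, Fintype.linearCombination_apply_single, one_mul] at h1
    rw [map_sub, map_mul, ← h1, Finset.mul_sum]
    simp only [e', Fintype.linearCombination_apply, smul_eq_mul, map_sum, map_mul, ← ha]
    rw [sub_eq_zero]
    exact Finset.sum_congr rfl fun i _ => by ring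
  choose t ht using fun l => (IsLocalization.map_eq_zero_iff P.primeCompl _ _).mp (hdiff l)
  let T : A := ∏ l, (t l : A)
  have hmem : T * s ∈ I := by
    refine ⟨T • e', LinearMap.ext fun x => ?_⟩
    obtain ⟨c, hc⟩ := (Submodule.mem_span_range_iff_exists_fun A).mp
      (hk.ge x.2)
    have hx : x = ∑ l, c l • (⟨k l, hkm l⟩ : LinearMap.ker ψ) := Subtype.ext (by simpa using hc.symm)
    rw [hx, map_sum, map_sum]
    refine Finset.sum_congr rfl fun l _ => ?_
    rw [map_smul, map_smul]
    congr 1
    obtain ⟨d, hd⟩ : (t l : A) ∣ T := Finset.dvd_prod_of_mem _ (Finset.mem_univ l)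
    show T * e' (k l) = T * s * φ ⟨k l, hkm l⟩
    rw [mul_assoc, ← sub_eq_zero, ← mul_sub, hd, mul_comm (t l : A) d, mul_assoc, ht l, mul_zero]
  exact (hP.isPrime.mem_or_mem (hle hmem)).elim (fun h => (prod_mem fun j _ => (t j).2 : T ∈ P.primeCompl) h) hs

/-- A finite module whose functionals separate points embeds in a free module. -/
theorem exists_embedding [IsNoetherianRing A] {M : Type u} [AddCommGroup M] [Module A M] [Module.Finite A M]
    (h : Function.Injective (Module.Dual.eval A M)) :
    ∃ (r : ℕ) (ψ : M →ₗ[A] (Fin r → A)), Function.Injective ψ := by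
  obtain ⟨r, f, hf⟩ := Module.Finite.exists_fin (R := A) (M := Module.Dual A M)
  refine ⟨r, LinearMap.pi f, (injective_iff_map_eq_zero _).mpr fun x hx => h ?_⟩
  rw [map_zero]
  have : ⊤ ≤ LinearMap.ker (Module.Dual.eval A M x) := by
    rw [← hf, Submodule.span_le]
    rintro _ ⟨i, rfl⟩
    exact congrFun hx i
  exact LinearMap.ext fun F => this Submodule.mem_top

theorem isReflexive_of_extend [IsNoetherianRing A]
    (hext : ∀ {n r : ℕ} (ψ : (Fin n → A) →ₗ[A] (Fin r → A)) (φ : LinearMap.ker ψ →ₗ[A] A),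
      ∃ e : (Fin n → A) →ₗ[A] A, e ∘ₗ (LinearMap.ker ψ).subtype = φ)
    {M : Type u} [AddCommGroup M] [Module A M] [Module.Finite A M]
    (h : Function.Injective (Module.Dual.eval A M)) : Module.IsReflexive A M := by
  classical
  refine ⟨h, fun η => ?_⟩
  obtain ⟨n, π, hπ⟩ := Module.Finite.exists_fin' A M
  obtain ⟨q, k, hk⟩ := Submodule.fg_iff_exists_fin_generating_family.mp (IsNoetherian.noetherian (LinearMap.ker π))
  -- `Fin n → A` stands for the dual of itself
  let ψ : (Fin n → A) →ₗ[A] (Fin q → A) := LinearMap.pi fun l => Fintype.linearCombination A (k l)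
  have hψ : ∀ y : Fin n → A, y ∈ LinearMap.ker ψ → ∃ f : Module.Dual A M, ∀ i, f (π (Pi.single i 1)) = y i := by
    intro y hy
    have hle : LinearMap.ker π ≤ LinearMap.ker (Fintype.linearCombination A y) := by
      rw [← hk, Submodule.span_le]
      rintro _ ⟨l, rfl⟩
      have := congrFun (LinearMap.mem_ker.mp hy) l
      simpa [ψ, Fintype.linearCombination_apply, mul_comm] using this
    refine ⟨(LinearMap.ker π).liftQ _ hle ∘ₗ (π.quotKerEquivOfSurjective hπ).symm.toLinearMap, fun i => ?_⟩
    have : (π.quotKerEquivOfSurjective hπ).symm (π (Pi.single i 1)) = Submodule.Quotient.mk (Pi.single i 1) := by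
      rw [LinearEquiv.symm_apply_eq]; rfl
    rw [LinearMap.comp_apply, LinearEquiv.coe_coe, this, Submodule.liftQ_apply,
      Fintype.linearCombination_apply_single, one_smul]
  let pull : Module.Dual A M →ₗ[A] LinearMap.ker ψ :=
    LinearMap.codRestrict _ (LinearMap.pi fun i => Module.Dual.eval A M (π (Pi.single i 1))) (fun f => by
      rw [LinearMap.mem_ker]
      funext l
      have h0 : π (k l) = 0 := LinearMap.mem_ker.mp (hk ▸ Submodule.subset_span ⟨l, rfl⟩)
      simp only [ψ, LinearMap.pi_apply, Fintype.linearCombination_apply, Module.Dual.eval_apply,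
        smul_eq_mul, Pi.zero_apply]
      have h1 := congrArg f h0
      rw [pi_eq_sum_univ' (k l), map_sum, map_sum, map_zero] at h1
      simpa [mul_comm] using h1)
  have hbij : Function.Bijective pull := by
    refine ⟨fun f f' hff => LinearMap.ext fun x => ?_, fun y => ?_⟩
    · obtain ⟨c, rfl⟩ := hπ x
      have h1 : f ∘ₗ π = f' ∘ₗ π := (Pi.basisFun A (Fin n)).ext fun i => by
        simpa [pull] using congrFun (congrArg Subtype.val hff) i
      exact LinearMap.congr_fun h1 c
    · obtain ⟨f, hf⟩ := hψ y.1 y.2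
      exact ⟨f, Subtype.ext (funext hf)⟩
  obtain ⟨e, he⟩ := hext ψ (η ∘ₗ (LinearEquiv.ofBijective pull hbij).symm.toLinearMap)
  refine ⟨π fun i => e (Pi.single i 1), LinearMap.ext fun f => ?_⟩
  have h1 : η f = e (pull f).1 := by
    have := LinearMap.congr_fun he (pull f)
    simp only [LinearMap.comp_apply, Submodule.subtype_apply, LinearEquiv.coe_coe] at this
    rw [this]
    exact congrArg η ((LinearEquiv.ofBijective pull hbij).symm_apply_apply f).symm
  rw [h1, Module.Dual.eval_apply, pi_eq_sum_univ' (fun i => e (Pi.single i 1)), map_sum, map_sum]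
  conv_rhs => rw [pi_eq_sum_univ' (pull f).1, map_sum]
  refine Finset.sum_congr rfl fun i _ => ?_
  simp [pull, mul_comm]

theorem isReflexive_of_injective_eval [LocCoh.IsGorensteinRing A] (hd : ringKrullDim A ≤ 1)
    {M : Type u} [AddCommGroup M] [Module A M] [Module.Finite A M]
    (h : Function.Injective (Module.Dual.eval A M)) : Module.IsReflexive A M :=
  isReflexive_of_extend (fun ψ φ => exists_extend hd ψ φ) h

theorem exists_extend' [LocCoh.IsGorensteinLocalRing A] (hd : ringKrullDim A ≤ 1) {n r : ℕ}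
    (ψ : (Fin n → A) →ₗ[A] (Fin r → A)) (φ : LinearMap.ker ψ →ₗ[A] A) :
    ∃ e : (Fin n → A) →ₗ[A] A, e ∘ₗ (LinearMap.ker ψ).subtype = φ := by
  obtain ⟨q, G, hG⟩ := Module.Finite.exists_fin' A (LinearMap.ker ψ)
  obtain ⟨e, he⟩ := exists_extend_local hd ((LinearMap.ker ψ).subtype ∘ₗ G) ψ
    (by rw [LinearMap.range_comp, LinearMap.range_eq_top.mpr hG, Submodule.map_subtype_top]) (φ ∘ₗ G)
    (fun c hc => by
      have h0 : G c = 0 := Subtype.ext (LinearMap.mem_ker.mp hc)
      simp [h0])
  refine ⟨e, LinearMap.ext fun x => ?_⟩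
  obtain ⟨c, rfl⟩ := hG x
  exact LinearMap.congr_fun he c

theorem isReflexive_of_injective_eval_local [LocCoh.IsGorensteinLocalRing A] (hd : ringKrullDim A ≤ 1)
    {M : Type u} [AddCommGroup M] [Module A M] [Module.Finite A M]
    (h : Function.Injective (Module.Dual.eval A M)) : Module.IsReflexive A M :=
  isReflexive_of_extend (fun ψ φ => exists_extend' hd ψ φ) h

end Groth.L02.GorensteinReflexive
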