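import Mathlib.RingTheory.DedekindDomain.Ideal.Basic
import Mathlib.RingTheory.Ideal.Quotient.Operations
import Mathlib.Data.Multiset.Dedup
import Mathlib.Order.Preorder.Finite

/-!
A domain with unique factorisation of ideals into primes is a Dedekind domain.
-/

namespace Groth.L02.IdealFactor

variable {D : Type*} [CommRing D] [IsDomain D]

/-- ideals dividing a nonzero principal ideal can be cancelled -/
lemma cancel_of_dvd {P X Y : Ideal D} {a : D} (ha : a ≠ 0) (hP : P ∣ Ideal.span {a}) (h : P * X = P * Y) :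
    X = Y := by
  obtain ⟨J, hJ⟩ := hP
  refine (Ideal.span_singleton_mul_right_inj ha).mp ?_
  rw [hJ, mul_right_comm, h, mul_right_comm]

omit [IsDomain D] in
/-- uniqueness of products of cancellable primes -/
lemma multiset_unique (n : ℕ) : ∀ s t : Multiset (Ideal D), s.card + t.card ≤ n →
    (∀ p ∈ s + t, p.IsPrime ∧ ∀ X Y, p * X = p * Y → X = Y) → s.prod = t.prod → s = t := by
  classical
  induction n with
  | zero => intro s t hn _ _; simp_all [Multiset.card_eq_zero]
  | succ n ih =>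
    intro s t hn hp he
    by_cases h0 : (s + t).toFinset.Nonempty
    · obtain ⟨q, hq⟩ := (s + t).toFinset.exists_minimal h0
      have hq' : q ∈ s + t := Multiset.mem_toFinset.mp hq.prop
      have side : ∀ (u w : Multiset (Ideal D)), q ∈ u → (∀ p ∈ w, p ∈ s + t) → u.prod = w.prod → q ∈ w := by
        intro u w hu hw hprod
        have hle : w.prod ≤ q := hprod ▸ Ideal.le_of_dvd (Multiset.dvd_prod hu)
        obtain ⟨p, hp', hpq⟩ := ((hp q hq').1.multiset_prod_le).mp hle
        rwa [← le_antisymm hpq (hq.le_of_le (Multiset.mem_toFinset.mpr (hw p hp')) hpq)]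
      have hqs : q ∈ s := by
        rcases Multiset.mem_add.mp hq' with h | h
        · exact h
        · exact side t s h (fun p h => Multiset.mem_add.mpr (.inl h)) he.symm
      have hqt : q ∈ t := side s t hqs (fun p h => Multiset.mem_add.mpr (.inr h)) he
      obtain ⟨s', rfl⟩ := Multiset.exists_cons_of_mem hqs
      obtain ⟨t', rfl⟩ := Multiset.exists_cons_of_mem hqt
      rw [Multiset.prod_cons, Multiset.prod_cons] at he
      simp only [Multiset.card_cons] at hn
      rw [ih s' t' (by omega) (fun p h => hp p (by simp only [Multiset.mem_add, Multiset.mem_cons] at h ⊢; tauto))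
        ((hp q hq').2 _ _ he)]
    · rw [Finset.not_nonempty_iff_eq_empty, Multiset.toFinset_eq_empty, add_eq_zero] at h0
      rw [h0.1, h0.2]

variable {R : Type*} [CommRing R] [IsDomain R]
variable (h : ∀ I : Ideal R, I ≠ ⊥ → ∃! s : Multiset (Ideal R), (∀ p ∈ s, p.IsPrime ∧ p ≠ ⊥) ∧ s.prod = I)
include h

omit [IsDomain R] in
theorem isMaximal {P : Ideal R} (hP : P.IsPrime) (hP0 : P ≠ ⊥) : P.IsMaximal := by
  classical
  rw [Ideal.isMaximal_iff]
  refine ⟨(Ideal.ne_top_iff_one _).mp hP.ne_top, fun J a hJ haP haJ => ?_⟩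
  suffices hI : P ⊔ Ideal.span {a} = ⊤ by
    exact (Ideal.eq_top_iff_one J).mp (top_unique (hI ▸ sup_le hJ (by rwa [Ideal.span_singleton_le_iff_mem])))
  set π := Ideal.Quotient.mk P with hπ
  have hsurj : Function.Surjective π := Ideal.Quotient.mk_surjective
  set I := P ⊔ Ideal.span {a} with hIdef
  set I₂ := P ⊔ Ideal.span {a ^ 2} with hI₂def
  have hne : ∀ {J : Ideal R}, P ≤ J → J ≠ ⊥ := fun hJ h0 => hP0 (le_bot_iff.mp (h0 ▸ hJ))
  obtain ⟨s, ⟨hs, hsI⟩, -⟩ := h I (hne le_sup_left)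
  obtain ⟨t, ⟨ht, htI⟩, -⟩ := h I₂ (hne le_sup_left)
  have hmapP : P.map π = ⊥ := Ideal.map_quotient_self P
  have hsmap : (s.map (Ideal.map π)).prod = Ideal.span {π a} := by
    rw [show (s.map (Ideal.map π)).prod = s.prod.map π from Multiset.prod_hom s (Ideal.mapHom π), hsI, hIdef,
      Ideal.map_sup, hmapP, bot_sup_eq, Ideal.map_span, Set.image_singleton]
  have htmap : (t.map (Ideal.map π)).prod = Ideal.span {π a ^ 2} := by
    rw [show (t.map (Ideal.map π)).prod = t.prod.map π from Multiset.prod_hom t (Ideal.mapHom π), htI, hI₂def,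
      Ideal.map_sup, hmapP, bot_sup_eq, Ideal.map_span, Set.image_singleton, map_pow]
  have hle_s : ∀ p ∈ s, P ≤ p := fun p hp =>
    le_trans (le_sup_left.trans hsI.ge) (Ideal.le_of_dvd (Multiset.dvd_prod hp))
  have hle_t : ∀ p ∈ t, P ≤ p := fun p hp =>
    le_trans (le_sup_left.trans htI.ge) (Ideal.le_of_dvd (Multiset.dvd_prod hp))
  have ha0 : π a ≠ 0 := fun h0 => haP (Ideal.Quotient.eq_zero_iff_mem.mp h0)
  have hprime : ∀ p : Ideal R, p.IsPrime → P ≤ p → (p.map π).IsPrime := fun p hp hle =>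
    Ideal.map_isPrime_of_surjective hsurj (by rw [hπ, Ideal.mk_ker]; exact hle)
  have heq : (s + s).map (Ideal.map π) = t.map (Ideal.map π) := by
    refine multiset_unique _ _ _ le_rfl (fun q hq => ?_) ?_
    · rw [Multiset.map_add, Multiset.mem_add, Multiset.mem_add, or_self] at hq
      rcases hq with hq | hq
      · refine ⟨?_, fun X Y hXY => cancel_of_dvd ha0 (hsmap ▸ Multiset.dvd_prod hq) hXY⟩
        obtain ⟨p, hp, rfl⟩ := Multiset.mem_map.mp hq
        exact hprime p (hs p hp).1 (hle_s p hp)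
      · refine ⟨?_, fun X Y hXY => cancel_of_dvd (pow_ne_zero 2 ha0) (htmap ▸ Multiset.dvd_prod hq) hXY⟩
        obtain ⟨p, hp, rfl⟩ := Multiset.mem_map.mp hq
        exact hprime p (ht p hp).1 (hle_t p hp)
    · rw [Multiset.map_add, Multiset.prod_add, hsmap, htmap, Ideal.span_singleton_mul_span_singleton, sq]
  have hcomap : ∀ u : Multiset (Ideal R), (∀ p ∈ u, P ≤ p) → (u.map (Ideal.map π)).map (Ideal.comap π) = u := by
    intro u hu
    rw [Multiset.map_map]
    refine (Multiset.map_congr rfl fun p hp => ?_).trans (Multiset.map_id u)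
    rw [Function.comp_apply, Ideal.comap_map_of_surjective π hsurj, ← RingHom.ker_eq_comap_bot, hπ, Ideal.mk_ker,
      sup_eq_left.mpr (hu p hp), id_eq]
  have hts : I₂ = I * I := by
    rw [← htI, ← hcomap t hle_t, ← heq, hcomap _ (fun p hp => hle_s p ((Multiset.mem_add.mp hp).elim id id)),
      Multiset.prod_add, hsI]
  have hPI : P * I = P := by
    refine le_antisymm Ideal.mul_le_left fun x hx => ?_
    have hle : I * I ≤ P * I ⊔ Ideal.span {a * a} := by
      conv_lhs => rw [hIdef]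
      rw [Ideal.sup_mul, ← Ideal.span_singleton_mul_span_singleton]
      refine sup_le le_sup_left ?_
      rw [Ideal.mul_sup, mul_comm (Ideal.span {a}) P]
      exact sup_le_sup_right (Ideal.mul_mono le_rfl le_sup_right) _
    obtain ⟨y, hy, z, hz, rfl⟩ := Submodule.mem_sup.mp (hle (show x ∈ I * I from hts ▸ (Ideal.mem_sup_left hx : x ∈ I₂)))
    obtain ⟨c, rfl⟩ := Ideal.mem_span_singleton'.mp hz
    have hzP : c * (a * a) ∈ P := (Ideal.add_mem_iff_right _ (Ideal.mul_le_left hy)).mp hx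
    have hcP : c ∈ P := (hP.mem_or_mem hzP).resolve_right fun haa => haP ((hP.mem_or_mem haa).elim id id)
    refine Ideal.add_mem _ hy ?_
    rw [← mul_assoc]
    exact Ideal.mul_mem_mul (P.mul_mem_right a hcP) (Ideal.mem_sup_right (Ideal.mem_span_singleton_self a))
  obtain ⟨u, -, huniq⟩ := h P hP0
  have h1 := huniq {P} ⟨fun p hp => by rw [Multiset.mem_singleton.mp hp]; exact ⟨hP, hP0⟩, Multiset.prod_singleton P⟩
  have h2 := huniq (P ::ₘ s) ⟨fun p hp => by
    rcases Multiset.mem_cons.mp hp with rfl | hp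
    · exact ⟨hP, hP0⟩
    · exact hs p hp, by rw [Multiset.prod_cons, hsI, hPI]⟩
  have hs0 : s = 0 := (Multiset.cons_inj_right P).mp (h2.trans h1.symm)
  rw [← hsI, hs0, Multiset.prod_zero, Ideal.one_eq_top]

theorem exists_dvd_span {I : Ideal R} (hI : I ≠ ⊥) : ∃ a : R, a ≠ 0 ∧ I ∣ Ideal.span {a} := by
  classical
  obtain ⟨s, ⟨hs, rfl⟩, -⟩ := h I hI
  clear hI
  induction s using Multiset.induction_on with
  | empty => exact ⟨1, one_ne_zero, by simp⟩
  | cons P s ih =>
    obtain ⟨a, ha, hdvd⟩ := ih fun p hp => hs p (Multiset.mem_cons_of_mem hp)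
    obtain ⟨hP, hP0⟩ := hs P (Multiset.mem_cons_self P s)
    obtain ⟨b, hb, hb0⟩ := Submodule.exists_mem_ne_zero_of_ne_bot hP0
    obtain ⟨t, ⟨ht, htb⟩, -⟩ := h (Ideal.span {b}) (by simpa [Ideal.span_singleton_eq_bot] using hb0)
    obtain ⟨Q, hQ, hQP⟩ := hP.multiset_prod_le.mp (htb ▸ (Ideal.span_singleton_le_iff_mem (I := P)).mpr hb)
    have hQP' : Q = P := (isMaximal h (ht Q hQ).1 (ht Q hQ).2).eq_of_le hP.ne_top hQP
    refine ⟨b * a, mul_ne_zero hb0 ha, ?_⟩
    rw [Multiset.prod_cons, ← Ideal.span_singleton_mul_span_singleton, ← htb]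
    exact mul_dvd_mul (hQP' ▸ Multiset.dvd_prod hQ) hdvd

theorem isDedekindDomain : IsDedekindDomain R := by
  rw [isDedekindDomain_iff_mul_inv_cancel (K := FractionRing R)]
  intro I hI
  rw [FractionalIdeal.mul_inv_cancel_iff_isUnit]
  obtain ⟨a, aI, ha, rfl⟩ := FractionalIdeal.exists_eq_spanSingleton_mul I
  have ha' : algebraMap R (FractionRing R) a ≠ 0 := (map_ne_zero_iff _ (IsFractionRing.injective R _)).mpr ha
  refine IsUnit.mul ⟨⟨_, FractionalIdeal.spanSingleton _ (algebraMap R (FractionRing R) a), ?_, ?_⟩, rfl⟩ ?_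
  · simp [ha']
  · simp [ha']
  have haI : aI ≠ ⊥ := fun h0 => hI (by simp [h0])
  obtain ⟨b, hb, hdvd⟩ := exists_dvd_span h haI
  have hb' : algebraMap R (FractionRing R) b ≠ 0 := (map_ne_zero_iff _ (IsFractionRing.injective R _)).mpr hb
  refine isUnit_of_dvd_unit (map_dvd (FractionalIdeal.coeIdealHom _ (FractionRing R)) hdvd) ?_
  show IsUnit ((Ideal.span {b} : Ideal R) : FractionalIdeal (nonZeroDivisors R) (FractionRing R))
  rw [FractionalIdeal.coeIdeal_span_singleton]
  exact ⟨⟨_, FractionalIdeal.spanSingleton _ (algebraMap R (FractionRing R) b)⁻¹, by simp [hb'], by simp [hb']⟩, rfl⟩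

end Groth.L02.IdealFactor
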