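import Mathlib.AlgebraicGeometry.Morphisms.Immersion
import Mathlib.AlgebraicGeometry.Morphisms.ClosedImmersion
import Mathlib.AlgebraicGeometry.Noetherian
import Mathlib.RingTheory.Filtration

/-!
# Where an immersion is an isomorphism
-/

set_option autoImplicit false
set_option linter.style.haveILetI false
set_option backward.isDefEq.respectTransparency.types false
set_option backward.isDefEq.respectTransparency false
universe u

open CategoryTheory CategoryTheory.Limits AlgebraicGeometry Opposite TopologicalSpace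

namespace Groth.L02.ImmIsoLocus

variable {X Z Z' : Scheme.{u}}

/-- The points near which `x` is an isomorphism. -/
def isoLocus (x : Z ⟶ X) : X.Opens :=
  ⟨{p | ∃ V : X.Opens, p ∈ V ∧ IsIso (x ∣_ V)}, isOpen_iff_forall_mem_open.2 fun _ ⟨V, hp, hV⟩ =>
    ⟨V, fun _ hq => ⟨V, hq, hV⟩, V.isOpen, hp⟩⟩

theorem isIso_of_isoLocus_eq_top (x : Z ⟶ X) (h : ∀ p, p ∈ isoLocus x) : IsIso x := by
  choose V hpV hV using h
  exact IsZariskiLocalAtTarget.of_iSup_eq_top (P := MorphismProperty.isomorphisms Scheme) V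
    (eq_top_iff.2 fun p _ => Opens.mem_iSup.2 ⟨p, hpV p⟩) hV

theorem isoLocus_le_comp (x' : Z' ⟶ X) [Mono x'] (t : Z ⟶ Z') : isoLocus (t ≫ x') ≤ isoLocus x' := by
  rintro p ⟨V, hp, hV⟩
  refine ⟨V, hp, ?_⟩
  rw [morphismRestrict_comp] at hV
  haveI : Mono (x' ∣_ V) := by
    have : Mono ((x' ∣_ V) ≫ V.ι) := by rw [morphismRestrict_ι]; infer_instance
    exact mono_of_mono (x' ∣_ V) V.ι
  haveI : IsSplitEpi (x' ∣_ V) :=
    IsSplitEpi.mk' ⟨inv (t ∣_ x' ⁻¹ᵁ V ≫ x' ∣_ V) ≫ t ∣_ x' ⁻¹ᵁ V, by simp⟩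
  exact isIso_of_mono_of_isSplitEpi _

theorem isIso_stalkMap_of_mem (x : Z ⟶ X) (z : Z) (h : x z ∈ isoLocus x) : IsIso (x.stalkMap z) := by
  obtain ⟨V, hV, hiso⟩ := h
  let e := (x ⁻¹ᵁ V).ι
  haveI : IsOpenImmersion (e ≫ x) := by
    show IsOpenImmersion ((x ⁻¹ᵁ V).ι ≫ x)
    rw [← morphismRestrict_ι]; infer_instance
  have h1 : IsIso ((e ≫ x).stalkMap (⟨z, hV⟩ : x ⁻¹ᵁ V)) := inferInstance
  rw [Scheme.Hom.stalkMap_comp] at h1
  exact @IsIso.of_isIso_comp_right _ _ _ _ _ (x.stalkMap z) (e.stalkMap ⟨z, hV⟩) inferInstance h1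

/-- The map of stalks at a preimage of `p`. -/
noncomputable def phi (x : Z ⟶ X) (p : X) (z : Z) (hz : x z = p) : X.presheaf.stalk p ⟶ Z.presheaf.stalk z :=
  (X.presheaf.stalkCongr (.of_eq hz.symm)).hom ≫ x.stalkMap z

theorem phi_rfl (x : Z ⟶ X) (z : Z) : phi x (x z) z rfl = x.stalkMap z := by
  simp [phi]

/-- The ideal of `Z` at `p`. -/
noncomputable def kerAt (x : Z ⟶ X) (p : X) : Ideal (X.presheaf.stalk p) :=
  ⨅ (z : Z) (hz : x z = p), RingHom.ker (phi x p z hz).hom

theorem kerAt_le_comp (x' : Z' ⟶ X) [IsPreimmersion x'] (t : Z ⟶ Z') {p : X} (hp : p ∈ Set.range (t ≫ x')) :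
    kerAt x' p ≤ kerAt (t ≫ x') p := by
  intro a ha
  simp only [kerAt, Ideal.mem_iInf] at ha ⊢
  intro z hz
  subst hz
  have h := ha (t z) rfl
  have e1 : phi x' ((t ≫ x') z) (t z) rfl = x'.stalkMap (t z) := phi_rfl x' (t z)
  rw [RingHom.mem_ker, e1] at h
  rw [RingHom.mem_ker, phi_rfl, Scheme.Hom.stalkMap_comp]
  show t.stalkMap z (x'.stalkMap (t z) a) = 0
  exact (congrArg (t.stalkMap z).hom h).trans (map_zero _)

theorem kerAt_le_ker (x : Z ⟶ X) {p : X} {R : CommRingCat.{u}} [IsLocalRing R] (q : X.presheaf.stalk p ⟶ R)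
    [IsLocalHom q.hom] (u : Spec R ⟶ Z) (hu : u ≫ x = Spec.map q ≫ X.fromSpecStalk p) :
    kerAt x p ≤ RingHom.ker q.hom := by
  have hz : x (u (IsLocalRing.closedPoint R)) = p := by
    rw [← Scheme.Hom.comp_apply, hu, Scheme.Hom.comp_apply]
    rw [show (Spec.map q) (IsLocalRing.closedPoint R) = IsLocalRing.closedPoint (X.presheaf.stalk p) from
      IsLocalRing.comap_closedPoint q.hom]
    exact Scheme.fromSpecStalk_closedPoint
  intro a ha
  simp only [kerAt, Ideal.mem_iInf] at ha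
  have ha' := ha _ hz
  subst hz
  rw [phi_rfl] at ha'
  have e : q = x.stalkMap _ ≫ Scheme.stalkClosedPointTo u := by
    apply Spec.map_injective
    rw [← cancel_mono (X.fromSpecStalk _), Spec.map_comp, Category.assoc, Scheme.SpecMap_stalkMap_fromSpecStalk,
      Scheme.Spec_stalkClosedPointTo_fromSpecStalk_assoc]
    exact hu.symm
  rw [RingHom.mem_ker, e]
  show Scheme.stalkClosedPointTo u (x.stalkMap _ a) = 0
  rw [show x.stalkMap _ a = 0 from ha', map_zero]

/-- An element of the ideal at `p` is killed by powers of the maximal ideal, if `x` is an isomorphism outside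
the closure of `p`. -/
theorem exists_pow_mul_eq_zero (x : Z ⟶ X) [IsPreimmersion x] {p : X} (hp : p ∈ Set.range x) {W0 : X.Opens}
    (hp0 : p ∈ W0) (hW0 : ∀ w ∈ W0, ¬ p ⤳ w → w ∈ isoLocus x) {a : X.presheaf.stalk p} (ha : a ∈ kerAt x p)
    {m : X.presheaf.stalk p} (hm : m ∈ IsLocalRing.maximalIdeal (X.presheaf.stalk p)) :
    ∃ N : ℕ, m ^ N * a = 0 := by
  obtain ⟨z, hz⟩ := hp
  simp only [kerAt, Ideal.mem_iInf] at ha
  have ha' := ha z hz
  subst hz
  rw [phi_rfl] at ha'
  obtain ⟨U, hU, b, rfl⟩ := X.presheaf.germ_exist a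
  obtain ⟨U', hU', f, rfl⟩ := X.presheaf.germ_exist m
  rw [RingHom.mem_ker, Scheme.Hom.germ_stalkMap_apply] at ha'
  obtain ⟨W, hzW, iWU, iW, hW⟩ := Z.presheaf.germ_eq (U := x ⁻¹ᵁ U) (V := x ⁻¹ᵁ U) z hU hU (x.app U b) 0 (by rw [map_zero]; exact ha')
  obtain ⟨W', hW'o, hW'⟩ := x.isEmbedding.isInducing.isOpen_iff.1 W.isOpen
  obtain ⟨V, hV, hxV, hVle⟩ := exists_isAffineOpen_mem_and_subset (x := x z)
    (U := W0 ⊓ U ⊓ U' ⊓ ⟨W', hW'o⟩) ⟨⟨⟨hp0, hU⟩, hU'⟩, show z ∈ x ⁻¹' W' from hW'.ge hzW⟩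
  let bV := X.presheaf.map (homOfLE (show V ≤ U from fun w hw => (hVle hw).1.1.2)).op b
  let fV := X.presheaf.map (homOfLE (show V ≤ U' from fun w hw => (hVle hw).1.2)).op f
  have hgb : X.presheaf.germ V (x z) hxV bV = X.presheaf.germ U (x z) hU b := X.presheaf.germ_res_apply _ _ _ _
  have hgf : X.presheaf.germ V (x z) hxV fV = X.presheaf.germ U' (x z) hU' f := X.presheaf.germ_res_apply _ _ _ _
  have hzero : x.app V bV = 0 := by
    have h1 : x ⁻¹ᵁ V ≤ W := fun w hw => hW'.le (show x w ∈ W' from (hVle hw).2)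
    have e1 : x.app V bV = Z.presheaf.map (homOfLE h1).op (Z.presheaf.map iWU.op (x.app U b)) := by
      show (X.presheaf.map _ ≫ x.app V) b = _
      rw [Scheme.Hom.naturality]
      show Z.presheaf.map _ (x.app U b) = (Z.presheaf.map iWU.op ≫ Z.presheaf.map (homOfLE h1).op) (x.app U b)
      rw [← Functor.map_comp]
      rfl
    rw [e1, hW, map_zero, map_zero]
  have hres : X.presheaf.map (homOfLE (X.basicOpen_le fV)).op bV = 0 := by
    apply TopCat.Presheaf.section_ext X.sheaf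
    intro w hw
    rw [map_zero]
    have hwV : w ∈ V := X.basicOpen_le fV hw
    have hn : ¬ x z ⤳ w := fun hs => by
      have h2 : x z ∈ X.basicOpen fV := hs.mem_open (X.basicOpen fV).isOpen hw
      have h3 := (X.mem_basicOpen fV (x z) hxV).1 h2
      rw [hgf] at h3
      exact hm h3
    have hwO := hW0 w (hVle hwV).1.1.1 hn
    obtain ⟨V', hwV', hiso⟩ := hwO
    obtain ⟨z', rfl⟩ : w ∈ Set.range x := by
      obtain ⟨y, hy⟩ := (x ∣_ V').surjective ⟨w, hwV'⟩
      exact ⟨y.1, (morphismRestrict_base_coe x V' y).symm.trans (congrArg Subtype.val hy)⟩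
    haveI := isIso_stalkMap_of_mem x z' ⟨V', hwV', hiso⟩
    refine (ConcreteCategory.bijective_of_isIso (x.stalkMap z')).1 ?_
    rw [map_zero]
    show x.stalkMap z' (X.presheaf.germ _ (x z') hw (X.presheaf.map _ bV)) = 0
    rw [X.presheaf.germ_res_apply, Scheme.Hom.germ_stalkMap_apply, hzero, map_zero]
  haveI := hV.isLocalization_basicOpen fV
  obtain ⟨⟨_, N, rfl⟩, hN⟩ := (IsLocalization.map_eq_zero_iff (Submonoid.powers fV) _ bV).1 hres
  refine ⟨N, ?_⟩
  rw [← hgb, ← hgf, ← map_pow, ← map_mul]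
  exact (congrArg _ hN).trans (map_zero _)

theorem isClosedImmersion_restrict (x : Z ⟶ X) [IsImmersion x] {W : X.Opens} (hW : W ≤ x.coborderRange) :
    IsClosedImmersion (x ∣_ W) := by
  refine IsClosedImmersion.of_isPreimmersion _ ?_
  have e : Set.range (x ∣_ W) = W.ι ⁻¹' closure (Set.range x) := by
    rw [morphismRestrict_base, Set.range_restrictPreimage]
    ext w
    constructor
    · exact fun h => subset_closure h
    · intro h
      exact (coborder_inter_closure (s := Set.range x)).le ⟨hW w.2, h⟩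
  rw [e]
  exact isClosed_closure.preimage W.ι.continuous

/-- An immersion whose ideal at `p` vanishes is an isomorphism near `p`. -/
theorem mem_isoLocus [IsLocallyNoetherian X] (x : Z ⟶ X) [IsImmersion x] {p : X} (hp : p ∈ Set.range x)
    (h : kerAt x p = ⊥) : p ∈ isoLocus x := by
  obtain ⟨z, rfl⟩ := hp
  obtain ⟨W, hW, hxW, hWc⟩ := exists_isAffineOpen_mem_and_subset (x := x z) (U := x.coborderRange)
    (subset_coborder ⟨z, rfl⟩)
  haveI := isClosedImmersion_restrict x hWc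
  haveI : IsAffine W.toScheme := hW
  have hxW' : IsAffineOpen (x ⁻¹ᵁ W) := isAffine_of_isAffineHom (x ∣_ W)
  haveI := IsLocallyNoetherian.component_noetherian (X := X) ⟨W, hW⟩
  obtain ⟨F, hF⟩ := (inferInstance : IsNoetherianRing Γ(X, W)).noetherian (RingHom.ker (x.app W).hom)
  have hloc : ∀ a ∈ F, ∃ g : Γ(X, W), IsUnit (X.presheaf.germ W (x z) hxW g) ∧ g * a = 0 := by
    intro a ha
    have hk : a ∈ RingHom.ker (x.app W).hom := hF ▸ Submodule.subset_span ha
    have hg : X.presheaf.germ W (x z) hxW a = 0 := by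
      have : X.presheaf.germ W (x z) hxW a ∈ kerAt x (x z) := by
        simp only [kerAt, Ideal.mem_iInf]
        intro z' hz'
        obtain rfl := x.isEmbedding.injective hz'
        rw [RingHom.mem_ker, phi_rfl, Scheme.Hom.germ_stalkMap_apply, show x.app W a = 0 from hk, map_zero]
      rwa [h, Ideal.mem_bot] at this
    letI := X.presheaf.algebra_section_stalk ⟨x z, hxW⟩
    haveI := hW.isLocalization_stalk ⟨x z, hxW⟩
    obtain ⟨⟨g, hg'⟩, hga⟩ := (IsLocalization.map_eq_zero_iff (hW.primeIdealOf ⟨x z, hxW⟩).asIdeal.primeCompl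
      (X.presheaf.stalk (x z)) a).1 hg
    exact ⟨g, IsLocalization.map_units (X.presheaf.stalk (x z)) (⟨g, hg'⟩ : (hW.primeIdealOf ⟨x z, hxW⟩).asIdeal.primeCompl),
      hga⟩
  choose! g hgu hga using hloc
  let G := ∏ a ∈ F, g a
  have hG : IsUnit (X.presheaf.germ W (x z) hxW G) := by
    rw [map_prod]
    exact Finset.prod_induction _ IsUnit (fun _ _ => IsUnit.mul) isUnit_one hgu
  have hkill : ∀ b ∈ RingHom.ker (x.app W).hom, G * b = 0 := by
    intro b hb
    rw [← hF] at hb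
    refine Submodule.span_induction (p := fun b _ => G * b = 0) ?_ (mul_zero _) ?_ ?_ hb
    · intro a ha
      obtain ⟨c, hc⟩ := Finset.dvd_prod_of_mem g ha
      show (∏ a ∈ F, g a) * a = 0
      rw [hc, mul_right_comm, hga a ha, zero_mul]
    · intro a b _ _ ha hb; rw [mul_add, ha, hb, add_zero]
    · intro r a _ ha; rw [smul_eq_mul, mul_left_comm, ha, mul_zero]
  let W' := X.basicOpen G
  have hW' : IsAffineOpen W' := hW.basicOpen G
  refine ⟨W', (X.mem_basicOpen G (x z) hxW).2 hG, ?_⟩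
  haveI := isClosedImmersion_restrict x ((X.basicOpen_le G).trans hWc : W' ≤ x.coborderRange)
  haveI : IsAffine W'.toScheme := hW'
  haveI := hW.isLocalization_basicOpen G
  have hinj : Function.Injective (x.app W') := by
    rw [injective_iff_map_eq_zero]
    intro a ha
    obtain ⟨b, ⟨_, n, rfl⟩, hb⟩ := IsLocalization.exists_mk'_eq (Submonoid.powers G) a
    subst hb
    have hu := IsLocalization.map_units Γ(X, W') (⟨G ^ n, n, rfl⟩ : Submonoid.powers G)
    have hb : x.app W' (algebraMap Γ(X, W) Γ(X, W') b) = 0 := by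
      rw [← IsLocalization.mk'_spec Γ(X, W') b (⟨G ^ n, n, rfl⟩ : Submonoid.powers G), map_mul, ha, zero_mul]
    have hres : Z.presheaf.map (homOfLE (x.preimage_mono (X.basicOpen_le G))).op (x.app W b) = 0 := by
      rw [← hb]
      show (x.app W ≫ Z.presheaf.map _) b = (X.presheaf.map (homOfLE (X.basicOpen_le G)).op ≫ x.app W') b
      rw [Scheme.Hom.naturality]
      rfl
    have hle : Z.basicOpen (x.app W G) = x ⁻¹ᵁ W' := (x.preimage_basicOpen G).symm
    haveI := hxW'.isLocalization_basicOpen (x.app W G)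
    obtain ⟨⟨_, m, rfl⟩, hm⟩ := (IsLocalization.map_eq_zero_iff (Submonoid.powers (x.app W G))
      Γ(Z, Z.basicOpen (x.app W G)) (x.app W b)).1 (by
        have h2 := congrArg (Z.presheaf.map (eqToHom hle).op) hres
        rw [map_zero] at h2
        refine Eq.trans ?_ h2
        show Z.presheaf.map (homOfLE (Z.basicOpen_le _)).op _ =
          (Z.presheaf.map _ ≫ Z.presheaf.map (eqToHom hle).op) (x.app W b)
        rw [← Functor.map_comp]
        rfl)
    have hk : G ^ m * b ∈ RingHom.ker (x.app W).hom := by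
      rw [RingHom.mem_ker, map_mul, map_pow]; exact hm
    have h0 := congrArg (algebraMap Γ(X, W) Γ(X, W')) (hkill _ hk)
    rw [map_mul, map_mul, map_pow, map_zero] at h0
    have hGu := IsLocalization.map_units Γ(X, W') (⟨G, 1, pow_one G⟩ : Submonoid.powers G)
    rw [IsUnit.mul_right_eq_zero hGu, IsUnit.mul_right_eq_zero (hGu.pow m)] at h0
    rw [IsLocalization.mk'_eq_zero_iff]
    exact (IsLocalization.map_eq_zero_iff (Submonoid.powers G) Γ(X, W') b).1 h0
  refine IsClosedImmersion.isIso_of_injective_of_isAffine ?_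
  rw [morphismRestrict_appTop]
  have e : W'.ι ''ᵁ ⊤ = W' := W'.ι_image_top
  have hi : Function.Injective (x.app (W'.ι ''ᵁ ⊤)) := by rw [e]; exact hinj
  exact (ConcreteCategory.bijective_of_isIso
    (Z.presheaf.map (eqToHom (image_morphismRestrict_preimage x W' ⊤)).op)).1.comp hi

end Groth.L02.ImmIsoLocus
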