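import Mathlib.Topology.Constructible
import Mathlib.Topology.LocallyClosed
import Groth.Prelude.Def_ProCons

/-!
# Locally closed pieces of constructible and ind-constructible sets
-/

set_option autoImplicit false

open Topology Set

namespace Groth.L02.IndLC

variable {X : Type*} [TopologicalSpace X]

theorem exists_isLocallyClosed_of_isConstructible {s : Set X} (hs : IsConstructible s) :
    (∀ x ∈ s, ∃ L, IsLocallyClosed L ∧ x ∈ L ∧ L ⊆ s) ∧ (∀ x ∉ s, ∃ L, IsLocallyClosed L ∧ x ∈ L ∧ L ⊆ sᶜ) := by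
  induction hs using IsConstructible.empty_union_induction with
  | open_retrocompact U hU _ =>
    exact ⟨fun x hx => ⟨U, hU.isLocallyClosed, hx, subset_rfl⟩,
      fun x hx => ⟨Uᶜ, hU.isClosed_compl.isLocallyClosed, hx, subset_rfl⟩⟩
  | union s _ t _ h1 h2 =>
    refine ⟨fun x hx => ?_, fun x hx => ?_⟩
    · rcases hx with hx | hx
      · obtain ⟨L, hL, hxL, hLs⟩ := h1.1 x hx
        exact ⟨L, hL, hxL, hLs.trans subset_union_left⟩
      · obtain ⟨L, hL, hxL, hLs⟩ := h2.1 x hx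
        exact ⟨L, hL, hxL, hLs.trans subset_union_right⟩
    · obtain ⟨L, hL, hxL, hLs⟩ := h1.2 x fun h => hx (Or.inl h)
      obtain ⟨M, hM, hxM, hMt⟩ := h2.2 x fun h => hx (Or.inr h)
      exact ⟨L ∩ M, hL.inter hM, ⟨hxL, hxM⟩, fun y hy h => h.elim (hLs hy.1) (hMt hy.2)⟩
  | compl s _ h => exact ⟨h.2, fun x hx => by rw [compl_compl]; exact h.1 x (not_not.1 hx)⟩

theorem exists_isLocallyClosed_of_isIndConstructible {E : Set X} (hE : ProCons.IsIndConstructible E)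
    {x : X} (hx : x ∈ E) : ∃ L, IsLocallyClosed L ∧ x ∈ L ∧ L ⊆ E := by
  obtain ⟨U, hU, hxU, S, hS, heq⟩ := hE x
  obtain ⟨T, hT, hxT⟩ : (⟨x, hxU⟩ : U) ∈ ⋃₀ S := by rw [← heq]; exact hx
  obtain ⟨V, hV, hVo, hc⟩ := hS T hT ⟨x, hxU⟩
  obtain ⟨L, hL, hxL, hLT⟩ := (exists_isLocallyClosed_of_isConstructible hc).1 ⟨⟨x, hxU⟩, mem_of_mem_nhds hV⟩ hxT
  refine ⟨Subtype.val '' (Subtype.val '' L), ?_, ⟨⟨x, hxU⟩, ⟨_, hxL, rfl⟩, rfl⟩, ?_⟩
  · refine (hL.image IsEmbedding.subtypeVal.toIsInducing ?_).image IsEmbedding.subtypeVal.toIsInducing ?_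
    · rw [Subtype.range_coe]; exact hVo.isLocallyClosed
    · rw [Subtype.range_coe]; exact hU.isLocallyClosed
  · rintro _ ⟨_, ⟨v, hv, rfl⟩, rfl⟩
    exact heq.ge ⟨T, hT, hLT hv⟩

end Groth.L02.IndLC
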