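import Groth.Agent.L22.FiniteLength
import Mathlib.Algebra.Algebra.Epi
import Mathlib.RingTheory.Ideal.MinimalPrime.Basic
import Mathlib.RingTheory.Localization.Finiteness
import Mathlib.RingTheory.Localization.BaseChange
import Mathlib.RingTheory.Artinian.Module

/-!
Iterated equalisers of a finite extension reach the base ring.
-/

universe u

open TensorProduct

namespace Groth.L02.IterEqualizer

variable {A B : Type u} [CommRing A] [CommRing B] [Algebra A B]

/-- if the two coprojections agree locally at `p`, then `C` is `A` locally at `p` -/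
theorem exists_mem_range_of_local_eq (p : Ideal A) [p.IsPrime] (C : Type u) [CommRing C] [Algebra A C] [Module.Finite A C]
    (h : ∀ b : C, ∃ s ∉ p, s • (b ⊗ₜ[A] (1 : C)) = s • ((1 : C) ⊗ₜ[A] b)) (b : C) :
    ∃ s ∉ p, s • b ∈ (algebraMap A C).range := by
  let T := Localization.AtPrime p
  let C' := T ⊗[A] C
  let ι : C →ₐ[A] C' := Algebra.TensorProduct.includeRight
  let θ : C ⊗[A] C →ₗ[A] C' ⊗[T] C' :=
    TensorProduct.lift (LinearMap.mk₂ A (fun x y => ι x ⊗ₜ[T] ι y)
      (fun x x' y => by rw [map_add, add_tmul]) (fun a x y => by rw [map_smul, smul_tmul'])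
      (fun x y y' => by rw [map_add, tmul_add]) (fun a x y => by rw [map_smul, tmul_smul]))
  have hepi : Algebra.IsEpi T C' := by
    rw [Algebra.isEpi_iff_forall_one_tmul_eq]
    intro z
    induction z using TensorProduct.induction_on with
    | zero => simp
    | tmul t c =>
      obtain ⟨s, hs, hsc⟩ := h c
      have h1 := congrArg θ hsc
      simp only [θ, map_smul, TensorProduct.lift.tmul, LinearMap.mk₂_apply, map_one] at h1
      have hu : IsUnit (algebraMap A T s) := IsLocalization.map_units T (⟨s, hs⟩ : p.primeCompl)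
      rw [← IsScalarTower.algebraMap_smul T s (ι c ⊗ₜ[T] (1 : C')), ← IsScalarTower.algebraMap_smul T s ((1 : C') ⊗ₜ[T] ι c),
        hu.smul_left_cancel] at h1
      rw [show t ⊗ₜ[A] c = t • ι c from ((TensorProduct.smul_tmul' (R := A) t (1 : T) c).trans (by rw [smul_eq_mul, mul_one])).symm,
        tmul_smul, ← smul_tmul', h1]
    | add x y hx hy => rw [tmul_add, add_tmul, hx, hy]
  obtain ⟨t, ht⟩ := (Algebra.isEpi_iff_surjective_algebraMap_of_finite.mp hepi) (ι b)
  obtain ⟨r, ⟨s, hs⟩, rfl⟩ := IsLocalization.exists_mk'_eq p.primeCompl t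
  have h2 : TensorProduct.mk A T C 1 (s • b - algebraMap A C r) = 0 := by
    rw [TensorProduct.mk_apply, tmul_sub, sub_eq_zero, tmul_smul, Algebra.algebraMap_eq_smul_one r, tmul_smul]
    rw [show ((1 : T) ⊗ₜ[A] b) = algebraMap T C' (IsLocalization.mk' T r (⟨s, hs⟩ : p.primeCompl)) from ht.symm,
      Algebra.TensorProduct.algebraMap_apply, TensorProduct.smul_tmul', TensorProduct.smul_tmul']
    simp only [Algebra.algebraMap_self, RingHom.id_apply, Algebra.smul_def, mul_one]
    rw [← IsLocalization.mk'_spec' T r (⟨s, hs⟩ : p.primeCompl)]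
  obtain ⟨⟨s', hs'⟩, hs''⟩ := (IsLocalizedModule.eq_zero_iff p.primeCompl (TensorProduct.mk A T C 1)).mp h2
  refine ⟨s' * s, fun hm => (Ideal.IsPrime.mem_or_mem ‹_› hm).elim hs' hs, s' * r, ?_⟩
  rw [Submonoid.smul_def, smul_sub, sub_eq_zero] at hs''
  rw [mul_smul, hs'', Algebra.smul_def, map_mul]

theorem exists_eq_bot [IsNoetherianRing A] [Module.Finite A B] (C : ℕ → Subalgebra A B)
    (hstep : ∀ (i : ℕ) (b : B), b ∈ C (i + 1) ↔ ∃ hb : b ∈ C i,
      ((⟨b, hb⟩ : C i) ⊗ₜ[A] (1 : C i) : C i ⊗[A] C i) = (1 : C i) ⊗ₜ[A] (⟨b, hb⟩ : C i)) :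
    ∃ m : ℕ, C m = ⊥ := by
  classical
  have hanti : Antitone C := antitone_nat_of_succ_le fun i b hb => ((hstep i b).mp hb).1
  let R₀ := LinearMap.range (Algebra.linearMap A B)
  let N : ℕ → Submodule A (B ⧸ R₀) := fun i => (Subalgebra.toSubmodule (C i)).map R₀.mkQ
  have hN : Antitone N := fun i j hij => Submodule.map_mono (Subalgebra.toSubmodule.monotone (hanti hij))
  obtain ⟨n, hn⟩ := monotone_stabilizes_iff_noetherian.mpr (inferInstance : IsNoetherian A A)
    ⟨fun i => (N i).annihilator, fun i j hij => Submodule.annihilator_mono (hN hij)⟩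
  refine ⟨n, le_bot_iff.mp fun b hb => Algebra.mem_bot.mpr ?_⟩
  by_contra hbA
  have hne : (N n).annihilator ≠ ⊤ := fun htop => by
    rw [Submodule.annihilator_eq_top_iff] at htop
    refine hbA ?_
    have : R₀.mkQ b ∈ N n := Submodule.mem_map_of_mem hb
    rw [htop, Submodule.mem_bot, Submodule.mkQ_apply, Submodule.Quotient.mk_eq_zero] at this
    exact this
  obtain ⟨q, hq, hle⟩ := Ideal.exists_le_maximal _ hne
  obtain ⟨p, hp, hpq⟩ := Ideal.exists_minimalPrimes_le (J := q) hle
  have : p.IsPrime := hp.1.1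
  let T := Localization.AtPrime p
  let W := LocalizedModule p.primeCompl (N n)
  have : Module.Finite T W := Module.Finite.of_isLocalizedModule p.primeCompl (LocalizedModule.mkLinearMap p.primeCompl (N n))
  have : IsArtinian T W := by
    refine (isFiniteLength_iff_isNoetherian_isArtinian.mp (Module.length_ne_top_iff.mp
      (ne_of_lt (Groth.L22.length_lt_top_of_support_isMaximal (R := T) (M := W) fun P hP => ?_)))).2
    have hann : (N n).annihilator ≤ P.asIdeal.comap (algebraMap A T) := fun a ha => by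
      refine (Module.mem_support_iff_of_finite.mp hP) (Module.mem_annihilator.mpr fun w => ?_)
      induction w using LocalizedModule.induction_on with
      | _ m s =>
        rw [IsScalarTower.algebraMap_smul, LocalizedModule.smul'_mk,
          show a • m = 0 from Subtype.ext (Submodule.mem_annihilator.mp ha _ m.2), LocalizedModule.zero_mk]
    have hle' : P.asIdeal.comap (algebraMap A T) ≤ p := by
      intro x hx
      by_contra hxp
      exact P.2.ne_top (Ideal.eq_top_of_isUnit_mem _ hx (IsLocalization.map_units T (⟨x, hxp⟩ : p.primeCompl)))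
    have heq : P.asIdeal.comap (algebraMap A T) = p := le_antisymm hle' (hp.2 ⟨inferInstance, hann⟩ hle')
    have : P.asIdeal = IsLocalRing.maximalIdeal T := by
      rw [← IsLocalization.map_under p.primeCompl T P.asIdeal, Ideal.under_def, heq, IsLocalization.AtPrime.map_eq_maximalIdeal]
    exact this ▸ IsLocalRing.maximalIdeal.isMaximal T
  let L : ℕ → Submodule T W := fun i => ((N i).comap (N n).subtype).localized p.primeCompl
  have hL : Antitone L := fun i j hij w hw => by
    obtain ⟨m, hm, s, hs⟩ := hw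
    exact ⟨m, hN hij hm, s, hs⟩
  obtain ⟨k, hk⟩ := IsArtinian.monotone_stabilizes ⟨fun i => OrderDual.toDual (L i), fun i j hij => hL hij⟩
  let m := max n k
  have hLm : L m = L (m + 1) :=
    (hk m (le_max_right _ _)).symm.trans (hk (m + 1) ((le_max_right _ _).trans (Nat.le_succ _)))
  have hrange : ∀ i, R₀ ≤ Subalgebra.toSubmodule (C i) := fun i => by
    rintro _ ⟨a, rfl⟩; exact (C i).algebraMap_mem a
  have hloc : ∀ c : C m, ∃ s ∉ p, s • (c ⊗ₜ[A] (1 : C m)) = s • ((1 : C m) ⊗ₜ[A] c) := fun c => by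
    have hc : R₀.mkQ (c : B) ∈ N n := hN (le_max_left _ _) (Submodule.mem_map_of_mem c.2)
    have hmem : LocalizedModule.mk (⟨_, hc⟩ : N n) (1 : p.primeCompl) ∈ L m :=
      ⟨⟨_, hc⟩, Submodule.mem_map_of_mem c.2, 1, by rw [IsLocalizedModule.mk'_one]; rfl⟩
    rw [hLm] at hmem
    obtain ⟨⟨w, hwn⟩, hw, s, hs⟩ := hmem
    rw [← IsLocalizedModule.mk_eq_mk', LocalizedModule.mk_eq] at hs
    obtain ⟨u, hu⟩ := hs
    refine ⟨u * s, (Submonoid.mul_mem _ u.2 s.2 :), ?_⟩
    have hu' : (u * s : A) • R₀.mkQ (c : B) = (u : A) • w := by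
      have := congrArg Subtype.val hu
      simp only [Submonoid.smul_def, one_smul, SetLike.val_smul] at this
      rw [mul_smul]; exact this.symm
    obtain ⟨z, hz, rfl⟩ := hw
    rw [← map_smul, ← map_smul, Submodule.mkQ_apply, Submodule.mkQ_apply, Submodule.Quotient.eq] at hu'
    have hmem' : (u * s : A) • (c : B) ∈ C (m + 1) := by
      have := (Subalgebra.toSubmodule (C (m + 1))).add_mem (hrange (m + 1) hu')
        ((Subalgebra.toSubmodule (C (m + 1))).smul_mem (u : A) hz)
      rwa [sub_add_cancel] at this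
    obtain ⟨hb', he⟩ := (hstep m _).mp hmem'
    rw [smul_tmul', ← tmul_smul]
    exact he
  have : Module.Finite A (C m) :=
    Module.Finite.of_injective (C m).val.toLinearMap Subtype.val_injective
  have hsupp : (⟨p, hp.1.1⟩ : PrimeSpectrum A) ∈ Module.support A (N m) := by
    rw [Module.mem_support_iff_of_finite]
    exact ((hn m (le_max_left _ _)).symm.le).trans hp.1.2
  refine Module.notMem_support_iff'.mpr (fun x => ?_) hsupp
  obtain ⟨x, c, hc, rfl⟩ := x
  obtain ⟨s, hs, a, ha⟩ := exists_mem_range_of_local_eq p (C m) hloc ⟨c, hc⟩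
  refine ⟨s, hs, Subtype.ext ?_⟩
  show s • R₀.mkQ c = 0
  rw [← map_smul, Submodule.mkQ_apply, Submodule.Quotient.mk_eq_zero]
  exact ⟨a, congrArg Subtype.val ha⟩

end Groth.L02.IterEqualizer
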