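import Groth.Agent.L22.GeomConn.Main
import Groth.Agent.L22.GeomConn.Crit
import Groth.Agent.L25.GeomIrred
import Groth.Agent.L23.CodimOne
import Groth.Agent.L19.Limit.MaxPoints
import Mathlib.AlgebraicGeometry.Fiber
import Mathlib.AlgebraicGeometry.Morphisms.Integral
import Mathlib.FieldTheory.IsAlgClosed.AlgebraicClosure
import Mathlib.RingTheory.Ideal.GoingUp

/-!
# Points whose fibre components meet an open after a field extension
-/

set_option autoImplicit false
set_option linter.style.haveILetI false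
set_option backward.isDefEq.respectTransparency.types false
set_option backward.isDefEq.respectTransparency false
universe u

open CategoryTheory CategoryTheory.Limits AlgebraicGeometry
open Groth.L22.GeomConn

namespace Groth.L02.MaxFibreLocus

/-- `z` is maximal in its fibre. -/
def MaxIn {A B : Scheme.{u}} (π : A ⟶ B) (z : A) : Prop := ∀ w : A, w ⤳ z → π w = π z → w = z

theorem eq_of_specializes_of_isIntegralHom {A B : Scheme.{u}} (q : A ⟶ B) [IsIntegralHom q] {w v : A}
    (h : w ⤳ v) (e : q w = q v) : w = v := by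
  let b := q v
  let p := q.fiberToSpecResidueField b
  haveI : IsIntegralHom p := MorphismProperty.pullback_snd _ _ ‹IsIntegralHom q›
  haveI : IsAffine (q.fiber b) := isAffine_of_isAffineHom p
  obtain ⟨w', hw'⟩ := (q.range_fiberι b).ge e
  obtain ⟨v', hv'⟩ := (q.range_fiberι b).ge (show q v = b from rfl)
  have h' : w' ⤳ v' := (q.fiberι b).isEmbedding.isInducing.specializes_iff.1 (hw' ▸ hv' ▸ h)
  suffices w' = v' by rw [← hw', this, hv']
  have hs : (q.fiber b).isoSpec.hom w' ⤳ (q.fiber b).isoSpec.hom v' :=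
    h'.map (q.fiber b).isoSpec.hom.continuous
  apply (q.fiber b).isoSpec.hom.homeomorph.injective
  show (q.fiber b).isoSpec.hom w' = (q.fiber b).isoSpec.hom v'
  generalize (q.fiber b).isoSpec.hom w' = P at hs ⊢
  generalize (q.fiber b).isoSpec.hom v' = Q at hs ⊢
  let φ : B.residueField b →+* Γ(q.fiber b, ⊤) :=
    p.appTop.hom.comp (Scheme.ΓSpecIso (B.residueField b)).inv.hom
  have hφ : φ.IsIntegral := RingHom.IsIntegral.trans _ _
    (RingHom.isIntegral_of_surjective _ (Scheme.ΓSpecIso (B.residueField b)).symm.commRingCatIsoToRingEquiv.surjective)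
    (p.isIntegral_app ⊤ (isAffineOpen_top _))
  have hle : (P : PrimeSpectrum Γ(q.fiber b, ⊤)).asIdeal ≤ (Q : PrimeSpectrum Γ(q.fiber b, ⊤)).asIdeal :=
    (PrimeSpectrum.le_iff_specializes _ _).2 hs
  haveI : (Ideal.comap φ (P : PrimeSpectrum Γ(q.fiber b, ⊤)).asIdeal).IsMaximal := by
    rw [show Ideal.comap φ (P : PrimeSpectrum Γ(q.fiber b, ⊤)).asIdeal = ⊥ from
      (Ideal.eq_bot_or_top _).resolve_right (Ideal.IsPrime.comap φ).ne_top]
    exact Ideal.bot_isMaximal
  have hmax := Ideal.isMaximal_of_isIntegral_of_isMaximal_comap' φ hφ (P : PrimeSpectrum Γ(q.fiber b, ⊤)).asIdeal this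
  exact PrimeSpectrum.ext (hmax.eq_of_le (Q : PrimeSpectrum Γ(q.fiber b, ⊤)).isPrime.ne_top hle)

theorem closure_mem_irreducibleComponents_iff {A B : Scheme.{u}} (π : A ⟶ B) (g : B) (z : ↥(π.base ⁻¹' {g})) :
    closure {z} ∈ irreducibleComponents ↥(π.base ⁻¹' {g}) ↔ MaxIn π z.1 := by
  constructor
  · intro hz w hw e
    let w' : ↥(π.base ⁻¹' {g}) := ⟨w, e.trans z.2⟩
    have hwz : w' ⤳ z := Topology.IsEmbedding.subtypeVal.isInducing.specializes_iff.1 hw
    have hsub : closure {z} ⊆ closure ({w'} : Set ↥(π.base ⁻¹' {g})) :=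
      closure_minimal (Set.singleton_subset_iff.2 hwz.mem_closure) isClosed_closure
    have hzw : z ⤳ w' := specializes_iff_mem_closure.2 (hz.2 isIrreducible_singleton.closure hsub (subset_closure rfl))
    exact congrArg Subtype.val (hwz.antisymm hzw).eq
  · intro hz
    haveI : QuasiSober ↥(π.base ⁻¹' {g}) := (π.fiberHomeo g).symm.isClosedEmbedding.quasiSober
    refine ⟨isIrreducible_singleton.closure, fun Z hZ hle => ?_⟩
    obtain ⟨y, hy⟩ := QuasiSober.sober hZ.closure isClosed_closure
    have hyz : y ⤳ z := hy.specializes (subset_closure (hle (subset_closure rfl)))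
    have he : y = z := Subtype.ext (hz y.1 (hyz.map continuous_subtype_val) (y.2.trans z.2.symm))
    rw [← he, hy.def]
    exact subset_closure

variable {A A₁ A₂ B : Scheme.{u}} (r : A ⟶ A₁) (π : A₁ ⟶ B) (p : A ⟶ A₂) (q : A₂ ⟶ B)

/-- The locus of points all of whose fibre components meet `W`. -/
def locus (W : Set A₁) : Set B := {g | ∀ z, π z = g → MaxIn π z → z ∈ W}

theorem locus_eq (hsq : r ≫ π = p ≫ q) [IsIntegralHom q] [Flat r] [Surjective r]
    (hp : ∀ h : A₂, IsIrreducible (p ⁻¹' {h})) (W : A₁.Opens) :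
    locus π W = (q '' (p '' (r ⁻¹' (W : Set A₁)))ᶜ)ᶜ := by
  have hc : ∀ a : A, π (r a) = q (p a) := fun a => by
    rw [← Scheme.Hom.comp_apply, hsq, Scheme.Hom.comp_apply]
  ext g
  constructor
  · rintro hg ⟨h, hh, rfl⟩
    have hcl : IsClosed (closure (p ⁻¹' {h})) := isClosed_closure
    obtain ⟨m, hm⟩ := QuasiSober.sober (hp h).closure hcl
    obtain ⟨a, ha⟩ := (hp h).nonempty
    have hma : m ⤳ a := hm.specializes (subset_closure ha)
    have hmh : p m = h := by
      have h1 : p m ⤳ h := (show p a = h from ha) ▸ hma.map p.continuous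
      have h2 : h ⤳ p m := by
        have : p '' closure (p ⁻¹' {h}) ⊆ closure {h} :=
          (image_closure_subset_closure_image p.continuous).trans (closure_mono (Set.image_preimage_subset _ _))
        exact specializes_iff_mem_closure.2 (this ⟨m, hm.mem, rfl⟩)
      exact (h1.antisymm h2).eq
    have hmax : MaxIn π (r m) := by
      intro w hw e
      obtain ⟨m', hm', rfl⟩ := Flat.generalizingMap r hw
      have hpp : p m' = h := eq_of_specializes_of_isIntegralHom q (hmh ▸ hm'.map p.continuous)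
        (by rw [← hc, e, hc, hmh])
      rw [(hm'.antisymm (hm.specializes (subset_closure (show m' ∈ p ⁻¹' {h} from hpp)))).eq]
    exact hh ⟨m, hg (r m) (by rw [hc, hmh]) hmax, hmh⟩
  · intro hg z hz hmax
    obtain ⟨u, rfl⟩ := r.surjective z
    have hpu : p u ∈ p '' (r ⁻¹' (W : Set A₁)) := by
      by_contra hn
      exact hg ⟨p u, hn, by rw [← hc, hz]⟩
    obtain ⟨v, hv, hvu⟩ := hpu
    obtain ⟨m, hm⟩ := QuasiSober.sober (hp (p u)).closure isClosed_closure
    have hmW : m ∈ r ⁻¹' (W : Set A₁) :=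
      (hm.specializes (subset_closure (show v ∈ p ⁻¹' {p u} from hvu))).mem_open (W.isOpen.preimage r.continuous) hv
    have hmu : m ⤳ u := hm.specializes (subset_closure (show u ∈ p ⁻¹' {p u} from rfl))
    have hpm : p m ∈ closure {p u} :=
      ((image_closure_subset_closure_image p.continuous).trans (closure_mono (Set.image_preimage_subset _ _)))
        ⟨m, hm.mem, rfl⟩
    have e : p m = p u := ((hmu.map p.continuous).antisymm (specializes_iff_mem_closure.2 hpm)).eq
    rwa [← hmax (r m) (hmu.map r.continuous) (by rw [hc, hc, e])]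

theorem isOpen_locus (hsq : r ≫ π = p ≫ q) [IsIntegralHom q] [Flat r] [Surjective r] [UniversallyOpen p]
    (hp : ∀ h : A₂, IsIrreducible (p ⁻¹' {h})) (W : A₁.Opens) : IsOpen (locus π W) := by
  rw [locus_eq r π p q hsq hp W, isOpen_compl_iff]
  exact q.isClosedMap _ (p.isOpenMap _ (W.isOpen.preimage r.continuous)).isClosed_compl

theorem dense_locus [IsLocallyNoetherian A₁] {W : A₁.Opens} (hW : Dense (W : Set A₁)) :
    Dense (locus π W) := by
  refine Groth.L19.Limit.dense_of_isMaxPt_mem fun m hm z hz hmax => ?_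
  refine Groth.L23.CodimOne.mem_of_dense_of_maximal W.isOpen hW fun w hw => hmax w hw ?_
  rw [hz]
  exact hm _ (hz ▸ hw.map π.continuous)

variable {k : Type u} [Field k] {G : Scheme.{u}} (f : G ⟶ Spec (CommRingCat.of k))

theorem isOpen_locus_bc (K : Type u) [Field K] [Algebra k K] (W : (FBase.bc f K).Opens) :
    IsOpen (locus (FBase.bcπ f K) W) := by
  let Ω := AlgebraicClosure K
  let ι : AlgebraicClosure k →ₐ[k] Ω := IsAlgClosed.lift
  letI : Algebra (AlgebraicClosure k) Ω := ι.toRingHom.toAlgebra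
  haveI : IsScalarTower k (AlgebraicClosure k) Ω := IsScalarTower.of_algebraMap_eq fun x => (ι.commutes x).symm
  haveI : Flat (bcMap f K Ω) := MorphismProperty.of_isPullback (isPullback_bcMap f K Ω).flip (flat_toSpecField _)
  haveI : IsIntegralHom (FBase.bcπ f (AlgebraicClosure k)) := isIntegralHom_bcπ f _
  haveI : GeometricallyIrreducible (bcMap f (AlgebraicClosure k) Ω) :=
    MorphismProperty.of_isPullback (isPullback_bcMap f (AlgebraicClosure k) Ω).flip
      (geometricallyIrreducible_specMap (k := AlgebraicClosure k) Ω)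
  refine isOpen_locus (bcMap f K Ω) (FBase.bcπ f K) (bcMap f (AlgebraicClosure k) Ω)
    (FBase.bcπ f (AlgebraicClosure k)) ((bcMap_π f K Ω).trans (bcMap_π f (AlgebraicClosure k) Ω).symm) (fun h => ?_) W
  exact (bcMap f (AlgebraicClosure k) Ω).isIrreducible_preimage
    (bcMap f (AlgebraicClosure k) Ω).isOpenMap isIrreducible_singleton

end Groth.L02.MaxFibreLocus
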