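import Mathlib.RingTheory.PowerSeries.Inverse
import Mathlib.RingTheory.Nakayama
import Mathlib.RingTheory.Finiteness.Projective
import Mathlib.Algebra.Module.Projective
import Mathlib.LinearAlgebra.Quotient.Basic
import Mathlib.RingTheory.Jacobson.Ideal

/-!
Lattices in `R⟦X⟧ⁿ` and projectivity of the quotient.
-/

namespace Groth.L02.PSLattice

open PowerSeries

universe u

variable {R : Type u} [CommRing R]

/-- `f ↦` the series of coefficients from `M` on. -/
noncomputable def shiftDown (M : ℕ) : R⟦X⟧ →ₗ[R] R⟦X⟧ where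
  toFun f := PowerSeries.mk fun j => coeff (j + M) f
  map_add' f g := by ext; simp
  map_smul' r f := by ext; simp

lemma shiftDown_X_pow_mul (M : ℕ) (f : R⟦X⟧) : shiftDown M (X ^ M * f) = f := by
  ext j; simp [shiftDown, coeff_X_pow_mul]

lemma eq_trunc_add (M : ℕ) (f : R⟦X⟧) :
    f = (∑ j : Fin M, coeff (j : ℕ) f • (X : R⟦X⟧) ^ (j : ℕ)) + X ^ M * shiftDown M f := by
  ext k
  rw [map_add, map_sum, coeff_X_pow_mul']
  simp only [map_smul, coeff_X_pow, smul_eq_mul, mul_ite, mul_one, mul_zero]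
  by_cases hk : M ≤ k
  · rw [if_pos hk, Finset.sum_eq_zero (fun j _ => if_neg (by omega)), zero_add]
    simp [shiftDown, Nat.sub_add_cancel hk]
  · rw [if_neg hk, add_zero, Finset.sum_eq_single (⟨k, by omega⟩ : Fin M)]
    · simp
    · exact fun j _ hj => if_neg fun h => hj (Fin.ext h.symm)
    · simp

lemma projective_prod_iff_of_exact {A E Q : Type u} [AddCommGroup A] [Module R A] [AddCommGroup E]
    [Module R E] [AddCommGroup Q] [Module R Q] [Module.Projective R Q] (j : A →ₗ[R] E) (g : E →ₗ[R] Q)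
    (hj : Function.Injective j) (hg : Function.Surjective g) (h : Function.Exact j g) :
    (Module.Projective R A → Module.Projective R E) ∧ (Module.Projective R E → Module.Projective R A) := by
  obtain ⟨s, hs⟩ := Module.projective_lifting_property g LinearMap.id hg
  let e : E ≃ₗ[R] A × Q := (h.splitSurjectiveEquiv hj ⟨s, hs⟩).1
  refine ⟨fun _ => Module.Projective.of_equiv e.symm, fun _ => ?_⟩
  haveI : Module.Projective R (A × Q) := Module.Projective.of_equiv e
  exact Module.Projective.of_split (LinearMap.inl R A Q) (LinearMap.fst R A Q) (by ext x; rfl)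

variable {n : ℕ} (Λ : Submodule R⟦X⟧ (Fin n → R⟦X⟧))

/-- truncation -/
noncomputable def T (M n : ℕ) : (Fin n → R⟦X⟧) →ₗ[R] (Fin n × Fin M → R) :=
  LinearMap.pi fun a => (coeff (a.2 : ℕ)).comp (LinearMap.proj a.1)

/-- lift of a truncation -/
noncomputable def L (M n : ℕ) : (Fin n × Fin M → R) →ₗ[R] (Fin n → R⟦X⟧) :=
  LinearMap.pi fun i => ∑ j : Fin M,
    (LinearMap.proj (R := R) (φ := fun _ : Fin n × Fin M => R) (i, j)).smulRight ((X : R⟦X⟧) ^ (j : ℕ))

lemma eq_L_add (M : ℕ) (v : Fin n → R⟦X⟧) :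
    v = L M n (T M n v) + ((X : R⟦X⟧) ^ M) • fun i => shiftDown M (v i) := by
  funext i
  conv_lhs => rw [eq_trunc_add M (v i)]
  simp [L, T]

/-- `F → F/Λ` as an `R`-linear map. -/
noncomputable def qmap : (Fin n → R⟦X⟧) →ₗ[R] (Fin n → R⟦X⟧) ⧸ Λ := Λ.mkQ.restrictScalars R

lemma qmap_comp (M : ℕ) (hΛ : ∀ v, ((X : R⟦X⟧) ^ M) • v ∈ Λ) (v : Fin n → R⟦X⟧) :
    qmap Λ (L M n (T M n v)) = qmap Λ v := by
  show Submodule.Quotient.mk _ = Submodule.Quotient.mk _
  rw [Submodule.Quotient.eq]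
  have h := hΛ fun i => shiftDown M (v i)
  rw [show L M n (T M n v) - v = -(((X : R⟦X⟧) ^ M) • fun i => shiftDown M (v i)) by
    conv_lhs => rw [eq_L_add M v]
    rw [← eq_L_add M v]
    exact sub_eq_iff_eq_add.mpr (by rw [neg_add_eq_sub]; exact eq_sub_of_add_eq (eq_L_add M v).symm)]
  exact Λ.neg_mem h

theorem projective_quotient (M : ℕ) (hΛ : ∀ v, ((X : R⟦X⟧) ^ M) • v ∈ Λ)
    [Module.Finite R⟦X⟧ Λ] [Module.Projective R⟦X⟧ Λ] :
    Module.Projective R ((Fin n → R⟦X⟧) ⧸ Λ) := by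
  obtain ⟨r, p, i, -, -, hpi⟩ := Module.Finite.exists_comp_eq_id_of_projective R⟦X⟧ Λ
  let D : (Fin r → R⟦X⟧) →ₗ[R] (Fin r → R⟦X⟧) := LinearMap.pi fun j => (shiftDown M).comp (LinearMap.proj j)
  let ξ : (Fin n → R⟦X⟧) →ₗ[R] Λ :=
    { toFun := fun v => ⟨((X : R⟦X⟧) ^ M) • v, hΛ v⟩
      map_add' := fun v w => Subtype.ext (smul_add _ _ _)
      map_smul' := fun c v => Subtype.ext (smul_comm _ _ _) }
  let a : (Fin n → R⟦X⟧) →ₗ[R] Λ := (p.restrictScalars R).comp (D.comp ((i.restrictScalars R).comp ξ))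
  have ha : ∀ x : Λ, a x = x := by
    intro x
    have h1 : ξ x = ((X : R⟦X⟧) ^ M) • x := rfl
    show p (D (i (ξ x))) = x
    rw [h1, map_smul, show D (((X : R⟦X⟧) ^ M) • i x) = i x from
      funext fun j => shiftDown_X_pow_mul M (i x j)]
    exact LinearMap.congr_fun hpi x
  let b : (Fin n → R⟦X⟧) →ₗ[R] (Fin n → R⟦X⟧) := LinearMap.id - (Λ.subtype.restrictScalars R).comp a
  let s : (Fin n → R⟦X⟧) ⧸ Λ →ₗ[R] (Fin n → R⟦X⟧) :=
    ((Λ.restrictScalars R).liftQ b fun v hv => by
      show v - (a v : Fin n → R⟦X⟧) = 0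
      rw [ha ⟨v, hv⟩, sub_self]).comp (Submodule.Quotient.restrictScalarsEquiv R Λ).symm.toLinearMap
  refine Module.Projective.of_split ((T M n).comp s) ((qmap Λ).comp (L M n)) ?_
  refine LinearMap.ext fun q => ?_
  obtain ⟨v, rfl⟩ := Submodule.Quotient.mk_surjective _ q
  show qmap Λ (L M n (T M n (s (Submodule.Quotient.mk v)))) = Submodule.Quotient.mk v
  rw [qmap_comp Λ M hΛ]
  show Submodule.Quotient.mk (v - (a v : Fin n → R⟦X⟧)) = Submodule.Quotient.mk v
  rw [Submodule.Quotient.eq, sub_sub_cancel_left]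
  exact Λ.neg_mem (a v).2

theorem finite_of_projective_quotient (M : ℕ) (hΛ : ∀ v, ((X : R⟦X⟧) ^ M) • v ∈ Λ)
    [Module.Projective R ((Fin n → R⟦X⟧) ⧸ Λ)] : Module.Finite R⟦X⟧ Λ := by
  classical
  let g : (Fin n × Fin M → R) →ₗ[R] (Fin n → R⟦X⟧) ⧸ Λ := (qmap Λ).comp (L M n)
  have hg : Function.Surjective g := fun q => by
    obtain ⟨v, rfl⟩ := Submodule.Quotient.mk_surjective _ q
    exact ⟨T M n v, qmap_comp Λ M hΛ v⟩
  obtain ⟨s, hs⟩ := Module.projective_lifting_property g LinearMap.id hg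
  let E : (Fin n × Fin M → R) →ₗ[R] (Fin n × Fin M → R) := LinearMap.id - s.comp g
  refine ⟨Submodule.fg_of_fg_map_injective Λ.subtype Subtype.val_injective ?_⟩
  rw [Submodule.map_top, Submodule.range_subtype]
  let G₁ : Set (Fin n → R⟦X⟧) := Set.range fun a => L M n (E (Pi.single a 1))
  let G₂ : Set (Fin n → R⟦X⟧) := Set.range fun i => ((X : R⟦X⟧) ^ M) • (Pi.single i 1 : Fin n → R⟦X⟧)
  refine Submodule.fg_def.mpr ⟨G₁ ∪ G₂, (Set.finite_range _).union (Set.finite_range _),
    le_antisymm (Submodule.span_le.mpr ?_) fun v hv => ?_⟩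
  · rintro _ (⟨a, rfl⟩ | ⟨i, rfl⟩)
    · refine (Submodule.Quotient.mk_eq_zero Λ).mp ?_
      show g (Pi.single a 1 - s (g (Pi.single a 1))) = 0
      rw [map_sub, show g (s (g (Pi.single a 1))) = g (Pi.single a 1) from LinearMap.congr_fun hs _, sub_self]
    · exact hΛ _
  · have hgT : g (T M n v) = 0 := (qmap_comp Λ M hΛ v).trans ((Submodule.Quotient.mk_eq_zero Λ).mpr hv)
    have hE : E (T M n v) = T M n v := by
      show T M n v - s (g (T M n v)) = T M n v
      rw [hgT, map_zero, sub_zero]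
    rw [eq_L_add M v, ← hE]
    refine Submodule.add_mem _ ?_ ?_
    · rw [pi_eq_sum_univ' (T M n v), map_sum, map_sum]
      refine Submodule.sum_mem _ fun a _ => ?_
      rw [map_smul, map_smul, ← algebraMap_smul R⟦X⟧]
      exact Submodule.smul_mem _ _ (Submodule.subset_span (Or.inl ⟨a, rfl⟩))
    · rw [pi_eq_sum_univ' (fun i => shiftDown M (v i)), Finset.smul_sum]
      refine Submodule.sum_mem _ fun i _ => ?_
      rw [smul_comm]
      exact Submodule.smul_mem _ _ (Submodule.subset_span (Or.inr ⟨i, rfl⟩))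

/-- constant coefficients of a tuple -/
noncomputable def cc (r : ℕ) : (Fin r → R⟦X⟧) →ₗ[R] (Fin r → R) :=
  LinearMap.pi fun j => (coeff 0).comp (LinearMap.proj j)

lemma exists_eq_X_smul {r : ℕ} (z : Fin r → R⟦X⟧) (h : cc r z = 0) : ∃ z', z = (X : R⟦X⟧) • z' := by
  refine ⟨fun j => shiftDown 1 (z j), funext fun j => ?_⟩
  have h0 : coeff 0 (z j) = 0 := congrFun h j
  conv_lhs => rw [eq_trunc_add 1 (z j)]
  simp only [Fin.sum_univ_one, Fin.val_zero, pow_zero, pow_one, h0, zero_smul, zero_add]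
  rfl

theorem projective_of_projective_quotient (M : ℕ) (hΛ : ∀ v, ((X : R⟦X⟧) ^ M) • v ∈ Λ)
    [Module.Projective R ((Fin n → R⟦X⟧) ⧸ Λ)] : Module.Projective R⟦X⟧ Λ := by
  classical
  haveI := finite_of_projective_quotient Λ M hΛ
  let μ : (Fin n → R⟦X⟧) →ₗ[R⟦X⟧] (Fin n → R⟦X⟧) := LinearMap.lsmul R⟦X⟧ _ X
  have hμ : Function.Injective μ := fun v w h => funext fun i => by
    have := congrArg (shiftDown 1) (congrFun h i)
    simp only [μ, LinearMap.lsmul_apply, Pi.smul_apply, smul_eq_mul] at this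
    rwa [← pow_one (X : R⟦X⟧), shiftDown_X_pow_mul, shiftDown_X_pow_mul] at this
  let XΛ := Λ.map μ
  let E := (Fin n → R⟦X⟧) ⧸ XΛ
  have hXle : XΛ ≤ Λ := by
    rintro _ ⟨v, hv, rfl⟩; exact Λ.smul_mem _ hv
  -- `F/XΛ` is projective
  haveI hE : Module.Projective R E := by
    let j : (Fin n → R⟦X⟧) ⧸ Λ →ₗ[R⟦X⟧] E := Λ.mapQ XΛ μ fun v hv => Submodule.mem_map_of_mem hv
    let c : E →ₗ[R] (Fin n → R) := ((XΛ.restrictScalars R).liftQ (cc n) fun v hv => by
      obtain ⟨w, -, rfl⟩ := hv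
      funext i
      simp [cc, μ]).comp (Submodule.Quotient.restrictScalarsEquiv R XΛ).symm.toLinearMap
    refine (projective_prod_iff_of_exact (j.restrictScalars R) c ?_ ?_ ?_).1 ‹_›
    · refine (injective_iff_map_eq_zero j).mpr fun q hq => ?_
      obtain ⟨v, rfl⟩ := Submodule.Quotient.mk_surjective _ q
      obtain ⟨w, hw, hwv⟩ := (Submodule.Quotient.mk_eq_zero XΛ).mp hq
      exact (Submodule.Quotient.mk_eq_zero Λ).mpr (hμ hwv ▸ hw)
    · exact fun y => ⟨Submodule.Quotient.mk fun i => C (y i), funext fun i => by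
        show coeff 0 (C (y i)) = y i
        simp⟩
    · intro q
      obtain ⟨v, rfl⟩ := Submodule.Quotient.mk_surjective _ q
      constructor
      · intro h
        obtain ⟨w, rfl⟩ := exists_eq_X_smul v h
        exact ⟨Submodule.Quotient.mk w, rfl⟩
      · rintro ⟨q', hq'⟩
        obtain ⟨w, rfl⟩ := Submodule.Quotient.mk_surjective _ q'
        rw [← hq']
        show cc n ((X : R⟦X⟧) • w) = 0
        funext i
        simp [cc]
  let A := Λ ⧸ XΛ.comap Λ.subtype
  haveI hA : Module.Projective R A := by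
    let j : A →ₗ[R⟦X⟧] E := (XΛ.comap Λ.subtype).mapQ XΛ Λ.subtype le_rfl
    let g : E →ₗ[R⟦X⟧] (Fin n → R⟦X⟧) ⧸ Λ := Submodule.factor hXle
    refine (projective_prod_iff_of_exact (j.restrictScalars R) (g.restrictScalars R) ?_ ?_ ?_).2 hE
    · refine (injective_iff_map_eq_zero j).mpr fun q hq => ?_
      obtain ⟨v, rfl⟩ := Submodule.Quotient.mk_surjective _ q
      exact (Submodule.Quotient.mk_eq_zero _).mpr ((Submodule.Quotient.mk_eq_zero XΛ).mp hq)
    · exact Submodule.factor_surjective hXle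
    · intro q
      obtain ⟨v, rfl⟩ := Submodule.Quotient.mk_surjective _ q
      constructor
      · intro h
        exact ⟨Submodule.Quotient.mk ⟨v, (Submodule.Quotient.mk_eq_zero Λ).mp h⟩, rfl⟩
      · rintro ⟨q', hq'⟩
        obtain ⟨w, rfl⟩ := Submodule.Quotient.mk_surjective _ q'
        rw [← hq']
        exact (Submodule.Quotient.mk_eq_zero Λ).mpr w.2
  let mkA : Λ →ₗ[R] A := (XΛ.comap Λ.subtype).mkQ.restrictScalars R
  have hX0 : ∀ (f : R⟦X⟧) (x : Λ), mkA (f • x) = coeff 0 f • mkA x := by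
    intro f x
    rw [eq_trunc_add 1 f]
    simp only [Fin.sum_univ_one, Fin.val_zero, pow_zero, pow_one, map_add, add_smul]
    rw [smul_assoc, one_smul, map_smul, mul_smul,
      show mkA ((X : R⟦X⟧) • shiftDown 1 f • x) = 0 from (Submodule.Quotient.mk_eq_zero _).mpr
        ⟨((shiftDown 1 f • x : Λ) : Fin n → R⟦X⟧), (shiftDown 1 f • x : Λ).2, rfl⟩, add_zero]
    simp
  -- `A` is finite over `R`
  haveI : Module.Finite R A := by
    obtain ⟨s, hs⟩ := Module.Finite.fg_top (R := R⟦X⟧) (M := Λ)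
    refine ⟨⟨s.image mkA, eq_top_iff.mpr fun q hq => ?_⟩⟩
    clear hq
    obtain ⟨x, rfl⟩ := Submodule.Quotient.mk_surjective _ q
    have hx : x ∈ Submodule.span R⟦X⟧ (s : Set Λ) := by rw [hs]; trivial
    show mkA x ∈ _
    induction hx using Submodule.span_induction with
    | mem x hx => exact Submodule.subset_span (Finset.mem_coe.mpr (Finset.mem_image_of_mem _ hx))
    | zero => rw [map_zero]; exact Submodule.zero_mem _
    | add a b _ _ ha hb => rw [map_add]; exact Submodule.add_mem _ ha hb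
    | smul f a _ ha => rw [hX0]; exact Submodule.smul_mem _ _ ha
  obtain ⟨r, p, i, -, -, hpi⟩ := Module.Finite.exists_comp_eq_id_of_projective R A
  let e : (Fin r → R) →ₗ[R] (Fin r → R) := i.comp p
  have hmk : ∀ a : A, ∃ x : Λ, mkA x = a := Submodule.Quotient.mk_surjective _
  choose lift hlift using hmk
  let φ : (Fin r → R⟦X⟧) →ₗ[R⟦X⟧] Λ :=
    Fintype.linearCombination R⟦X⟧ fun j => lift (p (Pi.single j 1))
  have hφ : ∀ z, mkA (φ z) = p (cc r z) := by
    intro z
    rw [Fintype.linearCombination_apply, map_sum, pi_eq_sum_univ' (cc r z), map_sum]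
    refine Finset.sum_congr rfl fun j _ => ?_
    rw [hX0, hlift, map_smul]
    rfl
  let Ê : (Fin r → R⟦X⟧) →ₗ[R⟦X⟧] (Fin r → R⟦X⟧) :=
    Fintype.linearCombination R⟦X⟧ fun j k => C (e (Pi.single j 1) k)
  have hÊ : ∀ z, cc r (Ê z) = e (cc r z) := by
    intro z
    rw [Fintype.linearCombination_apply, map_sum, pi_eq_sum_univ' (cc r z), map_sum]
    refine Finset.sum_congr rfl fun j _ => funext fun k => ?_
    rw [map_smul e]
    show coeff 0 (z j * C (e (Pi.single j 1) k)) = coeff 0 (z j) * e (Pi.single j 1) k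
    rw [coeff_mul_C]
  have hee : ∀ v, e (e v) = e v := fun v => congrArg i (LinearMap.congr_fun hpi (p v))
  have hÊÊ : Ê.comp Ê = Ê := by
    refine LinearMap.pi_ext' fun j => LinearMap.ext_ring ?_
    show Ê (Ê (Pi.single j 1)) = Ê (Pi.single j 1)
    rw [Fintype.linearCombination_apply_single, one_smul, Fintype.linearCombination_apply]
    funext k
    rw [Finset.sum_apply]
    simp only [Pi.smul_apply, smul_eq_mul, ← map_mul, ← map_sum]
    refine congrArg C ?_
    have he : ∀ w, e w k = ∑ l, w l * e (Pi.single l 1) k := fun w => by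
      conv_lhs => rw [pi_eq_sum_univ' w]
      rw [map_sum, Finset.sum_apply]
      simp only [map_smul, Pi.smul_apply, smul_eq_mul]
    rw [← he (e (Pi.single j 1))]
    exact congrFun (hee _) k
  have hinj : ∀ z, Ê z = z → φ z = 0 → z = 0 := by
    have step : ∀ z, Ê z = z → φ z = 0 → ∃ w, z = (X : R⟦X⟧) • w ∧ Ê w = w ∧ φ w = 0 := by
      intro z hz hz0
      have h0 : cc r z = 0 := by
        rw [← hz, hÊ]
        show i (p (cc r z)) = 0
        rw [← hφ, hz0, map_zero, map_zero]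
      obtain ⟨w, rfl⟩ := exists_eq_X_smul z h0
      refine ⟨Ê w, by rw [← map_smul, hz], LinearMap.congr_fun hÊÊ w, ?_⟩
      rw [← hz, map_smul, map_smul] at hz0
      exact Subtype.ext (hμ ((congrArg Subtype.val hz0).trans (map_zero μ).symm))
    intro z hz hz0
    have hall : ∀ k, ∀ z, Ê z = z → φ z = 0 → ∀ j, ∀ l < k, coeff l (z j) = 0 := by
      intro k
      induction k with
      | zero => intro z _ _ j l hl; omega
      | succ k ih =>
        intro z hz hz0 j l hl
        obtain ⟨w, rfl, hw, hw0⟩ := step z hz hz0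
        show coeff l (X * w j) = 0
        cases l with
        | zero => simp
        | succ l => rw [coeff_succ_X_mul]; exact ih w hw hw0 j l (by omega)
    funext j
    ext l
    simpa using hall (l + 1) z hz hz0 j l (by omega)
  have hsurj : LinearMap.range (φ.comp Ê) = ⊤ := by
    refine eq_top_iff.mpr (Submodule.le_of_le_smul_of_le_jacobson_bot (I := Ideal.span {(X : R⟦X⟧)})
      Module.Finite.fg_top ((Ideal.span_singleton_le_iff_mem _).mpr (Ideal.mem_jacobson_bot.mpr fun y =>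
        isUnit_iff_constantCoeff.mpr (by simp))) ?_)
    intro x _
    obtain ⟨v, hv⟩ : ∃ v, mkA (φ (Ê v)) = mkA x := by
      refine ⟨fun k => C (i (mkA x) k), ?_⟩
      rw [hφ, hÊ, show cc r (fun k => C (i (mkA x) k)) = i (mkA x) from funext fun k => by simp [cc]]
      show p (i (p (i (mkA x)))) = mkA x
      simp only [show ∀ a, p (i a) = a from fun a => LinearMap.congr_fun hpi a]
    obtain ⟨w, hw, hwx⟩ := (Submodule.Quotient.eq _).mp hv.symm
    rw [show x = φ (Ê v) + (x - φ (Ê v)) by abel]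
    refine Submodule.add_mem_sup ⟨v, rfl⟩ ?_
    rw [show x - φ (Ê v) = (X : R⟦X⟧) • (⟨w, hw⟩ : Λ) from Subtype.ext hwx.symm]
    exact Submodule.smul_mem_smul (Ideal.mem_span_singleton_self _) Submodule.mem_top
  let ψ : LinearMap.range Ê →ₗ[R⟦X⟧] Λ := φ.comp (LinearMap.range Ê).subtype
  have hψ : Function.Bijective ψ := by
    refine ⟨(injective_iff_map_eq_zero ψ).mpr fun z hz => Subtype.ext (hinj z ?_ hz), fun x => ?_⟩
    · obtain ⟨v, hv⟩ := z.2
      rw [← hv]; exact LinearMap.congr_fun hÊÊ v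
    · obtain ⟨v, hv⟩ := (hsurj.ge (Submodule.mem_top : x ∈ ⊤))
      exact ⟨⟨Ê v, v, rfl⟩, hv⟩
  exact Module.Projective.of_split
    ((LinearMap.range Ê).subtype.comp (LinearEquiv.ofBijective ψ hψ).symm.toLinearMap) φ
    (LinearMap.ext fun x => (LinearEquiv.ofBijective ψ hψ).apply_symm_apply x)

end Groth.L02.PSLattice
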