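import Groth.Prelude.Def_Found
import Groth.Prelude.Def_CAlgX
import Mathlib.Algebra.Module.FinitePresentation
import Mathlib.LinearAlgebra.TensorProduct.RightExactness
import Mathlib.LinearAlgebra.TensorProduct.Pi

/-! The map `M ⊗ ∏ Qᵢ → ∏ (M ⊗ Qᵢ)`: naturality, surjectivity and bijectivity. -/

universe u

namespace Groth.L02

open TensorProduct

variable {R : Type u} [CommRing R] {M N : Type u}
  [AddCommGroup M] [Module R M] [AddCommGroup N] [Module R N]
  {ι : Type u} {Q : ι → Type u} [∀ i, AddCommGroup (Q i)] [∀ i, Module R (Q i)]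

theorem piRightHom_rTensor (f : M →ₗ[R] N) (x : M ⊗[R] (∀ i, Q i)) :
    piRightHom R R N Q (f.rTensor (∀ i, Q i) x) =
      fun i => f.rTensor (Q i) (piRightHom R R M Q x i) := by
  induction x using TensorProduct.induction_on with
  | zero => funext i; simp
  | tmul m q => funext i; simp
  | add a b ha hb => funext i; simp [map_add, ha, hb]

theorem piRightHom_surjective_of_finite [Module.Finite R M] :
    Function.Surjective (piRightHom R R M Q) := by
  classical
  obtain ⟨n, s, hs⟩ := Module.Finite.exists_fin' R M
  intro y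
  have hex : ∀ i, ∃ z : (Fin n → R) ⊗[R] Q i, s.rTensor (Q i) z = y i :=
    fun i => LinearMap.rTensor_surjective (Q i) hs (y i)
  choose z hz using hex
  let zc : ∀ i, Fin n → Q i := fun i => piScalarRight R R (Q i) (Fin n) (TensorProduct.comm R _ _ (z i))
  refine ⟨∑ j, s (Pi.single j 1) ⊗ₜ (fun i => zc i j), funext fun i => ?_⟩
  simp only [map_sum, Finset.sum_apply, piRightHom_tmul]
  have h1 : z i = ∑ j, (Pi.single j (1 : R) : Fin n → R) ⊗ₜ zc i j := by
    apply (TensorProduct.comm R _ _).injective
    apply (piScalarRight R R (Q i) (Fin n)).injective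
    funext k
    simp [zc, map_sum, Finset.sum_apply, Pi.single_apply, Finset.sum_ite_eq', Finset.sum_ite_eq]
  rw [← hz i, h1]
  simp [map_sum]

theorem isMittagLeffler_pi_fin (n : ℕ) : CAlg.IsMittagLeffler R (Fin n → R) := by
  classical
  intro ι Q _ _ x y hxy
  let e := fun (P : Type u) [AddCommGroup P] [Module R P] =>
    (TensorProduct.comm R (Fin n → R) P) ≪≫ₗ piScalarRight R R P (Fin n)
  apply (e (∀ i, Q i)).injective
  funext k i
  have key : ∀ w : (Fin n → R) ⊗[R] (∀ i, Q i),
      e (∀ i, Q i) w k i = e (Q i) (piRightHom R R (Fin n → R) Q w i) k := by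
    intro w
    induction w using TensorProduct.induction_on with
    | zero => simp
    | tmul v q => simp [e]
    | add a b ha hb => simp [map_add, ha, hb]
  rw [key, key, hxy]

theorem isMittagLeffler_of_universallyInjective (f : M →ₗ[R] N)
    (hf : CAlgX.UniversallyInjective R f) (h₂ : CAlg.IsMittagLeffler R N) :
    CAlg.IsMittagLeffler R M := by
  intro ι Q _ _ x y hxy
  apply hf (∀ i, Q i)
  apply h₂ ι Q
  rw [piRightHom_rTensor, piRightHom_rTensor, hxy]

/-- A quotient of a Mittag-Leffler module by a finitely generated submodule is Mittag-Leffler. -/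
theorem isMittagLeffler_of_exact {K : Type u} [AddCommGroup K] [Module R K] [Module.Finite R K]
    (g : K →ₗ[R] M) (q : M →ₗ[R] N) (hexact : Function.Exact g q) (hq : Function.Surjective q)
    (hM : CAlg.IsMittagLeffler R M) : CAlg.IsMittagLeffler R N := by
  intro ι Q _ _
  rw [injective_iff_map_eq_zero]
  intro x hx
  obtain ⟨y, rfl⟩ := LinearMap.rTensor_surjective (∀ i, Q i) hq x
  rw [piRightHom_rTensor] at hx
  have hy : ∀ i, ∃ z, g.rTensor (Q i) z = piRightHom R R M Q y i := fun i =>
    (rTensor_exact (Q i) hexact hq _).mp (congrFun hx i)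
  choose z hz using hy
  obtain ⟨w, hw⟩ := piRightHom_surjective_of_finite (M := K) (Q := Q) z
  have : g.rTensor (∀ i, Q i) w = y := by
    apply hM ι Q
    rw [piRightHom_rTensor, hw]
    exact funext hz
  rw [← this, ← LinearMap.comp_apply, ← LinearMap.rTensor_comp, hexact.linearMap_comp_eq_zero,
    LinearMap.rTensor_zero, LinearMap.zero_apply]

theorem isMittagLeffler_of_finitePresentation [Module.FinitePresentation R M] :
    CAlg.IsMittagLeffler R M := by
  obtain ⟨n, K, e, hK⟩ := Module.FinitePresentation.exists_fin R M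
  have : Module.Finite R K := Module.Finite.iff_fg.mpr hK
  refine isMittagLeffler_of_exact K.subtype (e.symm.toLinearMap.comp K.mkQ) ?_
    (e.symm.surjective.comp K.mkQ_surjective) (isMittagLeffler_pi_fin n)
  rw [LinearMap.exact_iff, LinearMap.ker_comp, LinearEquiv.ker, Submodule.comap_bot,
    Submodule.ker_mkQ, Submodule.range_subtype]

theorem piRightHom_bijective_of_finitePresentation [Module.FinitePresentation R M] :
    Function.Bijective (piRightHom R R M Q) :=
  ⟨isMittagLeffler_of_finitePresentation ι Q, piRightHom_surjective_of_finite⟩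

end Groth.L02
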