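import Groth.Agent.L07.QuasiRegular
import Mathlib.RingTheory.Polynomial.Basic
import Mathlib.Algebra.MvPolynomial.Expand
import Mathlib.RingTheory.Ideal.Quotient.Operations

/-!
`H₁`-regular sequences are of linear type; appending one modulo a quasi-regular sequence.
-/

set_option autoImplicit false
universe u

open MvPolynomial Groth.L07.QReg

namespace Groth.L02.QuasiRegAppend

variable {A : Type u} [CommRing A] {n m : ℕ}

/-- The ideal of trivial linear relations. -/
noncomputable def trivRel (h : Fin m → A) : Ideal (MvPolynomial (Fin m) A) :=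
  Ideal.span (Set.range fun ab : Fin m × Fin m => C (h ab.2) * X ab.1 - C (h ab.1) * X ab.2)

theorem exists_split {d : ℕ} {R : MvPolynomial (Fin m) A} (hR : R.IsHomogeneous (d + 1)) :
    ∃ S : Fin m → MvPolynomial (Fin m) A, (∀ i, (S i).IsHomogeneous d) ∧ R = ∑ i, X i * S i := by
  classical
  have key : ∀ e ∈ R.support, ∃ i : Fin m, 1 ≤ e i := by
    intro e he
    by_contra hne
    push Not at hne
    have he0 : e = 0 := Finsupp.ext fun i => by simpa using hne i
    have := hR (mem_support_iff.mp he)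
    rw [he0, map_zero] at this
    omega
  choose ι hι using key
  refine ⟨fun i => ∑ e ∈ R.support.attach.filter (fun e => ι e.1 e.2 = i),
    monomial (e.1 - Finsupp.single i 1) (R.coeff e.1), fun i => ?_, ?_⟩
  · refine IsHomogeneous.sum _ _ _ fun e he => isHomogeneous_monomial _ ?_
    obtain ⟨-, rfl⟩ := Finset.mem_filter.mp he
    have h1 := hR (mem_support_iff.mp e.2)
    have hle : Finsupp.single (ι e.1 e.2) 1 ≤ e.1 := Finsupp.single_le_iff.mpr (hι e.1 e.2)
    have h2 : Finsupp.weight (1 : Fin m → ℕ) e.1 = Finsupp.weight 1 (e.1 - Finsupp.single (ι e.1 e.2) 1) + 1 := by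
      conv_lhs => rw [← tsub_add_cancel_of_le hle, map_add, Finsupp.weight_single]
      simp
    rw [Finsupp.degree_eq_weight_one]
    show Finsupp.weight (1 : Fin m → ℕ) _ = d
    omega
  · conv_lhs => rw [R.as_sum, ← Finset.sum_attach]
    rw [← Finset.sum_fiberwise R.support.attach (fun e => ι e.1 e.2)]
    refine Finset.sum_congr rfl fun i _ => ?_
    rw [Finset.mul_sum]
    refine Finset.sum_congr rfl fun e he => ?_
    obtain ⟨-, rfl⟩ := Finset.mem_filter.mp he
    rw [X, monomial_mul, one_mul, add_tsub_cancel_of_le (Finsupp.single_le_iff.mpr (hι e.1 e.2))]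

theorem sum_C_mul_X_mem {h : Fin m → A} (hh : CAlgX.IsH1Regular h) (v : Fin m → A) (hv : ∑ i, v i * h i = 0) :
    ∑ i, C (v i) * X i ∈ trivRel h := by
  refine Submodule.span_induction (p := fun w _ => ∑ i, C (w i) * X i ∈ trivRel h) ?_ ?_ ?_ ?_ (hh v hv)
  · rintro _ ⟨a, b, rfl⟩
    have e : ∑ i, C ((Pi.single a (h b) - Pi.single b (h a) : Fin m → A) i) * X i =
        C (h b) * X a - C (h a) * X b := by
      simp only [Pi.sub_apply, C_sub, sub_mul, Finset.sum_sub_distrib]
      congr 1 <;> rw [Fintype.sum_eq_single _ (fun i hi => by rw [Pi.single_eq_of_ne hi, C_0, zero_mul]), Pi.single_eq_same]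
    rw [e]
    exact Ideal.subset_span ⟨(a, b), rfl⟩
  · simp
  · intro w w' _ _ hw hw'
    simpa [add_mul, Finset.sum_add_distrib] using add_mem hw hw'
  · intro c w _ hw
    simpa [mul_assoc, Finset.mul_sum] using (trivRel h).mul_mem_left (C c) hw

/-- An `H₁`-regular sequence is of linear type. -/
theorem mem_trivRel {h : Fin m → A} (hh : CAlgX.IsH1Regular h) :
    ∀ (d : ℕ) (R : MvPolynomial (Fin m) A), R.IsHomogeneous d → eval h R = 0 → R ∈ trivRel h := by
  classical
  intro d
  induction d with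
  | zero =>
    intro R hR he
    obtain ⟨a, rfl⟩ : ∃ a, R = C a :=
      ⟨coeff 0 R, totalDegree_eq_zero_iff_eq_C.mp (Nat.eq_zero_of_le_zero hR.totalDegree_le)⟩
    rw [eval_C] at he
    simp [he]
  | succ d ih =>
    intro R hR he
    obtain ⟨S, hS, rfl⟩ := exists_split hR
    have h1 : ∑ i, C (h i) * S i ∈ trivRel h := by
      refine ih _ (IsHomogeneous.sum _ _ _ fun i _ => (hS i).C_mul _) ?_
      simpa using he
    obtain ⟨Q, hQ⟩ := Ideal.mem_span_range_iff_exists_fun.mp h1
    let corr : Fin m → MvPolynomial (Fin m) A := fun i =>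
      ∑ ab : Fin m × Fin m, Q ab * ((if i = ab.2 then X ab.1 else 0) - (if i = ab.1 then X ab.2 else 0))
    let S' : Fin m → MvPolynomial (Fin m) A := fun i => S i - corr i
    have hX : ∑ i, X i * corr i = 0 := by
      simp only [corr, Finset.mul_sum]
      rw [Finset.sum_comm]
      refine Finset.sum_eq_zero fun ab _ => ?_
      simp only [mul_sub, mul_ite, mul_zero, Finset.sum_sub_distrib, Finset.sum_ite_eq', Finset.mem_univ, if_true]
      ring
    have hC : ∑ i, C (h i) * corr i = ∑ i, C (h i) * S i := by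
      rw [← hQ]
      simp only [corr, Finset.mul_sum]
      rw [Finset.sum_comm]
      refine Finset.sum_congr rfl fun ab _ => ?_
      simp only [mul_sub, mul_ite, mul_zero, Finset.sum_sub_distrib, Finset.sum_ite_eq', Finset.mem_univ, if_true]
      ring
    have h0 : ∑ i, C (h i) * S' i = 0 := by
      simp only [S', mul_sub, Finset.sum_sub_distrib, hC, sub_self]
    have hR' : ∑ i, X i * S i = ∑ i, X i * S' i := by
      simp only [S', mul_sub, Finset.sum_sub_distrib, hX, sub_zero]
    rw [hR']
    let s := Finset.univ.biUnion fun i => (S' i).support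
    have hexp : ∀ i, S' i = ∑ e ∈ s, monomial e ((S' i).coeff e) := by
      intro i
      conv_lhs => rw [(S' i).as_sum]
      refine Finset.sum_subset (fun e he => Finset.mem_biUnion.mpr ⟨i, Finset.mem_univ _, he⟩) fun e _ he => ?_
      rw [notMem_support_iff.mp he, monomial_zero]
    have e2 : ∑ i, X i * S' i = ∑ e ∈ s, monomial e 1 * ∑ i, C ((S' i).coeff e) * X i := by
      conv_lhs => arg 2; intro i; rw [hexp i]
      simp only [Finset.mul_sum]
      rw [Finset.sum_comm]
      refine Finset.sum_congr rfl fun e _ => Finset.sum_congr rfl fun i _ => ?_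
      rw [← mul_assoc, mul_comm (monomial e 1) (C _), C_mul_monomial, mul_one, mul_comm]
    rw [e2]
    refine sum_mem fun e _ => Ideal.mul_mem_left _ _ (sum_C_mul_X_mem hh _ ?_)
    have := congrArg (coeff e) h0
    simpa [coeff_sum, coeff_C_mul, mul_comm] using this

theorem trivRel_le_map_C (h : Fin m → A) : trivRel h ≤ (Ideal.span (Set.range h)).map (C : A →+* _) := by
  refine Ideal.span_le.mpr ?_
  rintro _ ⟨⟨a, b⟩, rfl⟩
  exact sub_mem (Ideal.mul_mem_right _ _ (Ideal.mem_map_of_mem _ (Ideal.subset_span ⟨b, rfl⟩)))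
    (Ideal.mul_mem_right _ _ (Ideal.mem_map_of_mem _ (Ideal.subset_span ⟨a, rfl⟩)))

theorem sup_pow_le (J K : Ideal A) (d : ℕ) : (J ⊔ K) ^ (d + 1) ≤ J * (J ⊔ K) ^ d ⊔ K ^ (d + 1) := by
  induction d with
  | zero => simp
  | succ d ih =>
    calc (J ⊔ K) ^ (d + 1 + 1) = J * (J ⊔ K) ^ (d + 1) ⊔ K * (J ⊔ K) ^ (d + 1) := by
          rw [pow_succ' _ (d + 1), Ideal.sup_mul]
      _ ≤ J * (J ⊔ K) ^ (d + 1) ⊔ K ^ (d + 1 + 1) := by
          refine sup_le le_sup_left ((Ideal.mul_mono_right ih).trans ?_)
          rw [Ideal.mul_sup, ← pow_succ' K, mul_left_comm]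
          refine sup_le_sup_right (Ideal.mul_mono_right ?_) _
          rw [pow_succ' _ d]
          exact Ideal.mul_mono_left le_sup_right

section

variable (J : Ideal A) (g : Fin m → A) (hg : CAlgX.IsH1Regular fun i => Ideal.Quotient.mk J (g i))

include hg in
theorem rel_mod {d : ℕ} {R : MvPolynomial (Fin m) A} (hR : R.IsHomogeneous d) (he : eval g R ∈ J) :
    eval g R ∈ J * Ideal.span (Set.range g) ^ d ∧ ∀ e, R.coeff e ∈ J ⊔ Ideal.span (Set.range g) := by
  classical
  have hbar : MvPolynomial.map (Ideal.Quotient.mk J) R ∈ trivRel fun i => Ideal.Quotient.mk J (g i) := by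
    refine mem_trivRel hg d _ (hR.map _) ?_
    rw [eval_map, show (fun i => Ideal.Quotient.mk J (g i)) = Ideal.Quotient.mk J ∘ g from rfl, ← eval₂_comp]
    exact Ideal.Quotient.eq_zero_iff_mem.mpr he
  have hmap : trivRel (fun i => Ideal.Quotient.mk J (g i)) =
      (trivRel g).map (MvPolynomial.map (Ideal.Quotient.mk J)) := by
    rw [trivRel, trivRel, Ideal.map_span]
    congr 1
    rw [← Set.range_comp]
    congr 1
    funext ab
    simp
  rw [hmap] at hbar
  obtain ⟨t, ht, hte⟩ := (Ideal.mem_map_iff_of_surjective _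
    (MvPolynomial.map_surjective _ Ideal.Quotient.mk_surjective)).mp hbar
  have hu : ∀ e, (R - t).coeff e ∈ J := by
    intro e
    rw [← Ideal.Quotient.eq_zero_iff_mem, ← coeff_map, map_sub, hte, sub_self, coeff_zero]
  refine ⟨?_, fun e => ?_⟩
  · let φ : MvPolynomial (Fin m) A →+* Polynomial A :=
      eval₂Hom Polynomial.C fun i => Polynomial.C (g i) * Polynomial.X
    have hφt : φ t = 0 := by
      have hle : trivRel g ≤ RingHom.ker φ := by
        refine Ideal.span_le.mpr ?_
        rintro _ ⟨⟨a, b⟩, rfl⟩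
        simp only [SetLike.mem_coe, RingHom.mem_ker, φ, map_sub, map_mul, eval₂Hom_C, eval₂Hom_X']
        ring
      exact hle ht
    have hmon : ∀ (e : Fin m →₀ ℕ) (c : A),
        φ (monomial e c) = Polynomial.C (c * ∏ i ∈ e.support, g i ^ e i) * Polynomial.X ^ Finsupp.degree e := by
      intro e c
      simp only [φ, coe_eval₂Hom, eval₂_monomial, Finsupp.prod, mul_pow, Finset.prod_mul_distrib,
        Finset.prod_pow_eq_pow_sum, map_mul, map_prod, map_pow]
      rw [Finsupp.degree_apply]
      ring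
    have hcoeff : ∀ P : MvPolynomial (Fin m) A, (φ P).coeff d =
        ∑ e ∈ P.support, if Finsupp.degree e = d then P.coeff e * ∏ i ∈ e.support, g i ^ e i else 0 := by
      intro P
      conv_lhs => rw [P.as_sum]
      rw [map_sum, Polynomial.finsetSum_coeff]
      refine Finset.sum_congr rfl fun e _ => ?_
      rw [hmon, Polynomial.coeff_C_mul_X_pow]
      simp only [eq_comm]
    have h1 : eval g R = (φ (R - t)).coeff d := by
      rw [map_sub, hφt, sub_zero, hcoeff, eval_eq]
      refine Finset.sum_congr rfl fun e he => ?_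
      rw [if_pos]
      rw [Finsupp.degree_eq_weight_one]
      exact hR (mem_support_iff.mp he)
    rw [h1, hcoeff]
    refine sum_mem fun e _ => ?_
    split_ifs with hd
    · refine Ideal.mul_mem_mul (hu e) ?_
      rw [← hd, Finsupp.degree_apply, ← Finset.prod_pow_eq_pow_sum]
      exact Ideal.prod_mem_prod fun i _ => Ideal.pow_mem_pow (Ideal.subset_span (Set.mem_range_self i)) _
    · exact zero_mem _
  · rw [show R.coeff e = (R - t).coeff e + t.coeff e by rw [coeff_sub]; ring]
    exact add_mem (Submodule.mem_sup_left (hu e))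
      (Submodule.mem_sup_right (mem_map_C_iff.mp (trivRel_le_map_C g ht) e))

include hg in
theorem inter_pow {d : ℕ} {x : A} (hx : x ∈ J) (hxd : x ∈ (J ⊔ Ideal.span (Set.range g)) ^ (d + 1)) :
    x ∈ J * (J ⊔ Ideal.span (Set.range g)) ^ d := by
  obtain ⟨y, hy, z, hz, hyz⟩ := Submodule.mem_sup.mp (sup_pow_le J (Ideal.span (Set.range g)) d hxd)
  obtain ⟨R, hR, hRz⟩ := exists_homogeneous_of_mem_span_pow g _ hz
  have hzJ : eval g R ∈ J := by
    rw [hRz, show z = x - y by rw [← hyz]; ring]
    exact sub_mem hx (SetLike.le_def.mp Ideal.mul_le_left hy)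
  rw [← hyz, ← hRz]
  exact add_mem hy (Ideal.mul_mono_right
    ((Ideal.pow_le_pow_right d.le_succ).trans (Ideal.pow_right_mono le_sup_right _)) (rel_mod J g hg hR hzJ).1)

end

theorem exists_coeff_mem (f : Fin n → A) (L : Ideal A) (j : ℕ) {x : A}
    (hx : x ∈ L * Ideal.span (Set.range f) ^ j) :
    ∃ Z : MvPolynomial (Fin n) A, Z.IsHomogeneous j ∧ (∀ e, Z.coeff e ∈ L) ∧ eval f Z = x := by
  induction hx using Submodule.mul_induction_on' with
  | mem_mul_mem a ha b hb =>
    obtain ⟨P, hP, rfl⟩ := exists_homogeneous_of_mem_span_pow f j hb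
    exact ⟨C a * P, hP.C_mul a, fun e => by rw [coeff_C_mul]; exact Ideal.mul_mem_right _ _ ha, by simp⟩
  | add a _ b _ ha hb =>
    obtain ⟨P, hP, hPc, rfl⟩ := ha
    obtain ⟨Q, hQ, hQc, rfl⟩ := hb
    exact ⟨P + Q, hP.add hQ, fun e => by rw [coeff_add]; exact add_mem (hPc e) (hQc e), map_add _ _ _⟩

variable (f : Fin n → A) (g : Fin m → A) (hf : CAlgX.IsQuasiRegular f)
  (hg : CAlgX.IsH1Regular fun i => Ideal.Quotient.mk (Ideal.span (Set.range f)) (g i))

include hf hg in
theorem pow_inter_pow : ∀ (j d : ℕ) {x : A}, x ∈ Ideal.span (Set.range f) ^ j →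
    x ∈ (Ideal.span (Set.range f) ⊔ Ideal.span (Set.range g)) ^ (j + d) →
    x ∈ (Ideal.span (Set.range f) ⊔ Ideal.span (Set.range g)) ^ d * Ideal.span (Set.range f) ^ j := by
  intro j
  induction j with
  | zero => intro d x _ hx; simpa using hx
  | succ j ih =>
    intro d x hxj hxN
    have h1 := ih (d + 1) (Ideal.pow_le_pow_right j.le_succ hxj) (by rwa [show j + (d + 1) = j + 1 + d by omega])
    obtain ⟨Z, hZ, hZc, rfl⟩ := exists_coeff_mem f _ j h1
    have hZJ : ∀ e, Z.coeff e ∈ Ideal.span (Set.range f) := hf j Z hZ hxj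
    have := eval_mem_mul_span_pow f _ hZ fun e => inter_pow _ g hg (hZJ e) (hZc e)
    refine SetLike.le_def.mp (le_of_eq ?_) this
    ring

/-- Product of powers of the entries of `f`. -/
def mon {k : ℕ} (f : Fin k → A) (a : Fin k →₀ ℕ) : A := ∏ i ∈ a.support, f i ^ a i

theorem mon_mem_pow {k : ℕ} (f : Fin k → A) (a : Fin k →₀ ℕ) :
    mon f a ∈ Ideal.span (Set.range f) ^ Finsupp.degree a := by
  rw [Finsupp.degree_apply, ← Finset.prod_pow_eq_pow_sum]
  exact Ideal.prod_mem_prod fun i _ => Ideal.pow_mem_pow (Ideal.subset_span (Set.mem_range_self i)) _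

include hf hg in
theorem coeff_mem_sup (N : ℕ) : ∀ (k : ℕ) (s : Finset (Fin n →₀ ℕ)) (R : (Fin n →₀ ℕ) → MvPolynomial (Fin m) A),
    (∀ a ∈ s, Finsupp.degree a ≤ N ∧ N + 1 ≤ Finsupp.degree a + k ∧ (R a).IsHomogeneous (N - Finsupp.degree a)) →
    ∑ a ∈ s, mon f a * eval g (R a) ∈ (Ideal.span (Set.range f) ⊔ Ideal.span (Set.range g)) ^ (N + 1) →
    ∀ a ∈ s, ∀ e, (R a).coeff e ∈ Ideal.span (Set.range f) ⊔ Ideal.span (Set.range g) := by
  classical
  intro k
  induction k with
  | zero => intro s R hs _ a ha; have := hs a ha; omega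
  | succ k ih =>
    intro s R hs htot
    by_cases hk : N + 1 ≤ k
    · exact ih s R (fun a ha => ⟨(hs a ha).1, by omega, (hs a ha).2.2⟩) htot
    obtain ⟨j, rfl⟩ : ∃ j, N = j + k := ⟨N - k, by omega⟩
    let s₁ := s.filter fun a => Finsupp.degree a = j
    let s₂ := s.filter fun a => ¬ Finsupp.degree a = j
    have hs₂ : ∀ a ∈ s₂, j + 1 ≤ Finsupp.degree a := by
      intro a ha
      obtain ⟨ha, hne⟩ := Finset.mem_filter.mp ha
      have := hs a ha
      omega
    have hsplit : ∑ a ∈ s₁, mon f a * eval g (R a) + ∑ a ∈ s₂, mon f a * eval g (R a) =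
        ∑ a ∈ s, mon f a * eval g (R a) := Finset.sum_filter_add_sum_filter_not s _ _
    have htotJ : ∑ a ∈ s, mon f a * eval g (R a) ∈ Ideal.span (Set.range f) ^ j := by
      refine sum_mem fun a ha => Ideal.mul_mem_right _ _ ?_
      exact Ideal.pow_le_pow_right (by have := hs a ha; omega) (mon_mem_pow f a)
    obtain ⟨Z, hZ, hZc, hZe⟩ := exists_coeff_mem f _ j
      (pow_inter_pow f g hf hg j (k + 1) htotJ (by rwa [show j + (k + 1) = j + k + 1 by omega]))
    let P₁ : MvPolynomial (Fin n) A := ∑ a ∈ s₁, monomial a (eval g (R a))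
    have hP₁ : P₁.IsHomogeneous j := by
      refine IsHomogeneous.sum _ _ _ fun a ha => isHomogeneous_monomial _ ?_
      exact (Finset.mem_filter.mp ha).2
    have hP₁c : ∀ a ∈ s₁, P₁.coeff a = eval g (R a) := by
      intro a ha
      simp [P₁, coeff_sum, coeff_monomial, Finset.sum_ite_eq', ha]
    have hP₁e : eval f P₁ = ∑ a ∈ s₁, mon f a * eval g (R a) := by
      rw [map_sum]
      refine Finset.sum_congr rfl fun a _ => ?_
      rw [eval_monomial, mul_comm]; rfl
    have hdiff : ∀ a, (P₁ - Z).coeff a ∈ Ideal.span (Set.range f) := by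
      refine hf j _ (hP₁.sub hZ) ?_
      rw [map_sub, hP₁e, hZe, ← hsplit, sub_add_cancel_left, neg_mem_iff]
      exact sum_mem fun a ha => Ideal.mul_mem_right _ _ (Ideal.pow_le_pow_right (hs₂ a ha) (mon_mem_pow f a))
    have h₁ : ∀ a ∈ s₁, ∀ e, (R a).coeff e ∈ Ideal.span (Set.range f) ⊔ Ideal.span (Set.range g) := by
      intro a ha
      obtain ⟨has, had⟩ := Finset.mem_filter.mp ha
      have hhom : (R a).IsHomogeneous k := by
        have := (hs a has).2.2
        rwa [had, Nat.add_sub_cancel_left] at this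
      have hz : Z.coeff a ∈ Ideal.span (Set.range f) ⊔ Ideal.span (Set.range g) ^ (k + 1) := by
        exact ((sup_pow_le (Ideal.span (Set.range f)) (Ideal.span (Set.range g)) k).trans
          (sup_le_sup_right Ideal.mul_le_left _)) (hZc a)
      obtain ⟨y, hy, z, hz', hyz⟩ := Submodule.mem_sup.mp hz
      obtain ⟨W, hW, hWc, hWe⟩ := exists_lower g k hz'
      have hmem : eval g (R a - W) ∈ Ideal.span (Set.range f) := by
        rw [map_sub, hWe, ← hP₁c a ha, show P₁.coeff a - z = (P₁ - Z).coeff a + y by rw [coeff_sub, ← hyz]; ring]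
        exact add_mem (hdiff a) hy
      intro e
      have := (rel_mod _ g hg (hhom.sub hW) hmem).2 e
      rw [coeff_sub] at this
      exact (Submodule.sub_mem_iff_left _ (Submodule.mem_sup_right (hWc e))).mp this
    have hlow : ∑ a ∈ s₁, mon f a * eval g (R a) ∈
        (Ideal.span (Set.range f) ⊔ Ideal.span (Set.range g)) ^ (j + k + 1) := by
      refine sum_mem fun a ha => ?_
      obtain ⟨has, had⟩ := Finset.mem_filter.mp ha
      have hhom : (R a).IsHomogeneous k := by
        have := (hs a has).2.2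
        rwa [had, Nat.add_sub_cancel_left] at this
      rw [show j + k + 1 = j + (1 + k) by omega, pow_add, pow_add]
      refine Ideal.mul_mem_mul (Ideal.pow_right_mono le_sup_left _ (had ▸ mon_mem_pow f a)) ?_
      rw [pow_one]
      exact Ideal.mul_mono_right (Ideal.pow_right_mono le_sup_right _) (eval_mem_mul_span_pow g _ hhom (h₁ a ha))
    intro a ha
    by_cases had : Finsupp.degree a = j
    · exact h₁ a (Finset.mem_filter.mpr ⟨ha, had⟩)
    · refine ih s₂ R (fun b hb => ?_) ?_ a (Finset.mem_filter.mpr ⟨ha, had⟩)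
      · have hb' := hs b (Finset.mem_filter.mp hb).1
        have := hs₂ b hb
        exact ⟨hb'.1, by omega, hb'.2.2⟩
      · have := sub_mem htot hlow
        rwa [← hsplit, add_sub_cancel_left] at this

include hf hg in
theorem isQuasiRegular_append : CAlgX.IsQuasiRegular (Fin.append f g) := by
  classical
  intro N P hP hmem d
  have hrange : Ideal.span (Set.range (Fin.append f g)) = Ideal.span (Set.range f) ⊔ Ideal.span (Set.range g) := by
    rw [← Ideal.span_union]
    congr 1
    ext x
    simp only [Set.mem_range, Set.mem_union]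
    constructor
    · rintro ⟨i, rfl⟩
      induction i using Fin.addCases with
      | left i => exact Or.inl ⟨i, (Fin.append_left f g i).symm⟩
      | right i => exact Or.inr ⟨i, (Fin.append_right f g i).symm⟩
    · rintro (⟨i, rfl⟩ | ⟨i, rfl⟩)
      · exact ⟨_, Fin.append_left f g i⟩
      · exact ⟨_, Fin.append_right f g i⟩
  rw [hrange] at hmem ⊢
  let lft : (Fin (n + m) →₀ ℕ) → (Fin n →₀ ℕ) :=
    fun e => Finsupp.equivFunOnFinite.symm fun i => e (Fin.castAdd m i)
  let rgt : (Fin (n + m) →₀ ℕ) → (Fin m →₀ ℕ) :=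
    fun e => Finsupp.equivFunOnFinite.symm fun i => e (Fin.natAdd n i)
  have hdeg : ∀ e, Finsupp.degree e = Finsupp.degree (lft e) + Finsupp.degree (rgt e) := by
    intro e
    simp only [Finsupp.degree_eq_sum, Fin.sum_univ_add]
    rfl
  have hmon : ∀ e, ∏ i ∈ e.support, Fin.append f g i ^ e i = mon f (lft e) * mon g (rgt e) := by
    intro e
    have h : ∀ {r : ℕ} (F : Fin r → A) (c : Fin r →₀ ℕ), ∏ i ∈ c.support, F i ^ c i = ∏ i, F i ^ c i :=
      fun F c => Finset.prod_subset (Finset.subset_univ _) fun i _ hi => by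
        rw [Finsupp.notMem_support_iff.mp hi, pow_zero]
    rw [mon, mon, h, h, h, Fin.prod_univ_add]
    simp only [Fin.append_left, Fin.append_right]
    rfl
  let R : (Fin n →₀ ℕ) → MvPolynomial (Fin m) A :=
    fun a => ∑ e ∈ P.support.filter (fun e => lft e = a), monomial (rgt e) (P.coeff e)
  by_cases hd : d ∈ P.support
  swap
  · rw [notMem_support_iff.mp hd]; exact zero_mem _
  have hdegN : ∀ e ∈ P.support, Finsupp.degree e = N := by
    intro e he
    rw [Finsupp.degree_eq_weight_one]
    exact hP (mem_support_iff.mp he)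
  have key := coeff_mem_sup f g hf hg N (N + 1) (P.support.image lft) R ?_ ?_ (lft d)
    (Finset.mem_image_of_mem _ hd) (rgt d)
  · suffices hcd : (R (lft d)).coeff (rgt d) = P.coeff d by rwa [hcd] at key
    show coeff (rgt d) (∑ e ∈ P.support.filter (fun e => lft e = lft d), monomial (rgt e) (P.coeff e)) = _
    rw [coeff_sum, Finset.sum_eq_single_of_mem d (show d ∈ P.support.filter (fun e => lft e = lft d) from Finset.mem_filter.mpr ⟨hd, rfl⟩), coeff_monomial, if_pos rfl]
    intro e he hne
    rw [coeff_monomial, if_neg]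
    intro hr
    refine hne (Finsupp.ext fun i => ?_)
    induction i using Fin.addCases with
    | left i => exact DFunLike.congr_fun (Finset.mem_filter.mp he).2 i
    | right i => exact DFunLike.congr_fun hr i
  · intro a ha
    obtain ⟨e, he, rfl⟩ := Finset.mem_image.mp ha
    have h1 := hdegN e he
    have h2 := hdeg e
    refine ⟨by omega, by omega, IsHomogeneous.sum _ _ _ fun e' he' => isHomogeneous_monomial _ ?_⟩
    obtain ⟨he', heq⟩ := Finset.mem_filter.mp he'
    have h3 := hdegN e' he'
    have h4 := hdeg e'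
    rw [heq] at h4
    omega
  · convert hmem using 1
    rw [eval_eq, ← Finset.sum_fiberwise_of_maps_to (fun e he => Finset.mem_image_of_mem lft he)]
    refine Finset.sum_congr rfl fun a _ => ?_
    simp only [R, map_sum, Finset.mul_sum]
    refine Finset.sum_congr rfl fun e he => ?_
    rw [eval_monomial, hmon, (Finset.mem_filter.mp he).2]
    simp only [Finsupp.prod, mon]
    ring

end Groth.L02.QuasiRegAppend
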