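import Groth.Agent.L02.GorensteinReflexive
import Mathlib.RingTheory.LocalProperties.Reduced
import Mathlib.Algebra.Module.FinitePresentation
import Mathlib.RingTheory.Filtration
import Mathlib.RingTheory.Artinian.Module
import Mathlib.RingTheory.Ideal.AssociatedPrime.Basic
import Mathlib.RingTheory.Ideal.MinimalPrime.Localization

/-!
Reflexive modules with trivial endomorphism ring over one-dimensional reduced Gorenstein rings.
-/

set_option autoImplicit false
universe u

open IsLocalRing

namespace Groth.L02.RankOneEnd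

section Local

variable {A : Type u} [CommRing A] [IsLocalRing A] {N : Type u} [AddCommGroup N] [Module A N]
  (hend : Function.Bijective (algebraMap A (Module.End A N)))

include hend

omit [IsLocalRing A] in
theorem faithful {a : A} (ha : ∀ x : N, a • x = 0) : a = 0 :=
  hend.1 (by rw [map_zero]; exact LinearMap.ext fun x => by simpa using ha x)

theorem exists_equiv_of_functional {f : N →ₗ[A] A} {x : N} (hf : IsUnit (f x)) : Nonempty (N ≃ₗ[A] A) := by
  let e : N := (↑hf.unit⁻¹ : A) • x
  have he : f e = 1 := by rw [map_smul, smul_eq_mul, IsUnit.val_inv_mul]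
  -- the projection `y ↦ f y • e` is a scalar, necessarily `1`
  obtain ⟨c, hc⟩ := hend.2 (f.smulRight e)
  have hc1 : c = 1 := by
    have h1 := LinearMap.congr_fun hc e
    simp only [Module.algebraMap_end_apply, LinearMap.smulRight_apply, he, one_smul] at h1
    have h2 := congrArg f h1
    rwa [map_smul, he, smul_eq_mul, mul_one] at h2
  refine ⟨{ f with
    invFun := fun a => a • e
    left_inv := fun y => ?_
    right_inv := fun a => ?_ }⟩
  · show f y • e = y
    have h1 := LinearMap.congr_fun hc y
    rw [hc1] at h1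
    simpa using h1.symm
  · show f (a • e) = a
    rw [map_smul, he, smul_eq_mul, mul_one]

variable [IsNoetherianRing A] [Module.Finite A N] [Module.IsReflexive A N]

theorem exists_functional_unit [IsReduced A] (hd : ringKrullDim A ≤ 1) :
    ∃ (f : N →ₗ[A] A) (x : N), IsUnit (f x) := by
  classical
  by_contra! hall
  haveI : Nontrivial N := by
    by_contra h
    rw [not_nontrivial_iff_subsingleton] at h
    exact one_ne_zero (faithful hend fun x => Subsingleton.elim ((1 : A) • x) 0)
  obtain ⟨x₀, hx₀⟩ := exists_ne (0 : N)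
  have hsep : ∀ y : N, (∀ f : N →ₗ[A] A, f y = 0) → y = 0 := fun y hy =>
    (Module.bijective_dual_eval A N).1 (by rw [map_zero]; exact LinearMap.ext hy)
  have hm : ∀ (f : N →ₗ[A] A) (x : N), f x ∈ maximalIdeal A := fun f x => (mem_maximalIdeal _).mpr (hall f x)
  by_cases hfield : maximalIdeal A = ⊥
  · exact hx₀ (hsep x₀ fun f => by simpa [hfield] using hm f x₀)
  -- a nonzerodivisor in the maximal ideal
  have hfin : (minimalPrimes A).Finite := minimalPrimes.finite_of_isNoetherianRing A
  obtain ⟨x, hxm, hx⟩ : ∃ x ∈ maximalIdeal A, x ∈ nonZeroDivisors A := by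
    by_contra! h
    have hsub : (maximalIdeal A : Set A) ⊆ ⋃ P ∈ (hfin.toFinset : Set (Ideal A)), (P : Set A) := by
      intro x hx
      by_contra hs
      simp only [Set.mem_iUnion, not_exists, Finset.mem_coe, Set.Finite.mem_toFinset] at hs
      refine h x hx (mem_nonZeroDivisors_iff_right.mpr fun z hz => IsNilpotent.eq_zero ?_)
      rw [← mem_nilradical, nilradical_eq_sInf, Ideal.mem_sInf]
      intro Q hQ
      haveI : Q.IsPrime := hQ
      obtain ⟨Q', hQ', hle⟩ := Ideal.exists_minimalPrimes_le (bot_le : (⊥ : Ideal A) ≤ Q)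
      haveI := hQ'.1.1
      exact hle ((Ideal.IsPrime.mem_or_mem (I := Q') inferInstance (hz ▸ Q'.zero_mem : z * x ∈ Q')).resolve_right
        (hs Q' hQ'))
    obtain ⟨P, hP, hle⟩ := (Ideal.subset_union_prime ⊥ ⊥
      fun P hP _ _ => ((Set.Finite.mem_toFinset _).mp hP).1.1).mp hsub
    rw [Set.Finite.mem_toFinset] at hP
    have hmax : maximalIdeal A ∈ minimalPrimes A := le_antisymm (le_maximalIdeal hP.1.1.ne_top) hle ▸ hP
    refine hfield (le_bot_iff.mp fun z hz => ?_)
    rw [Ideal.mem_bot]
    refine IsNilpotent.eq_zero ?_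
    rw [← mem_nilradical, nilradical_eq_sInf, Ideal.mem_sInf]
    intro Q hQ
    haveI : Q.IsPrime := hQ
    exact hmax.2 ⟨hQ, bot_le⟩ (le_maximalIdeal hQ.ne_top) hz
  have hregx : ∀ a b : A, x * a = x * b → a = b := fun a b h =>
    (isLeftRegular_iff_right_eq_zero_of_mul.mpr fun c hc => (mem_nonZeroDivisors_iff_left.mp hx) c hc) h
  -- `y ∉ (x)` with `m y ⊆ (x)`
  have hI : Ideal.span {x} ≤ maximalIdeal A := (Ideal.span_singleton_le_iff_mem _).mpr hxm
  haveI : Nontrivial (A ⧸ Ideal.span {x}) :=
    Ideal.Quotient.nontrivial_iff.mpr (ne_top_of_le_ne_top (maximalIdeal.isMaximal A).ne_top hI)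
  obtain ⟨P, hP⟩ := associatedPrimes.nonempty A (A ⧸ Ideal.span {x})
  obtain ⟨hPp, z, hz⟩ := isAssociatedPrime_iff.mp hP
  haveI := hPp
  have hxP : x ∈ P := by
    rw [hz, Submodule.mem_colon_singleton, Submodule.mem_bot]
    obtain ⟨w, rfl⟩ := Ideal.Quotient.mk_surjective z
    show (Ideal.Quotient.mk _ (x * w) : A ⧸ Ideal.span {x}) = 0
    rw [Ideal.Quotient.eq_zero_iff_mem]
    exact Ideal.mul_mem_right _ _ (Ideal.mem_span_singleton_self x)
  have hPm : P = maximalIdeal A := by
    by_contra hne
    have hlt : P < maximalIdeal A := lt_of_le_of_ne (le_maximalIdeal hPp.ne_top) hne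
    obtain ⟨Q, hQ, hQP⟩ := Ideal.exists_minimalPrimes_le (bot_le : (⊥ : Ideal A) ≤ P)
    haveI := hQ.1.1
    have hQlt : Q < P := by
      refine lt_of_le_of_ne hQP ?_
      rintro rfl
      obtain ⟨y, hy, hy'⟩ : ∃ y, y ∉ Q ∧ x * y = 0 := by
        have hmem : x ∈ ⋃ p ∈ (⊥ : Ideal A).minimalPrimes, (p : Set A) := Set.mem_biUnion hQ hxP
        rw [Ideal.iUnion_minimalPrimes] at hmem
        obtain ⟨y, hy, hxy⟩ := hmem
        rw [(Ideal.isRadical_bot_iff.mpr ‹IsReduced A›).radical] at hy hxy
        exact absurd ((mem_nonZeroDivisors_iff_left.mp hx) y hxy) hy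
      exact hy ((mem_nonZeroDivisors_iff_left.mp hx) y hy' ▸ Q.zero_mem)
    have h2 : (2 : WithBot ℕ∞) ≤ ringKrullDim A := by
      have := Order.LTSeries.length_le_krullDim
        (((RelSeries.singleton _ (⟨Q, hQ.1.1⟩ : PrimeSpectrum A)).snoc ⟨P, hPp⟩ hQlt).snoc
          ⟨maximalIdeal A, inferInstance⟩ (show (RelSeries.last _ : PrimeSpectrum A) < _ by rw [RelSeries.last_snoc]; exact hlt))
      simpa [ringKrullDim] using this
    exact absurd (h2.trans hd) (by decide)
  obtain ⟨y, rfl⟩ := Ideal.Quotient.mk_surjective z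
  have hyx : ∀ a ∈ maximalIdeal A, ∃ b, a * y = x * b := by
    intro a ha
    rw [← hPm, hz, Submodule.mem_colon_singleton, Submodule.mem_bot] at ha
    have ha' : (Ideal.Quotient.mk _ (a * y) : A ⧸ Ideal.span {x}) = 0 := ha
    rw [Ideal.Quotient.eq_zero_iff_mem, Ideal.mem_span_singleton] at ha'
    exact ha'
  have hynot : y ∉ Ideal.span {x} := by
    intro hy
    refine hPp.ne_top ((Ideal.eq_top_iff_one _).mpr ?_)
    rw [hz, Submodule.mem_colon_singleton, one_smul, Submodule.mem_bot, Ideal.Quotient.eq_zero_iff_mem]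
    exact hy
  choose φ hφ using hyx
  by_cases hunit : ∃ a, ∃ ha : a ∈ maximalIdeal A, IsUnit (φ a ha)
  · -- the maximal ideal is principal
    obtain ⟨a, ha, hu⟩ := hunit
    have hprin : ∀ b ∈ maximalIdeal A, ∃ d, b = a * d := by
      intro b hb
      refine ⟨φ b hb * ↑hu.unit⁻¹, hregx _ _ ?_⟩
      have h1 := hφ a ha
      have h2 := hφ b hb
      have h3 : φ a ha * ↑hu.unit⁻¹ = 1 := IsUnit.mul_val_inv hu
      linear_combination (a * ↑hu.unit⁻¹) * h2 - (x * b) * h3 - (b * ↑hu.unit⁻¹) * h1
    have hareg : ∀ c, a * c = 0 → c = 0 := by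
      intro c hc
      obtain ⟨d, hd⟩ := hprin x hxm
      refine (mem_nonZeroDivisors_iff_left.mp hx) c ?_
      rw [hd, mul_right_comm, hc, zero_mul]
    have hdiv : ∀ (k : ℕ) (f : N →ₗ[A] A) (v : N), f v ∈ Ideal.span {a} ^ k := by
      intro k
      induction k with
      | zero => intro f v; simp
      | succ k ih =>
        intro f v
        choose g hg using fun w => hprin (f w) (hm f w)
        let g' : N →ₗ[A] A :=
          { toFun := g
            map_add' := fun p q => sub_eq_zero.mp (hareg _ (by rw [mul_sub, mul_add, ← hg, ← hg, ← hg, map_add, sub_self]))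
            map_smul' := fun c p => sub_eq_zero.mp (hareg _ (by
              rw [mul_sub, ← hg, map_smul, RingHom.id_apply, smul_eq_mul, smul_eq_mul, mul_left_comm, ← hg, sub_self])) }
        rw [hg v, pow_succ']
        exact Ideal.mul_mem_mul (Ideal.mem_span_singleton_self a) (ih g' v)
    refine hx₀ (hsep x₀ fun f => ?_)
    rw [← Ideal.mem_bot, ← Ideal.iInf_pow_eq_bot_of_isLocalRing (Ideal.span {a})
      (ne_top_of_le_ne_top (maximalIdeal.isMaximal A).ne_top ((Ideal.span_singleton_le_iff_mem _).mpr ha)),
      Submodule.mem_iInf]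
    exact fun k => hdiv k f x₀
  · push Not at hunit
    let Φ : N → Module.Dual A (Module.Dual A N) := fun v =>
      { toFun := fun f => φ (f v) (hm f v)
        map_add' := fun f g => hregx _ _ (by
          rw [mul_add, ← hφ, ← hφ, ← hφ, LinearMap.add_apply, add_mul])
        map_smul' := fun c f => hregx _ _ (by
          rw [RingHom.id_apply, smul_eq_mul, ← hφ, LinearMap.smul_apply, smul_eq_mul]
          linear_combination c * hφ (f v) (hm f v)) }
    choose w hw using fun v => (Module.bijective_dual_eval A N).2 (Φ v)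
    have hw' : ∀ v (f : N →ₗ[A] A), x * f (w v) = f v * y := fun v f => by
      rw [show f (w v) = φ (f v) (hm f v) from LinearMap.congr_fun (hw v) f, ← hφ]
    let ψ : Module.End A N :=
      { toFun := w
        map_add' := fun p q => sub_eq_zero.mp (hsep _ fun f => (mem_nonZeroDivisors_iff_left.mp hx) _ (by
          rw [map_sub, map_add, mul_sub, mul_add, hw', hw', hw', map_add]; ring))
        map_smul' := fun c p => sub_eq_zero.mp (hsep _ fun f => (mem_nonZeroDivisors_iff_left.mp hx) _ (by
          simp only [RingHom.id_apply, map_sub, map_smul, smul_eq_mul, mul_sub]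
          rw [hw', mul_left_comm x c, hw', map_smul, smul_eq_mul]; ring)) }
    obtain ⟨c, hc⟩ := hend.2 ψ
    refine hynot (Ideal.mem_span_singleton.mpr ⟨c, ?_⟩)
    rw [← sub_eq_zero]
    refine faithful hend fun v => hsep _ fun f => ?_
    have h1 : c • v = w v := by simpa [ψ] using LinearMap.congr_fun hc v
    rw [map_smul, smul_eq_mul, sub_mul, mul_comm y, ← hw', ← h1, map_smul, smul_eq_mul]
    ring

end Local

section Global

variable {S : Type u} [CommRing S] [IsNoetherianRing S] {M : Type u} [AddCommGroup M] [Module S M] [Module.Finite S M]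

theorem bijective_of_locally_free
    (h : ∀ (P : Ideal S) (_ : P.IsPrime),
      Nonempty (LocalizedModule P.primeCompl M ≃ₗ[Localization.AtPrime P] Localization.AtPrime P)) :
    Function.Bijective (algebraMap S (Module.End S M)) := by
  classical
  constructor
  · rw [injective_iff_map_eq_zero]
    intro s hs
    by_contra hs0
    let I : Ideal S := LinearMap.ker (LinearMap.toSpanSingleton S S s)
    have hI : I ≠ ⊤ := fun hI => hs0 (by simpa [I] using (Ideal.eq_top_iff_one _).mp hI)
    obtain ⟨P, hP, hle⟩ := Ideal.exists_le_maximal I hI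
    obtain ⟨e⟩ := h P hP.isPrime
    obtain ⟨m, hm⟩ := e.symm.surjective (e.symm 1)
    obtain ⟨⟨v, t⟩, hv⟩ := IsLocalizedModule.mk'_surjective P.primeCompl
      (LocalizedModule.mkLinearMap P.primeCompl M) (e.symm 1)
    have hzero : algebraMap S (Localization.AtPrime P) s • e.symm 1 = 0 := by
      rw [algebraMap_smul, ← hv, Function.uncurry_apply_pair, ← IsLocalizedModule.mk'_smul,
        show s • v = 0 by simpa using LinearMap.congr_fun hs v, IsLocalizedModule.mk'_zero]
    have h1 := congrArg e hzero
    rw [map_smul, LinearEquiv.apply_symm_apply, map_zero, smul_eq_mul, mul_one] at h1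
    obtain ⟨c, hc⟩ := (IsLocalization.map_eq_zero_iff P.primeCompl _ _).mp h1
    exact c.2 (hle (by simpa [I] using hc))
  · intro φ
    let I : Ideal S :=
      { carrier := {t | ∃ c, t • φ = algebraMap S (Module.End S M) c}
        add_mem' := by
          rintro t t' ⟨c, hc⟩ ⟨c', hc'⟩
          exact ⟨c + c', by rw [add_smul, hc, hc', map_add]⟩
        zero_mem' := ⟨0, by simp⟩
        smul_mem' := by
          rintro r t ⟨c, hc⟩
          exact ⟨r * c, by rw [smul_eq_mul, mul_smul, hc, map_mul, Algebra.smul_def]⟩ }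
    suffices hI : I = ⊤ by
      obtain ⟨c, hc⟩ := (Ideal.eq_top_iff_one _).mp hI
      exact ⟨c, by rw [← hc, one_smul]⟩
    by_contra hI
    obtain ⟨P, hP, hle⟩ := Ideal.exists_le_maximal I hI
    haveI := hP.isPrime
    obtain ⟨e⟩ := h P hP.isPrime
    let Lm := LocalizedModule.mkLinearMap P.primeCompl M
    let φP := LocalizedModule.map P.primeCompl φ
    obtain ⟨⟨c, t⟩, hct⟩ := IsLocalization.mk'_surjective P.primeCompl (e (φP (e.symm 1)))
    have hmul : ∀ v, Lm ((t : S) • φ v - c • v) = 0 := by
      intro v
      have h1 : φP (Lm v) = e (Lm v) • φP (e.symm 1) := by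
        rw [← map_smul]
        congr 1
        apply e.injective
        rw [map_smul, LinearEquiv.apply_symm_apply, smul_eq_mul, mul_one]
      have h2 : φP (Lm v) = Lm (φ v) := by simp [φP, Lm, LocalizedModule.map_mk]
      have he : ∀ (r : S) z, e (r • z) = algebraMap S (Localization.AtPrime P) r * e z := fun r z => by
        rw [← algebraMap_smul (Localization.AtPrime P) r z, map_smul, smul_eq_mul]
      apply e.injective
      rw [map_sub, map_smul, map_smul, map_sub, map_zero, he, he, ← h2, h1, map_smul, smul_eq_mul, sub_eq_zero]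
      have h3 := IsLocalization.mk'_spec' (Localization.AtPrime P) c t
      change IsLocalization.mk' _ c t = _ at hct
      rw [hct] at h3
      linear_combination e (Lm v) * h3
    obtain ⟨q, g, hg⟩ := Module.Finite.exists_fin (R := S) (M := M)
    choose u hu using fun i => (IsLocalizedModule.eq_zero_iff P.primeCompl Lm).mp (hmul (g i))
    let U : S := ∏ i, (u i : S)
    have hmem : U * t ∈ I := by
      refine ⟨U * c, LinearMap.ext fun v => ?_⟩
      have hle2 : ⊤ ≤ LinearMap.ker ((U * (t : S)) • φ - algebraMap S (Module.End S M) (U * c)) := by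
        rw [← hg, Submodule.span_le]
        rintro _ ⟨i, rfl⟩
        obtain ⟨d, hd⟩ : (u i : S) ∣ U := Finset.dvd_prod_of_mem _ (Finset.mem_univ i)
        show (U * (t : S)) • φ (g i) - (U * c) • g i = 0
        rw [mul_smul, mul_smul, ← smul_sub, hd, mul_comm, mul_smul]
        exact (congrArg (d • ·) (hu i)).trans (smul_zero d)
      exact sub_eq_zero.mp (hle2 (Submodule.mem_top (x := v)))
    exact (hP.isPrime.mem_or_mem (hle hmem)).elim
      (fun h => (prod_mem fun i _ => (u i).2 : U ∈ P.primeCompl) h) t.2

theorem end_localized (hend : Function.Bijective (algebraMap S (Module.End S M))) (P : Ideal S) [P.IsPrime] :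
    Function.Bijective (algebraMap (Localization.AtPrime P)
      (Module.End (Localization.AtPrime P) (LocalizedModule P.primeCompl M))) := by
  classical
  haveI : Module.FinitePresentation S M := Module.finitePresentation_of_finite S M
  let Lm := LocalizedModule.mkLinearMap P.primeCompl M
  constructor
  · rw [injective_iff_map_eq_zero]
    intro a ha
    obtain ⟨⟨c, t⟩, rfl⟩ := IsLocalization.mk'_surjective P.primeCompl a
    change algebraMap _ _ (IsLocalization.mk' _ c t) = 0 at ha
    show IsLocalization.mk' _ c t = 0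
    have h0 : ∀ v, Lm (c • v) = 0 := fun v => by
      have h1 : IsLocalization.mk' (Localization.AtPrime P) c t • Lm v = 0 := LinearMap.congr_fun ha (Lm v)
      rw [map_smul, ← algebraMap_smul (Localization.AtPrime P) c (Lm v),
        ← IsLocalization.mk'_spec' (Localization.AtPrime P) c t, mul_smul, h1, smul_zero]
    obtain ⟨q, g, hg⟩ := Module.Finite.exists_fin (R := S) (M := M)
    choose u hu using fun i => (IsLocalizedModule.eq_zero_iff P.primeCompl Lm).mp (h0 (g i))
    refine (IsLocalization.mk'_eq_zero_iff c t).mpr ⟨∏ i, u i, ?_⟩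
    apply hend.1
    rw [map_zero]
    refine LinearMap.ext_on_range hg fun i => ?_
    obtain ⟨d, hd⟩ : u i ∣ ∏ i, u i := Finset.dvd_prod_of_mem _ (Finset.mem_univ i)
    show (((∏ i, u i : P.primeCompl) : S) * c) • g i = 0
    rw [hd, Submonoid.coe_mul, mul_comm (u i : S), mul_assoc, mul_smul, mul_smul]
    exact (congrArg ((d : S) • ·) (hu i)).trans (smul_zero _)
  · intro ψ
    obtain ⟨l, t, hl⟩ := Module.FinitePresentation.exists_lift_of_isLocalizedModule P.primeCompl Lm
      (ψ.restrictScalars S ∘ₗ Lm)
    obtain ⟨c, hc⟩ := hend.2 l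
    refine ⟨IsLocalization.mk' _ c t, LinearMap.ext fun z => ?_⟩
    obtain ⟨⟨v, s⟩, rfl⟩ := IsLocalizedModule.mk'_surjective P.primeCompl Lm z
    show IsLocalization.mk' (Localization.AtPrime P) c t • IsLocalizedModule.mk' Lm v s = ψ (IsLocalizedModule.mk' Lm v s)
    have h1 : c • Lm v = (t : S) • ψ (Lm v) := by
      have := LinearMap.congr_fun hl v
      simp only [LinearMap.comp_apply, ← hc, Module.algebraMap_end_apply, map_smul] at this
      exact this
    have hs : IsUnit (algebraMap S (Localization.AtPrime P) s * algebraMap S (Localization.AtPrime P) t) :=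
      (IsLocalization.map_units _ s).mul (IsLocalization.map_units _ t)
    refine hs.smul_left_cancel.mp ?_
    rw [smul_smul, mul_assoc, IsLocalization.mk'_spec', mul_comm (algebraMap S (Localization.AtPrime P) s), mul_smul,
      algebraMap_smul, algebraMap_smul, mul_comm (algebraMap S (Localization.AtPrime P) s), mul_smul, algebraMap_smul,
      algebraMap_smul, ← LinearMap.map_smul_of_tower ψ (s : S), ← Submonoid.smul_def, IsLocalizedModule.mk'_cancel']
    exact h1

theorem injective_eval_localized (hM : Function.Injective (Module.Dual.eval S M)) (P : Ideal S) [P.IsPrime] :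
    Function.Injective (Module.Dual.eval (Localization.AtPrime P) (LocalizedModule P.primeCompl M)) := by
  obtain ⟨r, ψ, hψ⟩ := GorensteinReflexive.exists_embedding hM
  rw [injective_iff_map_eq_zero]
  intro z hz
  obtain ⟨⟨v, s⟩, rfl⟩ := IsLocalizedModule.mk'_surjective P.primeCompl (LocalizedModule.mkLinearMap P.primeCompl M) z
  simp only [Function.uncurry_apply_pair] at hz ⊢
  have hcomp : ∀ j, ∃ u ∈ P.primeCompl, u * ψ v j = 0 := by
    intro j
    let p : M →ₗ[S] Localization.AtPrime P := Algebra.linearMap S _ ∘ₗ LinearMap.proj j ∘ₗ ψ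
    let P' : LocalizedModule P.primeCompl M →ₗ[Localization.AtPrime P] Localization.AtPrime P :=
      LinearMap.extendScalarsOfIsLocalization P.primeCompl _
        (IsLocalizedModule.lift P.primeCompl (LocalizedModule.mkLinearMap P.primeCompl M) p
          (IsLocalizedModule.map_units (Algebra.linearMap S (Localization.AtPrime P))))
    have h1 : P' (IsLocalizedModule.mk' (LocalizedModule.mkLinearMap P.primeCompl M) v s) = 0 := LinearMap.congr_fun hz P'
    have h2 : P' (LocalizedModule.mkLinearMap P.primeCompl M v) = 0 := by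
      rw [← IsLocalizedModule.mk'_cancel' (LocalizedModule.mkLinearMap P.primeCompl M) v s, Submonoid.smul_def,
        LinearMap.map_smul_of_tower, h1, smul_zero]
    simp only [P', LinearMap.extendScalarsOfIsLocalization_apply', IsLocalizedModule.lift_apply, p,
      LinearMap.comp_apply, Algebra.linearMap_apply, LinearMap.proj_apply] at h2
    obtain ⟨u, hu⟩ := (IsLocalization.map_eq_zero_iff P.primeCompl _ _).mp h2
    exact ⟨u, u.2, hu⟩
  choose u hu hu0 using hcomp
  rw [IsLocalizedModule.mk'_eq_zero, IsLocalizedModule.eq_zero_iff P.primeCompl]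
  refine ⟨⟨∏ j, u j, prod_mem fun j _ => hu j⟩, hψ ?_⟩
  rw [map_zero, Submonoid.mk_smul, map_smul]
  funext j
  classical
  obtain ⟨d, hd⟩ : u j ∣ ∏ j, u j := Finset.dvd_prod_of_mem _ (Finset.mem_univ j)
  rw [Pi.smul_apply, smul_eq_mul, hd, mul_comm (u j) d, mul_assoc, hu0 j, mul_zero]
  rfl

theorem locally_free_of_bijective [IsReduced S] [LocCoh.IsGorensteinRing S] (hd : ringKrullDim S ≤ 1)
    [Module.IsReflexive S M] (hend : Function.Bijective (algebraMap S (Module.End S M)))
    (P : Ideal S) [P.IsPrime] :
    Nonempty (LocalizedModule P.primeCompl M ≃ₗ[Localization.AtPrime P] Localization.AtPrime P) := by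
  haveI := LocCoh.IsGorensteinRing.isGorensteinLocalRing_localization (A := S) P
  have hdP : ringKrullDim (Localization.AtPrime P) ≤ 1 := by
    rw [IsLocalization.AtPrime.ringKrullDim_eq_height P]
    exact (Ideal.height_le_ringKrullDim_of_ne_top Ideal.IsPrime.ne_top').trans hd
  haveI : Module.Finite (Localization.AtPrime P) (LocalizedModule P.primeCompl M) :=
    Module.Finite.of_isLocalizedModule P.primeCompl (LocalizedModule.mkLinearMap P.primeCompl M)
  haveI := GorensteinReflexive.isReflexive_of_injective_eval_local hdP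
    (injective_eval_localized (Module.bijective_dual_eval S M).1 P)
  obtain ⟨f, x, hfx⟩ := exists_functional_unit (end_localized hend P) hdP
  exact exists_equiv_of_functional (end_localized hend P) hfx

end Global

end Groth.L02.RankOneEnd
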