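import Groth.Prelude.Def_Found
import Groth.Agent.L02.Radicial
import Mathlib.RingTheory.Flat.Basic
import Mathlib.RingTheory.Flat.Stability
import Mathlib.RingTheory.Flat.TorsionFree
import Mathlib.RingTheory.Flat.FaithfullyFlat.Algebra
import Mathlib.RingTheory.Ideal.GoingDown
import Mathlib.RingTheory.Ideal.MinimalPrime.Noetherian
import Mathlib.RingTheory.Artinian.Ring
import Mathlib.RingTheory.LocalRing.ResidueField.Ideal
import Mathlib.RingTheory.DedekindDomain.IntegralClosure
import Mathlib.RingTheory.Adjoin.FGBaseChange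

/-!
Reduced base change of finite subalgebras of a finite extension of the fraction field stabilises.
-/

universe u

open TensorProduct

namespace Groth.L02.ReducedTensor

variable {A B K' : Type u} [CommRing A] [IsDomain A] [CommRing B] [Algebra A B] [IsNoetherianRing B]
  [Module.Flat A B] [Field K'] [Algebra A K'] [Algebra (FractionRing A) K'] [IsScalarTower A (FractionRing A) K']
  [FiniteDimensional (FractionRing A) K']

/-- finite subalgebras with fraction field `K'` -/
def P (C : Subalgebra A K') : Prop := Module.Finite A C ∧ ∀ x : K', ∃ a b : C, (b : K') ≠ 0 ∧ x * b = a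

omit [IsDomain A] [Algebra (FractionRing A) K'] [IsScalarTower A (FractionRing A) K']
  [FiniteDimensional (FractionRing A) K'] in
lemma P_sup {C C' : Subalgebra A K'} (hC : P C) (hC' : Module.Finite A C') : P (C ⊔ C') := by
  have := hC.1
  have := hC'
  refine ⟨Subalgebra.finite_sup C C', fun x => ?_⟩
  obtain ⟨a, b, hb, he⟩ := hC.2 x
  exact ⟨⟨a, le_sup_left (a := C) a.2⟩, ⟨b, le_sup_left (a := C) b.2⟩, hb, he⟩

variable (A K') in
lemma exists_P : ∃ C : Subalgebra A K', P C := by
  classical
  obtain ⟨s, b, hb⟩ := FiniteDimensional.exists_is_basis_integral A (FractionRing A) K'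
  refine ⟨Algebra.adjoin A (Set.range b), Algebra.finite_adjoin_of_finite_of_isIntegral (Set.finite_range b)
    (by rintro _ ⟨i, rfl⟩; exact hb i), fun x => ?_⟩
  obtain ⟨⟨d, hd⟩, hdz⟩ := IsLocalization.exist_integer_multiples_of_finite (nonZeroDivisors A) (fun i => b.repr x i)
  choose r hr using hdz
  refine ⟨∑ i, r i • ⟨b i, Algebra.subset_adjoin ⟨i, rfl⟩⟩, algebraMap A _ d, ?_, ?_⟩
  · show algebraMap A K' d ≠ 0
    rw [IsScalarTower.algebraMap_apply A (FractionRing A) K']
    exact (map_ne_zero_iff _ (RingHom.injective _)).mpr ((map_ne_zero_iff _ (IsFractionRing.injective A _)).mpr (nonZeroDivisors.ne_zero hd))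
  · show x * algebraMap A K' d = ((∑ i, r i • (⟨b i, _⟩ : Algebra.adjoin A (Set.range b)) : Algebra.adjoin A (Set.range b)) : K')
    rw [AddSubmonoidClass.coe_finsetSum, ← b.sum_repr x, Finset.sum_mul]
    refine Finset.sum_congr rfl fun i _ => ?_
    rw [SetLike.val_smul, Algebra.smul_def, Algebra.smul_def, IsScalarTower.algebraMap_apply A (FractionRing A) K' (r i),
      hr i]
    simp only [Algebra.smul_def, map_mul, ← IsScalarTower.algebraMap_apply]
    ring

variable (A K') in
/-- the embedding of `C ⊗ B` -/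
noncomputable def ι (C : Subalgebra A K') : C ⊗[A] B →ₐ[A] B ⊗[A] K' :=
  (Algebra.TensorProduct.comm A K' B).toAlgHom.comp (Algebra.TensorProduct.map C.val (AlgHom.id A B))

omit [IsDomain A] [IsNoetherianRing B] [Algebra (FractionRing A) K'] [IsScalarTower A (FractionRing A) K']
  [FiniteDimensional (FractionRing A) K'] in
lemma ι_injective (C : Subalgebra A K') : Function.Injective (ι A K' C : C ⊗[A] B → B ⊗[A] K') :=
  (Algebra.TensorProduct.comm A K' B).injective.comp
    (Module.Flat.rTensor_preserves_injective_linearMap (M := B) C.val.toLinearMap Subtype.val_injective)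

omit [IsDomain A] [IsNoetherianRing B] [Algebra (FractionRing A) K'] [IsScalarTower A (FractionRing A) K']
  [FiniteDimensional (FractionRing A) K'] [Module.Flat A B] in
lemma ι_map {C C' : Subalgebra A K'} (h : C ≤ C') (x : C ⊗[A] B) :
    ι A K' C' (Algebra.TensorProduct.map (Subalgebra.inclusion h) (AlgHom.id A B) x) = ι A K' C x := by
  induction x with
  | zero => simp
  | tmul c b => rfl
  | add x y hx hy => simp [hx, hy]

omit [IsNoetherianRing B] [Algebra (FractionRing A) K'] [IsScalarTower A (FractionRing A) K']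
  [FiniteDimensional (FractionRing A) K'] [Field K'] [Algebra A K'] in
lemma injective_to_residueField {q : Ideal B} [q.IsPrime] (hq : q ∈ minimalPrimes B) :
    Function.Injective (algebraMap A q.ResidueField) := by
  rw [injective_iff_map_eq_zero]
  intro a ha
  by_contra hne
  rw [IsScalarTower.algebraMap_apply A B q.ResidueField, Ideal.algebraMap_residueField_eq_zero] at ha
  refine Ideal.disjoint_nonZeroDivisors_of_mem_minimalPrimes hq |>.le_bot ⟨ha, ?_⟩
  have hr := Module.Flat.isSMulRegular_of_nonZeroDivisors (M := B) (mem_nonZeroDivisors_of_ne_zero hne)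
  exact mem_nonZeroDivisors_iff_right.mpr fun x hx => hr (by
    show a • x = a • (0 : B); rw [smul_zero, Algebra.smul_def, mul_comm, hx])

omit [IsNoetherianRing B] in
lemma finite_residueField_tensor {q : Ideal B} [q.IsPrime] (hq : q ∈ minimalPrimes B) :
    Module.Finite q.ResidueField (q.ResidueField ⊗[A] K') := by
  classical
  let b := Module.finBasis (FractionRing A) K'
  refine ⟨⟨Finset.univ.image fun i => (1 : q.ResidueField) ⊗ₜ[A] b i, top_unique fun z _ => ?_⟩⟩
  induction z using TensorProduct.induction_on with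
  | zero => exact zero_mem _
  | add x y hx hy => exact add_mem (hx trivial) (hy trivial)
  | tmul t x =>
    rw [← b.sum_repr x, tmul_sum]
    refine Submodule.sum_mem _ fun i _ => ?_
    obtain ⟨r, s, hs, hrs⟩ := IsFractionRing.div_surjective A (b.repr x i)
    have hsB : algebraMap A q.ResidueField s ≠ 0 :=
      (map_ne_zero_iff _ (injective_to_residueField hq)).mpr (nonZeroDivisors.ne_zero hs)
    have hsK : algebraMap A (FractionRing A) s ≠ 0 :=
      (map_ne_zero_iff _ (IsFractionRing.injective A _)).mpr (nonZeroDivisors.ne_zero hs)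
    have h1 : s • (b.repr x i • b i) = r • b i := by
      rw [← smul_assoc, show s • b.repr x i = algebraMap A (FractionRing A) r by
        rw [← hrs, Algebra.smul_def, mul_div_cancel₀ _ hsK], algebraMap_smul]
    have h2 : t ⊗ₜ[A] (b.repr x i • b i) = (r • (t / algebraMap A q.ResidueField s)) ⊗ₜ[A] b i := by
      conv_lhs => rw [show t = s • (t / algebraMap A q.ResidueField s) by rw [Algebra.smul_def, mul_div_cancel₀ _ hsB]]
      rw [smul_tmul, h1, ← smul_tmul]
    rw [h2, show (r • (t / algebraMap A q.ResidueField s)) ⊗ₜ[A] b i =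
      (r • (t / algebraMap A q.ResidueField s)) • ((1 : q.ResidueField) ⊗ₜ[A] b i) by rw [smul_tmul', smul_eq_mul, mul_one]]
    exact Submodule.smul_mem _ _ (Submodule.subset_span (Finset.mem_image_of_mem _ (Finset.mem_univ i)))

/-- pairs of a minimal prime and a maximal ideal over it -/
abbrev Idx (A B K' : Type u) [CommRing A] [CommRing B] [Algebra A B] [Field K'] [Algebra A K'] :=
  Σ q : {q : PrimeSpectrum B // q.asIdeal ∈ minimalPrimes B}, MaximalSpectrum (q.1.asIdeal.ResidueField ⊗[A] K')

/-- the corresponding fields -/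
abbrev E (i : Idx A B K') : Type u := (i.1.1.asIdeal.ResidueField ⊗[A] K') ⧸ i.2.asIdeal

/-- the evaluation map -/
noncomputable def G : B ⊗[A] K' →ₐ[B] (∀ i : Idx A B K', E i) :=
  AlgHom.pi fun i => (Ideal.Quotient.mkₐ B i.2.asIdeal).comp
    (Algebra.TensorProduct.map (IsScalarTower.toAlgHom B B i.1.1.asIdeal.ResidueField) (AlgHom.id A K'))

omit [IsNoetherianRing B] in
lemma isNilpotent_of_G_eq_zero {x : B ⊗[A] K'} (hx : G x = 0) : IsNilpotent x := by
  rw [← mem_nilradical, nilradical_eq_sInf, Submodule.mem_sInf]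
  rintro (p₀ : Ideal (B ⊗[A] K')) (hp₀ : Ideal.IsPrime _)
  obtain ⟨p, hp, hpp₀⟩ := Ideal.exists_minimalPrimes_le (J := p₀) (bot_le (a := p₀))
  refine hpp₀ ?_
  have hpprime : p.IsPrime := hp.1.1
  have : Module.Flat A (FractionRing A) := IsLocalization.flat _ (nonZeroDivisors A)
  have : Module.Flat A K' := Module.Flat.trans A (FractionRing A) K'
  let q := p.under B
  have hq : q ∈ minimalPrimes B := by
    refine ⟨⟨inferInstance, bot_le⟩, fun q' hq' hle => ?_⟩
    by_contra hne
    have : q'.IsPrime := hq'.1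
    obtain ⟨P', hP'le, hP', hP'over⟩ := Ideal.exists_ideal_lt_liesOver_of_lt (p := q') (q := q) p
      (lt_of_le_not_ge hle hne)
    exact hP'le.ne (le_antisymm hP'le.le (hp.2 ⟨hP', bot_le⟩ hP'le.le))
  let F := p.ResidueField
  let ψ : q.ResidueField →ₐ[A] F := Ideal.ResidueField.mapₐ q p (IsScalarTower.toAlgHom A B _) rfl
  let Φ : q.ResidueField ⊗[A] K' →ₐ[A] F := Algebra.TensorProduct.lift ψ
    ((IsScalarTower.toAlgHom A (B ⊗[A] K') F).comp Algebra.TensorProduct.includeRight) fun _ _ => Commute.all _ _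
  have hψ : ∀ b : B, ψ (algebraMap B q.ResidueField b) = algebraMap (B ⊗[A] K') F (b ⊗ₜ[A] (1 : K')) :=
    fun b => Ideal.ResidueField.map_algebraMap _ _ _ _ b
  have hΦ : ∀ z : B ⊗[A] K', Φ (Algebra.TensorProduct.map (IsScalarTower.toAlgHom B B q.ResidueField) (AlgHom.id A K') z) =
      algebraMap (B ⊗[A] K') F z := fun z => by
    induction z with
    | zero => simp
    | add a b ha hb => simp [ha, hb]
    | tmul b k =>
      simp only [Algebra.TensorProduct.map_tmul, Φ, Algebra.TensorProduct.lift_tmul, IsScalarTower.coe_toAlgHom',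
        AlgHom.coe_id, id_eq, AlgHom.comp_apply, Algebra.TensorProduct.includeRight_apply]
      rw [hψ, ← map_mul,
        Algebra.TensorProduct.tmul_mul_tmul, mul_one, one_mul]
  have : Module.Finite q.ResidueField (q.ResidueField ⊗[A] K') := finite_residueField_tensor hq
  have : IsArtinianRing (q.ResidueField ⊗[A] K') := IsArtinianRing.of_finite q.ResidueField _
  have hker : (RingHom.ker Φ).IsPrime := RingHom.ker_isPrime _
  let i : Idx A B K' := ⟨⟨⟨q, inferInstance⟩, hq⟩, ⟨RingHom.ker Φ, IsArtinianRing.isMaximal_of_isPrime _⟩⟩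
  have h0 : Algebra.TensorProduct.map (IsScalarTower.toAlgHom B B q.ResidueField) (AlgHom.id A K') x ∈ RingHom.ker Φ :=
    Ideal.Quotient.eq_zero_iff_mem.mp (congrFun hx i)
  rw [RingHom.mem_ker, hΦ, Ideal.algebraMap_residueField_eq_zero] at h0
  exact h0

variable (hJ : ∀ (q : Ideal B) [q.IsPrime], q ∈ minimalPrimes B → CAlg.IsN2 (B ⧸ q))

omit [IsNoetherianRing B] in
lemma fg_integralClosure_field {B : Type u} [CommRing B] (q : Ideal B) [q.IsPrime] (h : CAlg.IsN2 (B ⧸ q))
    (F : Type u) [Field F] [Algebra q.ResidueField F] [Algebra B F] [IsScalarTower B q.ResidueField F]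
    [Module.Finite q.ResidueField F] : (Subalgebra.toSubmodule (integralClosure B F)).FG := by
  let e : FractionRing (B ⧸ q) ≃ₐ[B ⧸ q] q.ResidueField := FractionRing.algEquiv (B ⧸ q) q.ResidueField
  let _ : Algebra (B ⧸ q) F := ((algebraMap q.ResidueField F).comp (algebraMap (B ⧸ q) q.ResidueField)).toAlgebra
  have : IsScalarTower B (B ⧸ q) F := .of_algebraMap_eq fun b => IsScalarTower.algebraMap_apply B q.ResidueField F b
  let _ : Algebra (FractionRing (B ⧸ q)) F := ((algebraMap q.ResidueField F).comp e.toRingEquiv.toRingHom).toAlgebra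
  have : IsScalarTower (B ⧸ q) (FractionRing (B ⧸ q)) F := .of_algebraMap_eq fun b =>
    (congrArg (algebraMap q.ResidueField F) (e.commutes b)).symm
  have : FiniteDimensional (FractionRing (B ⧸ q)) F := by
    obtain ⟨s, hs⟩ := ‹Module.Finite q.ResidueField F›.1
    refine ⟨⟨s, top_unique fun z hz => ?_⟩⟩
    have : z ∈ Submodule.span q.ResidueField (s : Set F) := hs ▸ trivial
    induction this using Submodule.span_induction with
    | mem x hx => exact Submodule.subset_span hx
    | zero => exact zero_mem _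
    | add x y _ _ hx hy => exact add_mem (hx trivial) (hy trivial)
    | smul c x _ hx =>
      rw [show c • x = e.symm c • x by
        rw [Algebra.smul_def, Algebra.smul_def]
        show _ = algebraMap q.ResidueField F (e (e.symm c)) * x
        rw [e.apply_symm_apply]]
      exact Submodule.smul_mem _ _ (hx trivial)
  have := h F this
  have : Module.Finite B (integralClosure (B ⧸ q) F) := Module.Finite.trans (B ⧸ q) _
  obtain ⟨s, hs⟩ := (Module.Finite.iff_fg.mp this : ((Subalgebra.toSubmodule (integralClosure (B ⧸ q) F)).restrictScalars B).FG)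
  refine ⟨s, hs.trans ?_⟩
  ext z
  exact ⟨fun hz => isIntegral_trans (R := B) z hz, fun hz => IsIntegral.tower_top hz⟩

omit [IsNoetherianRing B] in
include hJ in
lemma fg_integralClosure (i : Idx A B K') : (Subalgebra.toSubmodule (integralClosure B (E i))).FG := by
  have hfin : Module.Finite i.1.1.asIdeal.ResidueField (i.1.1.asIdeal.ResidueField ⊗[A] K') :=
    finite_residueField_tensor i.1.2
  let _ : Field (E i) := Ideal.Quotient.field i.2.asIdeal
  have : Module.Finite i.1.1.asIdeal.ResidueField (E i) :=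
    Module.Finite.of_surjective (Ideal.Quotient.mkₐ i.1.1.asIdeal.ResidueField i.2.asIdeal).toLinearMap Ideal.Quotient.mk_surjective
  exact fg_integralClosure_field i.1.1.asIdeal (hJ _ i.1.2) (E i)

/-- integral elements of the product of the fields -/
noncomputable def M : Submodule B (∀ i : Idx A B K', E i) :=
  Submodule.pi Set.univ fun i => Subalgebra.toSubmodule (integralClosure B (E i))

/-- the image of a subalgebra -/
noncomputable def W (C : Subalgebra A K') : Submodule B (∀ i : Idx A B K', E i) :=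
  Submodule.span B (Set.range fun c : C => G ((1 : B) ⊗ₜ[A] (c : K')))

include hJ in
lemma isNoetherian_M : IsNoetherian B (M (A := A) (B := B) (K' := K')) := by
  have : Finite {q : PrimeSpectrum B // q.asIdeal ∈ minimalPrimes B} :=
    ((minimalPrimes.finite_of_isNoetherianRing B).preimage (f := PrimeSpectrum.asIdeal)
      fun _ _ _ _ h => PrimeSpectrum.ext h).to_subtype
  have (q : {q : PrimeSpectrum B // q.asIdeal ∈ minimalPrimes B}) :
      Finite (MaximalSpectrum (q.1.asIdeal.ResidueField ⊗[A] K')) := by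
    have := finite_residueField_tensor (A := A) (K' := K') q.2
    have : IsArtinianRing (q.1.asIdeal.ResidueField ⊗[A] K') := IsArtinianRing.of_finite q.1.asIdeal.ResidueField _
    infer_instance
  exact isNoetherian_of_fg_of_noetherian _ (Submodule.fg_pi fun i => fg_integralClosure hJ i)

omit [IsDomain A] [IsNoetherianRing B] [Module.Flat A B] [Algebra (FractionRing A) K'] [IsScalarTower A (FractionRing A) K']
  [FiniteDimensional (FractionRing A) K'] in
lemma W_le_M {C : Subalgebra A K'} (hC : Module.Finite A C) : W (B := B) C ≤ M := by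
  rw [W, Submodule.span_le]
  rintro _ ⟨c, rfl⟩ i -
  have h1 : IsIntegral A (c : K') := (Algebra.IsIntegral.isIntegral (R := A) c).map C.val
  have h2 : IsIntegral B ((1 : B) ⊗ₜ[A] (c : K')) :=
    (h1.map (Algebra.TensorProduct.includeRight : K' →ₐ[A] B ⊗[A] K')).tower_top
  exact h2.map ((Pi.evalAlgHom B _ i).comp G)

omit [IsDomain A] [IsNoetherianRing B] [Module.Flat A B] [Algebra (FractionRing A) K'] [IsScalarTower A (FractionRing A) K']
  [FiniteDimensional (FractionRing A) K'] in
lemma exists_preimage (C : Subalgebra A K') {z : ∀ i : Idx A B K', E i} (hz : z ∈ W C) :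
    ∃ x : ↥C ⊗[A] B, G (ι A K' C x) = z := by
  induction hz using Submodule.span_induction with
  | mem z hz => obtain ⟨c, rfl⟩ := hz; exact ⟨c ⊗ₜ 1, rfl⟩
  | zero => exact ⟨0, by simp⟩
  | add a b _ _ ha hb =>
    obtain ⟨x, rfl⟩ := ha; obtain ⟨x', rfl⟩ := hb
    exact ⟨x + x', by simp⟩
  | smul b a _ ha =>
    obtain ⟨x, rfl⟩ := ha
    refine ⟨((1 : C) ⊗ₜ b) * x, ?_⟩
    rw [map_mul, map_mul, show ι A K' C ((1 : C) ⊗ₜ[A] b) = algebraMap B (B ⊗[A] K') b from rfl,
      AlgHom.commutes, ← Algebra.smul_def]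

omit [IsDomain A] [IsNoetherianRing B] [Module.Flat A B] [Algebra (FractionRing A) K'] [IsScalarTower A (FractionRing A) K']
  [FiniteDimensional (FractionRing A) K'] in
lemma G_ι_mem (C : Subalgebra A K') (y : ↥C ⊗[A] B) : G (ι A K' C y) ∈ W C := by
  induction y with
  | zero => simp
  | add a b ha hb => rw [map_add, map_add]; exact add_mem ha hb
  | tmul c b =>
    rw [show ι A K' C (c ⊗ₜ[A] b) = b • ((1 : B) ⊗ₜ[A] (c : K')) from by rw [smul_tmul', smul_eq_mul, mul_one]; rfl,
      map_smul]
    exact Submodule.smul_mem _ _ (Submodule.subset_span ⟨c, rfl⟩)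

include hJ in
theorem exists_stable : ∃ Cα : Subalgebra A K', P Cα ∧ ∀ C : Subalgebra A K', P C → ∀ hle : Cα ≤ C,
    (∀ x : ↥Cα ⊗[A] B, IsNilpotent (Algebra.TensorProduct.map (Subalgebra.inclusion hle) (AlgHom.id A B) x) → IsNilpotent x) ∧
    (∀ y : ↥C ⊗[A] B, ∃ x : ↥Cα ⊗[A] B,
      IsNilpotent (Algebra.TensorProduct.map (Subalgebra.inclusion hle) (AlgHom.id A B) x - y)) := by
  obtain ⟨C₀, hC₀⟩ := exists_P A K'
  obtain ⟨_, ⟨Cα, hCα, rfl⟩, hmax⟩ := set_has_maximal_iff_noetherian.mpr (isNoetherian_M hJ)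
    ((fun C => (W (B := B) C).comap (M (A := A) (B := B) (K' := K')).subtype) '' {C | P C}) ⟨_, C₀, hC₀, rfl⟩
  refine ⟨Cα, hCα, fun C hC hle => ⟨fun x hx => ?_, fun y => ?_⟩⟩
  · have : Function.Injective (Algebra.TensorProduct.map (Subalgebra.inclusion hle) (AlgHom.id A B)) := fun a b h =>
      ι_injective Cα (by rw [← ι_map hle a, ← ι_map hle b, h])
    exact (IsNilpotent.map_iff this).mp hx
  have hy : G (ι A K' C y) ∈ W Cα := by
    have h1 : W (B := B) Cα ≤ W C := Submodule.span_mono (by rintro _ ⟨c, rfl⟩; exact ⟨⟨c, hle c.2⟩, rfl⟩)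
    have h2 := eq_of_le_of_not_lt (Submodule.comap_mono (f := (M (A := A) (B := B) (K' := K')).subtype) h1)
      (hmax _ ⟨C, hC, rfl⟩)
    exact ((SetLike.ext_iff.mp h2 ⟨_, W_le_M hC.1 (G_ι_mem C y)⟩).mpr (G_ι_mem C y) :)
  obtain ⟨x, hx⟩ := exists_preimage Cα hy
  refine ⟨x, (IsNilpotent.map_iff (ι_injective C)).mp (isNilpotent_of_G_eq_zero ?_)⟩
  rw [map_sub, ι_map, map_sub, hx, sub_self]

omit [IsDomain A] [IsNoetherianRing B] [Module.Flat A B] [Field K'] [Algebra A K'] [Algebra (FractionRing A) K']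
  [IsScalarTower A (FractionRing A) K'] [FiniteDimensional (FractionRing A) K'] in
lemma isNilpotent_diff [Module.FaithfullyFlat A B] {R S : Type u} [CommRing R] [CommRing S] [Algebra A R] [Algebra A S]
    [Algebra R S] [IsScalarTower A R S] (a : S) (x : R ⊗[A] B)
    (hn : IsNilpotent (Algebra.TensorProduct.map (IsScalarTower.toAlgHom A R S) (AlgHom.id A B) x - a ⊗ₜ[A] (1 : B))) :
    IsNilpotent ((1 : S) ⊗ₜ[R] a - a ⊗ₜ[R] (1 : S)) := by
  let f₁ : S ⊗[A] B →ₐ[A] (S ⊗[R] S) ⊗[A] B :=
    Algebra.TensorProduct.map (Algebra.TensorProduct.includeLeft : S →ₐ[A] S ⊗[R] S) (AlgHom.id A B)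
  let f₂ : S ⊗[A] B →ₐ[A] (S ⊗[R] S) ⊗[A] B := Algebra.TensorProduct.map
    ((Algebra.TensorProduct.includeRight : S →ₐ[R] S ⊗[R] S).restrictScalars A) (AlgHom.id A B)
  have hagree : ∀ x : R ⊗[A] B,
      f₁ (Algebra.TensorProduct.map (IsScalarTower.toAlgHom A R S) (AlgHom.id A B) x) =
        f₂ (Algebra.TensorProduct.map (IsScalarTower.toAlgHom A R S) (AlgHom.id A B) x) := fun x => by
    induction x with
    | zero => simp
    | add u v hu hv => simp [hu, hv]
    | tmul c b =>
      simp only [f₁, f₂, Algebra.TensorProduct.map_tmul, AlgHom.coe_id, id_eq]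
      refine congrArg (fun u => u ⊗ₜ[A] b) ?_
      exact ((Algebra.TensorProduct.includeLeft : S →ₐ[R] S ⊗[R] S).commutes c).trans
        ((Algebra.TensorProduct.includeRight : S →ₐ[R] S ⊗[R] S).commutes c).symm
  have key : ((1 : S) ⊗ₜ[R] a - a ⊗ₜ[R] (1 : S)) ⊗ₜ[A] (1 : B) =
      f₁ (Algebra.TensorProduct.map (IsScalarTower.toAlgHom A R S) (AlgHom.id A B) x - a ⊗ₜ[A] (1 : B)) -
        f₂ (Algebra.TensorProduct.map (IsScalarTower.toAlgHom A R S) (AlgHom.id A B) x - a ⊗ₜ[A] (1 : B)) := by
    simp only [map_sub, hagree, sub_sub_sub_cancel_left, sub_tmul]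
    rfl
  have hnil : IsNilpotent (((1 : S) ⊗ₜ[R] a - a ⊗ₜ[R] (1 : S)) ⊗ₜ[A] (1 : B)) :=
    key ▸ mem_nilradical.mp (sub_mem (mem_nilradical.mpr (hn.map f₁)) (mem_nilradical.mpr (hn.map f₂)))
  exact (IsNilpotent.map_iff (f := (Algebra.TensorProduct.includeLeft : S ⊗[R] S →ₐ[A] (S ⊗[R] S) ⊗[A] B))
    (fun u v huv => Module.FaithfullyFlat.tensorProduct_mk_injective (A := A) (B := B) (S ⊗[R] S)
      (congrArg (TensorProduct.comm A (S ⊗[R] S) B) huv))).mp hnil

omit [IsDomain A] [Algebra (FractionRing A) K'] [IsScalarTower A (FractionRing A) K']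
  [FiniteDimensional (FractionRing A) K'] [IsNoetherianRing B] [Module.Flat A B] in
theorem universallyInjective [Module.FaithfullyFlat A B] {Cα : Subalgebra A K'} (hCα : P Cα)
    (hstable : ∀ C : Subalgebra A K', P C → ∀ hle : Cα ≤ C, ∀ y : ↥C ⊗[A] B, ∃ x : ↥Cα ⊗[A] B,
      IsNilpotent (Algebra.TensorProduct.map (Subalgebra.inclusion hle) (AlgHom.id A B) x - y))
    (hint : Cα ≤ integralClosure A K') :
    AlgebraicGeometry.UniversallyInjective
      (AlgebraicGeometry.Spec.map (CommRingCat.ofHom (Subalgebra.inclusion hint).toRingHom)) := by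
  let _ : Algebra Cα (integralClosure A K') := (Subalgebra.inclusion hint).toRingHom.toAlgebra
  have : IsScalarTower A Cα (integralClosure A K') := .of_algebraMap_eq fun _ => rfl
  refine Groth.L02.Radicial.universallyInjective (R := Cα) (S := integralClosure A K') fun a => ?_
  have hfin : Module.Finite A (Algebra.adjoin A ({(a : K')} : Set K')) :=
    Algebra.finite_adjoin_simple_of_isIntegral a.2
  have hP := P_sup hCα hfin
  have hCint : Cα ⊔ Algebra.adjoin A ({(a : K')} : Set K') ≤ integralClosure A K' :=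
    sup_le hint (Algebra.adjoin_le (Set.singleton_subset_iff.mpr a.2))
  obtain ⟨x, hx⟩ := hstable _ hP le_sup_left
    (⟨a, (le_sup_right (a := Cα)) (Algebra.self_mem_adjoin_singleton A (a : K'))⟩ ⊗ₜ[A] (1 : B))
  have hn := hx.map (Algebra.TensorProduct.map (Subalgebra.inclusion hCint) (AlgHom.id A B))
  rw [map_sub, ← AlgHom.comp_apply, ← Algebra.TensorProduct.map_comp, AlgHom.id_comp,
    show (Subalgebra.inclusion hCint).comp (Subalgebra.inclusion le_sup_left) = IsScalarTower.toAlgHom A Cα (integralClosure A K') from rfl,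
    Algebra.TensorProduct.map_tmul] at hn
  exact isNilpotent_diff a x hn

end Groth.L02.ReducedTensor
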