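import Groth.Agent.L22.Cyc.BaseChange
import Groth.Agent.L22.FibreDim
import Groth.Agent.S9381
import Groth.Agent.L22.GeomConn.Irred

/-!
# Transcendence degree at the points of a base change over a given point
-/

set_option autoImplicit false
set_option linter.style.haveILetI false
set_option backward.isDefEq.respectTransparency.types false
set_option backward.isDefEq.respectTransparency false
universe u

open CategoryTheory CategoryTheory.Limits AlgebraicGeometry

namespace Groth.L02.RtrdegFibre

open Groth.L22.Cyc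

theorem rtrdeg_preimmersion {A B : Scheme.{u}} (i : A ⟶ B) [IsPreimmersion i] (a : A) : rtrdeg i a = 0 := by
  letI := (i.residueFieldMap a).hom.toAlgebra
  haveI : Algebra.IsAlgebraic (B.residueField (i a)) (A.residueField a) := ⟨fun b => by
    obtain ⟨c, rfl⟩ := (Groth.L22.FibreDim.residueFieldMap_bijective i a).2 b
    exact isAlgebraic_algebraMap c⟩
  exact trdeg_eq_zero

theorem rtrdeg_comp_preimmersion {A B C : Scheme.{u}} (i : A ⟶ B) [IsPreimmersion i] (f : B ⟶ C) (a : A) :
    rtrdeg (i ≫ f) a = rtrdeg f (i a) := by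
  rw [rtrdeg_comp, rtrdeg_preimmersion i, add_zero]

variable {X X' Y Y' : Scheme.{u}} {f : Y ⟶ X} {p : X' ⟶ X} {q : Y' ⟶ Y} {f' : Y' ⟶ X'}

/-- `z` is maximal among the points with the same two images. -/
def MaxOver (q : Y' ⟶ Y) (f' : Y' ⟶ X') (z : Y') : Prop :=
  ∀ w, w ⤳ z → q w = q z → f' w = f' z → w = z

theorem rtrdeg_of_maxOver [LocallyOfFiniteType f] (sq : IsPullback q f' f p) {z : Y'} (h : MaxOver q f' z) :
    rtrdeg f' z = rtrdeg f (q z) := by
  let I := Scheme.IdealSheafData.vanishingIdeal (X := Y) ⟨closure {q z}, isClosed_closure⟩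
  let ι := I.subschemeι
  have hr : Set.range ι = closure ({q z} : Set Y) := by
    rw [Scheme.IdealSheafData.range_subschemeι, Scheme.IdealSheafData.coe_support_vanishingIdeal]; rfl
  let i' := pullback.fst q ι
  have sqC : IsPullback (pullback.snd q ι) (i' ≫ f') (ι ≫ f) p :=
    ((IsPullback.of_hasPullback q ι).flip).paste_vert sq
  obtain ⟨c, hc⟩ := hr.ge (subset_closure (Set.mem_singleton (q z)))
  obtain ⟨t, ht1, ht2⟩ := Scheme.exists_preimage_of_isPullback (IsPullback.of_hasPullback q ι) z c hc.symm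
  have hg : FibGen (i' ≫ f') t := by
    intro w hw hwt
    refine i'.isEmbedding.injective ?_
    have hw1 : i' w ⤳ z := ht1 ▸ hwt.map i'.continuous
    have hqw : q (i' w) = q z := by
      have h1 : q (i' w) ⤳ q z := hw1.map q.continuous
      have h2 : q (i' w) ∈ closure ({q z} : Set Y) := by
        rw [← Scheme.Hom.comp_apply, pullback.condition, Scheme.Hom.comp_apply]
        exact hr.le ⟨_, rfl⟩
      exact (h1.antisymm (specializes_iff_mem_closure.2 h2)).eq
    have hfw : f' (i' w) = f' z := by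
      rw [Scheme.Hom.comp_apply, Scheme.Hom.comp_apply] at hw
      rw [hw]
      exact congrArg f' ht1
    exact (h _ hw1 hqw hfw).trans ht1.symm
  haveI : LocallyOfFiniteType (ι ≫ f) := inferInstance
  have e := rtrdeg_baseChange sqC hg
  rw [rtrdeg_comp_preimmersion, rtrdeg_comp_preimmersion,
    show pullback.fst q ι t = z from ht1, show pullback.snd q ι t = c from ht2, hc] at e
  exact e

theorem exists_maxOver (q : Y' ⟶ Y) (f' : Y' ⟶ X') (z : Y') :
    ∃ m, m ⤳ z ∧ q m = q z ∧ f' m = f' z ∧ MaxOver q f' m := by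
  let I := Scheme.IdealSheafData.vanishingIdeal (X := Y) ⟨closure {q z}, isClosed_closure⟩
  let ι := I.subschemeι
  have hr : Set.range ι = closure ({q z} : Set Y) := by
    rw [Scheme.IdealSheafData.range_subschemeι, Scheme.IdealSheafData.coe_support_vanishingIdeal]; rfl
  let i' := pullback.fst q ι
  have hir : Set.range i' = q ⁻¹' closure ({q z} : Set Y) := by
    rw [Scheme.Pullback.range_fst, hr]
  obtain ⟨t, ht⟩ := hir.ge (show q z ∈ closure ({q z} : Set Y) from subset_closure rfl)
  let h := i' ≫ f'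
  have hht : h t = f' z := by rw [Scheme.Hom.comp_apply, ht]
  obtain ⟨t', ht'⟩ := (h.range_fiberι (f' z)).ge hht
  obtain ⟨m', hm', hmt⟩ := Groth.L22.GeomConn.exists_isMaxPt_specializes t'
  let m := i' (h.fiberι (f' z) m')
  have hmz : m ⤳ z := by
    have := (hmt.map (h.fiberι (f' z)).continuous).map i'.continuous
    rwa [ht', ht] at this
  have hqm : q m = q z :=
    ((hmz.map q.continuous).antisymm (specializes_iff_mem_closure.2 (hir.le ⟨_, rfl⟩))).eq
  have hfm : f' m = f' z := by
    show f' (i' _) = _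
    rw [← Scheme.Hom.comp_apply]
    exact (h.range_fiberι (f' z)).le ⟨m', rfl⟩
  refine ⟨m, hmz, hqm, hfm, fun u hu hqu hfu => ?_⟩
  obtain ⟨v, hv⟩ := hir.ge (show q u ∈ closure ({q z} : Set Y) from hqu.trans hqm ▸ subset_closure rfl)
  obtain ⟨v', hv'⟩ := (h.range_fiberι (f' z)).ge (show h v = f' z by
    rw [Scheme.Hom.comp_apply, hv]; exact hfu.trans hfm)
  have : v' ⤳ m' := (h.fiberι (f' z)).isEmbedding.isInducing.specializes_iff.1
    (i'.isEmbedding.isInducing.specializes_iff.1 (by rw [hv', hv]; exact hu))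
  rw [← hv, ← hv', hm' v' this]

theorem eq_of_rtrdeg [LocallyOfFiniteType f] (sq : IsPullback q f' f p) {z w : Y'}
    (hz : rtrdeg f' z = rtrdeg f (q z)) (hw : w ⤳ z) (hq : q w = q z) (hf : f' w = f' z) : w = z := by
  haveI : LocallyOfFiniteType f' := MorphismProperty.of_isPullback sq ‹LocallyOfFiniteType f›
  obtain ⟨m, hm, hqm, hfm, hmax⟩ := exists_maxOver q f' w
  have e : rtrdeg f' m = rtrdeg f' z := by rw [rtrdeg_of_maxOver sq hmax, hqm, hq, hz]
  by_contra hne
  have hmz : m ≠ z := fun h => hne ((hw.antisymm (h ▸ hm)).eq)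
  have := Groth.Agent.S9381.result f' m z (hm.trans hw) hmz (hfm.trans hf)
  exact this.ne e.symm

end Groth.L02.RtrdegFibre
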