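import Groth.Agent.L02.GLLocal
import Mathlib.GroupTheory.Abelianization.Defs
import Mathlib.LinearAlgebra.Matrix.SpecialLinearGroup

/-!
Over a local ring with a unit `u` such that `u - 1` is a unit, `SL_n` consists of commutators.
-/

namespace Groth.L02.SLComm

open Matrix GLLocal

theorem mem_commutator {B : Type*} [CommRing B] [IsLocalRing B] (u : Bˣ) (hu : IsUnit ((u : B) - 1))
    {n : Type*} [Fintype n] [DecidableEq n] (g : GL n B) (hg : GeneralLinearGroup.det g = 1) :
    g ∈ commutator (GL n B) := by
  rcases isEmpty_or_nonempty n with he | ⟨⟨a0⟩⟩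
  · rw [show g = 1 from Units.ext (Matrix.ext fun i => isEmptyElim i)]
    exact Subgroup.one_mem _
  obtain ⟨w, hw⟩ := hu
  let ab : GL n B →* Abelianization (GL n B) := Abelianization.of
  let ψ : GL n B →* Abelianization (GL n B) :=
    ab.comp (dg.comp ((MonoidHom.mulSingle (fun _ : n => Bˣ) a0).comp GeneralLinearGroup.det))
  have hall : g ∈ ab.eqLocus ψ := by
    refine GLLocal.mem_iff_forall _ ?_ ?_ g
    · intro i j h c
      show ab (tv i j h c) = ψ (tv i j h c)
      rw [show ψ (tv i j h c) = ab (dg (Pi.mulSingle a0 1)) from congrArg (fun t => ab (dg (Pi.mulSingle a0 t)))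
        (Units.ext (det_transvection_of_ne _ _ h c)), Pi.mulSingle_one, map_one, map_one]
      let c' : B := ↑w⁻¹ * c
      have h1 := congrArg ab (dg_mul_tv i j h (Pi.mulSingle i u) c')
      simp only [map_mul, Pi.mulSingle_eq_same, Pi.mulSingle_eq_of_ne h.symm, inv_one, Units.val_one,
        mul_one] at h1
      rw [mul_comm (ab (dg _)) _] at h1
      have h2 := mul_right_cancel h1
      have h3 : tv i j h ((u : B) * c') = tv i j h c * tv i j h c' := by
        rw [tv_mul]
        congr 1
        rw [show c = (w : B) * c' from (Units.mul_inv_cancel_left w c).symm, hw]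
        ring
      rw [h3, map_mul] at h2
      exact mul_eq_right.mp h2.symm
    · intro d
      let χ : (n → Bˣ) →* Abelianization (GL n B) := ab.comp dg
      show χ d = χ (Pi.mulSingle a0 (GeneralLinearGroup.det (dg d)))
      have hdet : GeneralLinearGroup.det (dg d) = ∏ a, d a := Units.ext (by
        rw [Units.coe_prod]; exact det_diagonal)
      conv_lhs => rw [← Finset.univ_prod_mulSingle d]
      rw [hdet, map_prod,
        show Pi.mulSingle a0 (∏ a, d a) = MonoidHom.mulSingle (fun _ : n => Bˣ) a0 (∏ a, d a) from rfl,
        map_prod, map_prod]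
      refine Finset.prod_congr rfl fun a _ => ?_
      obtain ⟨P, hP⟩ := exists_conj_dg (R := B) (Equiv.swap a a0)
      have h1 := congrArg ab (hP (Pi.mulSingle a (d a)))
      rw [map_mul, map_mul, map_inv, mul_inv_cancel_comm] at h1
      show ab (dg _) = ab (dg _)
      rw [h1]
      refine congrArg (fun t => ab (dg t)) (funext fun b => ?_)
      simp only [Function.comp_apply, MonoidHom.mulSingle_apply, Pi.mulSingle_apply, Equiv.swap_apply_def]
      split_ifs <;> simp_all
  have h1 : ab g = ψ g := hall
  rw [← Abelianization.ker_of, MonoidHom.mem_ker]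
  rw [show Abelianization.of g = ab g from rfl, h1]
  simp [ψ, hg]

end Groth.L02.SLComm
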