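import Groth.Agent.L25.GeomIrred
import Groth.Prelude.Def_CAlgX
import Mathlib.RingTheory.Spectrum.Prime.Homeomorph
import Mathlib.RingTheory.TensorProduct.Quotient
import Mathlib.FieldTheory.IsSepClosed
import Mathlib.FieldTheory.PurelyInseparable.Basic
import Mathlib.FieldTheory.IsAlgClosed.AlgebraicClosure
import Mathlib.LinearAlgebra.TensorProduct.RightExactness

/-!
Tensor products over separably closed fields preserve irreducibility of the spectrum.
-/

set_option autoImplicit false
universe u

open TensorProduct

namespace Groth.L02.SepClosedTensor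

theorem hasUniqueMinimalPrime_iff {A : Type u} [CommRing A] :
    CAlgX.HasUniqueMinimalPrime A ↔ (nilradical A).IsPrime := by
  constructor
  · rintro ⟨p, hp, huniq⟩
    have : nilradical A = p := by
      refine le_antisymm (nilradical_le_prime p (H := hp.1.1)) ?_
      rw [nilradical_eq_sInf]
      refine le_sInf fun q hq => ?_
      haveI : q.IsPrime := hq
      obtain ⟨p', hp', hle⟩ := Ideal.exists_minimalPrimes_le (bot_le : (⊥ : Ideal A) ≤ q)
      exact (huniq p' hp') ▸ hle
    exact this ▸ hp.1.1
  · intro h
    refine ⟨nilradical A, ⟨⟨h, bot_le⟩, fun q hq _ => nilradical_le_prime q (H := hq.1)⟩, fun q hq => ?_⟩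
    exact le_antisymm (hq.2 ⟨h, bot_le⟩ (nilradical_le_prime q (H := hq.1.1))) (nilradical_le_prime q (H := hq.1.1))

theorem comap_nilradical_of_injective {A B : Type*} [CommRing A] [CommRing B] (f : A →+* B)
    (hf : Function.Injective f) : (nilradical B).comap f = nilradical A := by
  ext x
  simp only [Ideal.mem_comap, mem_nilradical]
  exact IsNilpotent.map_iff hf

theorem isPrime_nilradical_of_injective {A B : Type*} [CommRing A] [CommRing B] (f : A →+* B)
    (hf : Function.Injective f) (h : (nilradical B).IsPrime) : (nilradical A).IsPrime :=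
  comap_nilradical_of_injective f hf ▸ h.comap f

theorem isPrime_nilradical_tensor_isAlgClosed {K A B : Type u} [Field K] [IsAlgClosed K] [CommRing A]
    [CommRing B] [Algebra K A] [Algebra K B] [(nilradical A).IsPrime] [(nilradical B).IsPrime] :
    (nilradical (A ⊗[K] B)).IsPrime := by
  haveI := Groth.L25.GeomIrred.isDomain_tensorProduct (k := K) (A := A ⧸ nilradical A) (B := B ⧸ nilradical B)
  let q := Algebra.TensorProduct.map (Ideal.Quotient.mkₐ K (nilradical A)) (Ideal.Quotient.mkₐ K (nilradical B))
  have hker : RingHom.ker q ≤ nilradical (A ⊗[K] B) := by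
    show RingHom.ker (Algebra.TensorProduct.map (Ideal.Quotient.mkₐ K (nilradical A))
      (Ideal.Quotient.mkₐ K (nilradical B))) ≤ _
    rw [Algebra.TensorProduct.map_ker _ _ Ideal.Quotient.mk_surjective Ideal.Quotient.mk_surjective]
    refine sup_le (Ideal.map_le_iff_le_comap.mpr fun x hx => ?_) (Ideal.map_le_iff_le_comap.mpr fun x hx => ?_)
    all_goals
      rw [Ideal.mem_comap]
      replace hx : IsNilpotent x := mem_nilradical.mp (Ideal.Quotient.eq_zero_iff_mem.mp hx)
      exact mem_nilradical.mpr (hx.map _)
  have hprime : (RingHom.ker q).IsPrime := RingHom.ker_isPrime q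
  exact le_antisymm hker (nilradical_le_prime _ (H := hprime)) ▸ hprime

theorem isPrime_nilradical_tensor {k R S : Type u} [Field k] [IsSepClosed k] [CommRing R] [CommRing S]
    [Algebra k R] [Algebra k S] (hR : (nilradical R).IsPrime) (hS : (nilradical S).IsPrime) :
    (nilradical (R ⊗[k] S)).IsPrime := by
  haveI hK : IsPurelyInseparable k (AlgebraicClosure k) := inferInstance
  have up : ∀ (T : Type u) [CommRing T] [Algebra k T], (nilradical T).IsPrime →
      (nilradical (AlgebraicClosure k ⊗[k] T)).IsPrime := by
    intro T _ _ hT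
    rw [← PrimeSpectrum.irreducibleSpace_iff_isPrime_nilradical] at hT ⊢
    have h₁ := PrimeSpectrum.isHomeomorph_comap_of_isPurelyInseparable k (AlgebraicClosure k) T
    have h₂ := PrimeSpectrum.isHomeomorph_comap_of_bijective
      (f := (Algebra.TensorProduct.comm k T (AlgebraicClosure k)).toRingEquiv.toRingHom)
      (Algebra.TensorProduct.comm k T (AlgebraicClosure k)).bijective
    exact ((h₁.comp h₂).homeomorph).irreducibleSpace_iff.mpr hT
  haveI := up R hR
  haveI := up S hS
  let e : (AlgebraicClosure k ⊗[k] R) ⊗[AlgebraicClosure k] (AlgebraicClosure k ⊗[k] S) ≃+*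
      AlgebraicClosure k ⊗[k] (R ⊗[k] S) :=
    (Algebra.TensorProduct.cancelBaseChange k (AlgebraicClosure k) (AlgebraicClosure k)
      (AlgebraicClosure k ⊗[k] R) S).toRingEquiv.trans
      (Algebra.TensorProduct.assoc k k k (AlgebraicClosure k) R S).toRingEquiv
  refine isPrime_nilradical_of_injective
    (e.symm.toRingHom.comp (Algebra.TensorProduct.includeRight :
      R ⊗[k] S →ₐ[k] AlgebraicClosure k ⊗[k] (R ⊗[k] S)).toRingHom)
    (e.symm.injective.comp
      (Algebra.TensorProduct.includeRight_injective (algebraMap k (AlgebraicClosure k)).injective))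
    isPrime_nilradical_tensor_isAlgClosed

end Groth.L02.SepClosedTensor
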