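import Mathlib.RingTheory.Flat.EquationalCriterion
import Mathlib.RingTheory.Localization.AtPrime.Basic
import Mathlib.RingTheory.Localization.Ideal
import Mathlib.RingTheory.Ideal.Maps
import Mathlib.Tactic.Ring
import Mathlib.Tactic.LinearCombination

/-!
Symbolic powers and flat extensions.
-/

namespace Groth.L02.SymbolicFlat

variable {R S : Type*} [CommRing R] [CommRing S] [Algebra R S]

/-- the symbolic power -/
def sp (p : Ideal R) [p.IsPrime] (n : ℕ) : Ideal R :=
  ((p ^ n).map (algebraMap R (Localization.AtPrime p))).comap (algebraMap R (Localization.AtPrime p))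

lemma mem_sp {p : Ideal R} [p.IsPrime] {n : ℕ} {r : R} : r ∈ sp p n ↔ ∃ s ∉ p, s * r ∈ p ^ n := by
  rw [sp, Ideal.mem_comap, IsLocalization.mem_map_algebraMap_iff p.primeCompl]
  constructor
  · rintro ⟨⟨⟨x, hx⟩, ⟨t, ht⟩⟩, h⟩
    rw [← map_mul] at h
    obtain ⟨⟨c, hc⟩, hc'⟩ := (IsLocalization.eq_iff_exists p.primeCompl _).mp h
    refine ⟨c * t, fun hct => (Ideal.IsPrime.mem_or_mem ‹_› hct).elim hc ht, ?_⟩
    rw [show c * t * r = c * x from by rw [← hc']; ring]
    exact Ideal.mul_mem_left _ _ hx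
  · rintro ⟨s, hs, hsr⟩
    exact ⟨⟨⟨s * r, hsr⟩, ⟨s, hs⟩⟩, by rw [← map_mul, mul_comm r s]⟩

lemma exists_sum {I : Ideal R} {y : S} (hy : y ∈ I.map (algebraMap R S)) :
    ∃ (m : ℕ) (a : Fin m → R) (z : Fin m → S), (∀ i, a i ∈ I) ∧ y = ∑ i, algebraMap R S (a i) * z i := by
  induction hy using Submodule.span_induction with
  | mem x hx =>
    obtain ⟨r, hr, rfl⟩ := hx
    exact ⟨1, fun _ => r, fun _ => 1, fun _ => hr, by simp⟩
  | zero => exact ⟨0, finZeroElim, finZeroElim, finZeroElim, by simp⟩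
  | add x y _ _ hx hy =>
    obtain ⟨m, a, z, ha, rfl⟩ := hx
    obtain ⟨m', a', z', ha', rfl⟩ := hy
    refine ⟨m + m', Fin.append a a', Fin.append z z', fun i => ?_, ?_⟩
    · induction i using Fin.addCases with
      | left i => rw [Fin.append_left]; exact ha i
      | right i => rw [Fin.append_right]; exact ha' i
    · simp [Fin.sum_univ_add]
  | smul c x _ hx =>
    obtain ⟨m, a, z, ha, rfl⟩ := hx
    exact ⟨m, a, fun i => c * z i, ha, by rw [smul_eq_mul, Finset.mul_sum]; congr 1; ext i; ring⟩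

variable [Module.Flat R S]

/-- scalars regular modulo an ideal stay regular modulo its extension -/
lemma mem_map_of_mul {I : Ideal R} {s : R} (hs : ∀ r, s * r ∈ I → r ∈ I) {y : S}
    (hy : algebraMap R S s * y ∈ I.map (algebraMap R S)) : y ∈ I.map (algebraMap R S) := by
  obtain ⟨m, a, z, ha, he⟩ := exists_sum hy
  have h : ∑ i : Fin (m + 1), (Fin.cons (-s) a : Fin (m + 1) → R) i • (Fin.cons y z : Fin (m + 1) → S) i = 0 := by
    rw [Fin.sum_univ_succ]
    simp [Algebra.smul_def, he]
  obtain ⟨k, A, w, hw, hA⟩ := Module.Flat.isTrivialRelation_of_sum_smul_eq_zero h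
  have h0 := hw 0
  rw [Fin.cons_zero] at h0
  rw [h0]
  refine sum_mem fun j _ => ?_
  rw [Algebra.smul_def]
  refine Ideal.mul_mem_right _ _ (Ideal.mem_map_of_mem _ (hs _ ?_))
  have := hA j
  rw [Fin.sum_univ_succ, Fin.cons_zero, neg_mul, neg_add_eq_zero] at this
  rw [this]
  exact sum_mem fun i _ => by rw [Fin.cons_succ]; exact Ideal.mul_mem_right _ _ (ha i)

variable (p : Ideal R) [p.IsPrime] [hq : (p.map (algebraMap R S)).IsPrime]

omit [Module.Flat R S] in
lemma sp_mul {k : ℕ} {a r : R} (ha : a ∈ sp p k) (hr : r ∈ p) : a * r ∈ sp p (k + 1) := by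
  obtain ⟨s, hs, hsa⟩ := mem_sp.mp ha
  exact mem_sp.mpr ⟨s, hs, by rw [← mul_assoc, pow_succ]; exact Ideal.mul_mem_mul hsa hr⟩

omit [Module.Flat R S] hq in
lemma sp_cancel {n : ℕ} {s r : R} (hs : s ∉ p) (h : s * r ∈ sp p n) : r ∈ sp p n := by
  obtain ⟨t, ht, htr⟩ := mem_sp.mp h
  exact mem_sp.mpr ⟨t * s, fun hts => (Ideal.IsPrime.mem_or_mem ‹_› hts).elim ht hs, by rwa [mul_assoc]⟩

include hq in
lemma notMem_map {s : R} (hs : s ∉ p) : algebraMap R S s ∉ p.map (algebraMap R S) := fun h =>
  hq.ne_top ((Ideal.eq_top_iff_one _).mpr (mem_map_of_mul (S := S) (I := p) (s := s)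
    (fun _ hr => (Ideal.IsPrime.mem_or_mem ‹_› hr).resolve_left hs) (by rwa [mul_one])))

include hq in
lemma step {k : ℕ} {t : S} (ht : t ∉ p.map (algebraMap R S)) (m : ℕ) (a : Fin m → R) (z : Fin m → S)
    (ha : ∀ i, a i ∈ sp p k) (e : S) (he : e ∈ (sp p (k + 1)).map (algebraMap R S))
    (htx : t * ((∑ i, algebraMap R S (a i) * z i) + e) ∈ (sp p (k + 1)).map (algebraMap R S)) :
    (∑ i, algebraMap R S (a i) * z i) + e ∈ (sp p (k + 1)).map (algebraMap R S) := by
  induction m generalizing e with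
  | zero => simpa using he
  | succ m ih =>
    by_cases hind : ∀ c : Fin (m + 1) → R, ∑ i, a i * c i ∈ sp p (k + 1) → ∀ i, c i ∈ p
    · refine Ideal.add_mem _ ?_ he
      rw [mul_add, Ideal.add_mem_iff_left _ (Ideal.mul_mem_left _ t he)] at htx
      obtain ⟨l, b, u, hb, hbu⟩ := exists_sum htx
      have h : ∑ i : Fin (m + 1) ⊕ Fin l, Sum.elim a (fun j => -b j) i • Sum.elim (fun i => t * z i) u i = 0 := by
        rw [Fintype.sum_sum_type]
        simp only [Sum.elim_inl, Sum.elim_inr, Algebra.smul_def, map_neg, neg_mul, Finset.sum_neg_distrib]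
        rw [← hbu, Finset.mul_sum, add_neg_eq_zero]
        exact Finset.sum_congr rfl fun i _ => by ring
      obtain ⟨n, A, w, hw, hA⟩ := Module.Flat.isTrivialRelation_of_sum_smul_eq_zero h
      refine sum_mem fun i _ => ?_
      have hz : z i ∈ p.map (algebraMap R S) := by
        refine (hq.mem_or_mem ?_).resolve_left ht
        have := hw (Sum.inl i)
        rw [Sum.elim_inl] at this
        rw [this]
        refine sum_mem fun j _ => ?_
        rw [Algebra.smul_def]
        refine Ideal.mul_mem_right _ _ (Ideal.mem_map_of_mem _ ?_)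
        refine hind (fun i => A (Sum.inl i) j) ?_ i
        have := hA j
        simp only [Fintype.sum_sum_type, Sum.elim_inl, Sum.elim_inr, neg_mul, Finset.sum_neg_distrib, add_neg_eq_zero] at this
        rw [this]
        exact sum_mem fun q _ => Ideal.mul_mem_right _ _ (hb q)
      obtain ⟨l', r, u', hr, hru⟩ := exists_sum hz
      rw [hru, Finset.mul_sum]
      refine sum_mem fun q _ => ?_
      rw [← mul_assoc, ← map_mul]
      exact Ideal.mul_mem_right _ _ (Ideal.mem_map_of_mem _ (sp_mul p (ha i) (hr q)))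
    · push Not at hind
      obtain ⟨c, hc, i₀, hi₀⟩ := hind
      refine mem_map_of_mul (s := c i₀) (fun r => sp_cancel p hi₀) ?_
      have key : algebraMap R S (c i₀) * ((∑ i, algebraMap R S (a i) * z i) + e) =
          (∑ i, algebraMap R S (a (i₀.succAbove i)) *
            (algebraMap R S (c i₀) * z (i₀.succAbove i) - algebraMap R S (c (i₀.succAbove i)) * z i₀)) +
          (algebraMap R S (∑ i, a i * c i) * z i₀ + algebraMap R S (c i₀) * e) := by
        rw [Fin.sum_univ_succAbove _ i₀, Fin.sum_univ_succAbove _ i₀]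
        simp only [map_add, map_sum, map_mul, mul_sub, Finset.sum_sub_distrib, add_mul, mul_add, Finset.mul_sum,
          Finset.sum_mul]
        ring_nf
      rw [key]
      refine ih _ _ (fun i => ha _) _ (Ideal.add_mem _ (Ideal.mul_mem_right _ _ (Ideal.mem_map_of_mem _ hc))
        (Ideal.mul_mem_left _ _ he)) ?_
      rw [← key, mul_left_comm]
      exact Ideal.mul_mem_left _ _ htx

include hq in
theorem map_sp (n : ℕ) : (sp p n).map (algebraMap R S) = sp (p.map (algebraMap R S)) n := by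
  refine le_antisymm (Ideal.map_le_iff_le_comap.mpr fun r hr => ?_) fun x hx => ?_
  · obtain ⟨s, hs, hsr⟩ := mem_sp.mp hr
    refine mem_sp.mpr ⟨algebraMap R S s, notMem_map p hs, ?_⟩
    rw [← map_mul, ← Ideal.map_pow]
    exact Ideal.mem_map_of_mem _ hsr
  · obtain ⟨t, ht, htx⟩ := mem_sp.mp hx
    rw [← Ideal.map_pow] at htx
    suffices ∀ k, k ≤ n → x ∈ (sp p k).map (algebraMap R S) from this n le_rfl
    intro k hk
    induction k with
    | zero =>
      have : sp p 0 = ⊤ := by simp [sp, Ideal.map_top]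
      simp [this, Ideal.map_top]
    | succ k ih =>
      obtain ⟨m, a, z, ha, hxe⟩ := exists_sum (ih (by omega))
      have := step p ht m a z ha 0 (zero_mem _) (by
        rw [add_zero, ← hxe]
        refine Ideal.map_mono (fun r hr => ?_) htx
        exact mem_sp.mpr ⟨1, fun h1 => ‹p.IsPrime›.ne_top ((Ideal.eq_top_iff_one _).mpr h1),
          by rw [one_mul]; exact Ideal.pow_le_pow_right hk hr⟩)
      rwa [add_zero, ← hxe] at this

end Groth.L02.SymbolicFlat
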