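import Groth.Agent.L28.Balance
import Groth.Agent.L28.TorFacts
import Mathlib.Algebra.Category.ModuleCat.Monoidal.Symmetric

/-!
`Tor` is isomorphic to its flip, naturally in both variables.
-/

set_option autoImplicit false
universe u

open CategoryTheory CategoryTheory.Limits MonoidalCategory HomologicalComplex
open scoped TensorProduct
open Groth.L28.TensorCx
open Groth.L28

namespace Groth.L02.TorFlip

variable {A : Type u} [CommRing A] (i : ℕ)

noncomputable abbrev P (M : ModuleCat.{u} A) : ProjectiveResolution M := projectiveResolution M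

noncomputable abbrev L {M M' : ModuleCat.{u} A} (f : M ⟶ M') : (P M).complex ⟶ (P M').complex :=
  ProjectiveResolution.lift f (P M) (P M')

/-- `M ⊗ P(N)` -/
noncomputable abbrev K (M N : ModuleCat.{u} A) : ChainComplex (ModuleCat.{u} A) ℕ :=
  (((tensoringLeft (ModuleCat.{u} A)).obj M).mapHomologicalComplex (ComplexShape.down ℕ)).obj (P N).complex

noncomputable abbrev Km {M M' N N' : ModuleCat.{u} A} (f : M ⟶ M') (g : N ⟶ N') : K M N ⟶ K M' N' :=
  (NatTrans.mapHomologicalComplex ((tensoringLeft (ModuleCat.{u} A)).map f) (ComplexShape.down ℕ)).app (P N).complex ≫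
    (((tensoringLeft (ModuleCat.{u} A)).obj M').mapHomologicalComplex (ComplexShape.down ℕ)).map (L g)

/-- `Tor(M, N) ≅ H(M ⊗ P(N))` -/
noncomputable def torIso (M N : ModuleCat.{u} A) :
    ((CategoryTheory.Tor (ModuleCat.{u} A) i).obj M).obj N ≅ (K M N).homology i :=
  (P N).isoLeftDerivedObj ((tensoringLeft _).obj M) i

lemma torIso_natural {M M' N N' : ModuleCat.{u} A} (f : M ⟶ M') (g : N ⟶ N') :
    (((CategoryTheory.Tor (ModuleCat.{u} A) i).map f).app N ≫
        ((CategoryTheory.Tor (ModuleCat.{u} A) i).obj M').map g) ≫ (torIso i M' N').hom =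
      (torIso i M N).hom ≫ homologyMap (Km f g) i := by
  rw [homologyMap_comp]
  show ((NatTrans.leftDerived ((tensoringLeft _).map f) i).app N ≫
    (Functor.leftDerived ((tensoringLeft _).obj M') i).map g) ≫ ((P N').isoLeftDerivedObj _ i).hom = _
  rw [Category.assoc,
    ProjectiveResolution.isoLeftDerivedObj_hom_naturality g (P N) (P N') (L g)
      (ProjectiveResolution.lift_commutes_zero g _ _),
    ProjectiveResolution.leftDerived_app_eq ((tensoringLeft _).map f) (P N) i]
  simp only [Category.assoc, Iso.inv_hom_id_assoc]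
  rfl

/-- the total complex -/
noncomputable abbrev T (M N : ModuleCat.{u} A) : ChainComplex (ModuleCat.{u} A) ℕ :=
  HomologicalComplex.tensorObj (P M).complex (P N).complex

theorem exists_second (M N : ModuleCat.{u} A) :
    ∃ φ : T M N ⟶ K M N,
      (∀ n x, φ.f n x = Groth.L28.Balance.e₂ (P N).complex ((P M).π.f 0) n x) ∧ QuasiIso φ :=
  Groth.L28.Balance.exists_iso₂ (P M).complex (P N).complex ((P M).π.f 0)
    (Groth.L28.Balance.isRes_projectiveResolution (P M))
    (Groth.L28.Balance.isRes_projectiveResolution (P N)).flat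

theorem exists_first (M N : ModuleCat.{u} A) :
    ∃ φ : T M N ⟶ ((tensorRight N).mapHomologicalComplex (ComplexShape.down ℕ)).obj (P M).complex,
      (∀ n x, φ.f n x = Groth.L28.Balance.e₁ (P M).complex ((P N).π.f 0) n x) ∧ QuasiIso φ :=
  Groth.L28.Balance.exists_iso₁ (P M).complex (P N).complex ((P N).π.f 0)
    (Groth.L28.Balance.isRes_projectiveResolution (P N))
    (Groth.L28.Balance.isRes_projectiveResolution (P M)).flat

/-- `P(M) ⊗ N ≅ N ⊗ P(M)` -/
noncomputable def swapIso (M N : ModuleCat.{u} A) :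
    ((tensorRight N).mapHomologicalComplex (ComplexShape.down ℕ)).obj (P M).complex ≅ K N M :=
  (NatIso.mapHomologicalComplex
    (NatIso.ofComponents (fun X => β_ X N) (fun f => BraidedCategory.braiding_naturality_left f N) :
      tensorRight N ≅ (tensoringLeft (ModuleCat.{u} A)).obj N) _).app _

noncomputable def φ₂ (M N : ModuleCat.{u} A) : T M N ⟶ K M N := (exists_second M N).choose

noncomputable def φ₁ (M N : ModuleCat.{u} A) : T M N ⟶ K N M :=
  (exists_first M N).choose ≫ (swapIso M N).hom

lemma φ₂_ins (M N : ModuleCat.{u} A) (p q n : ℕ) (h : p + q = n) (x : (P M).complex.X p)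
    (y : (P N).complex.X q) :
    (φ₂ M N).f n (ins (P M).complex (P N).complex p q n h (x ⊗ₜ y)) =
      Groth.L28.Balance.e₂ (P N).complex ((P M).π.f 0) n (ins (P M).complex (P N).complex p q n h (x ⊗ₜ y)) :=
  (exists_second M N).choose_spec.1 _ _

lemma φ₁_ins (M N : ModuleCat.{u} A) (p q n : ℕ) (h : p + q = n) (x : (P M).complex.X p)
    (y : (P N).complex.X q) :
    (φ₁ M N).f n (ins (P M).complex (P N).complex p q n h (x ⊗ₜ y)) =
      TensorProduct.comm A ((P M).complex.X n) N
        (Groth.L28.Balance.e₁ (P M).complex ((P N).π.f 0) n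
          (ins (P M).complex (P N).complex p q n h (x ⊗ₜ y))) := by
  show (swapIso M N).hom.f n ((exists_first M N).choose.f n _) = _
  rw [(exists_first M N).choose_spec.1]
  rfl

lemma lift_π {M M' : ModuleCat.{u} A} (f : M ⟶ M') (x : (P M).complex.X 0) :
    ((P M').π.f 0) ((L f).f 0 x) = f ((P M).π.f 0 x) :=
  ConcreteCategory.congr_hom (ProjectiveResolution.lift_commutes_zero f (P M) (P M')) x

lemma φ₂_natural {M M' N N' : ModuleCat.{u} A} (f : M ⟶ M') (g : N ⟶ N') :
    HomologicalComplex.tensorHom (L f) (L g) ≫ φ₂ M' N' = φ₂ M N ≫ Km f g := by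
  ext n : 1
  refine hom_ext fun p q h z => ?_
  show (φ₂ M' N').f n ((HomologicalComplex.tensorHom (L f) (L g)).f n (ins _ _ p q n h z)) =
    (Km f g).f n ((φ₂ M N).f n (ins _ _ p q n h z))
  induction z using TensorProduct.induction_on with
  | zero => simp only [map_zero]
  | tmul x y =>
    rw [map_ins, TensorProduct.map_tmul, φ₂_ins, φ₂_ins]
    rcases p with _ | p
    · obtain rfl : q = n := by omega
      erw [Groth.L28.Balance.e₂_ins_self, Groth.L28.Balance.e₂_ins_self]
      show ((P M').π.f 0) ((L f).f 0 x) ⊗ₜ[A] (L g).f q y = f ((P M).π.f 0 x) ⊗ₜ[A] (L g).f q y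
      rw [lift_π]
      rfl
    · rw [Groth.L28.Balance.e₂_eq_zero (P N').complex (S := fun a b => a = p + 1 ∧ b = q) (by omega)
          (ins_mem_fil _ _ (S := fun a b => a = p + 1 ∧ b = q) h ⟨rfl, rfl⟩ _),
        Groth.L28.Balance.e₂_eq_zero (P N).complex (S := fun a b => a = p + 1 ∧ b = q) (by omega)
          (ins_mem_fil _ _ (S := fun a b => a = p + 1 ∧ b = q) h ⟨rfl, rfl⟩ _)]
      exact (map_zero ((Km f g).f n).hom).symm
  | add a b ha hb => simp only [map_add, ha, hb]

lemma φ₁_natural {M M' N N' : ModuleCat.{u} A} (f : M ⟶ M') (g : N ⟶ N') :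
    HomologicalComplex.tensorHom (L f) (L g) ≫ φ₁ M' N' = φ₁ M N ≫ Km g f := by
  ext n : 1
  refine hom_ext fun p q h z => ?_
  show (φ₁ M' N').f n ((HomologicalComplex.tensorHom (L f) (L g)).f n (ins _ _ p q n h z)) =
    (Km g f).f n ((φ₁ M N).f n (ins _ _ p q n h z))
  induction z using TensorProduct.induction_on with
  | zero => simp only [map_zero]
  | tmul x y =>
    rw [map_ins, TensorProduct.map_tmul, φ₁_ins, φ₁_ins]
    rcases q with _ | q
    · obtain rfl : p = n := by omega
      erw [Groth.L28.Balance.e₁_ins_zero, Groth.L28.Balance.e₁_ins_zero]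
      show ((P N').π.f 0) ((L g).f 0 y) ⊗ₜ[A] (L f).f p x = g ((P N).π.f 0 y) ⊗ₜ[A] (L f).f p x
      rw [lift_π]
      rfl
    · rw [Groth.L28.Balance.e₁_eq_zero (P M').complex (S := fun a b => a = p ∧ b = q + 1) (by omega)
          (ins_mem_fil _ _ (S := fun a b => a = p ∧ b = q + 1) h ⟨rfl, rfl⟩ _),
        Groth.L28.Balance.e₁_eq_zero (P M).complex (S := fun a b => a = p ∧ b = q + 1) (by omega)
          (ins_mem_fil _ _ (S := fun a b => a = p ∧ b = q + 1) h ⟨rfl, rfl⟩ _)]
      erw [map_zero]
  | add a b ha hb => simp only [map_add, ha, hb]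

lemma isIso_homologyMap_φ₂ (M N : ModuleCat.{u} A) : IsIso (homologyMap (φ₂ M N) i) :=
  (HomElt.isIso_homologyMap_iff (φ₂ M N) i).mpr
    (@HomElt.bijective_homologyMap_of_quasiIso _ _ _ _ _ _ (φ₂ M N) (exists_second M N).choose_spec.2 i)

lemma isIso_homologyMap_φ₁ (M N : ModuleCat.{u} A) : IsIso (homologyMap (φ₁ M N) i) := by
  have h1 : IsIso (homologyMap (exists_first M N).choose i) :=
    (HomElt.isIso_homologyMap_iff (exists_first M N).choose i).mpr
      (@HomElt.bijective_homologyMap_of_quasiIso _ _ _ _ _ _ (exists_first M N).choose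
        (exists_first M N).choose_spec.2 i)
  show IsIso (homologyMap ((exists_first M N).choose ≫ (swapIso M N).hom) i)
  rw [homologyMap_comp]
  haveI : IsIso (homologyMap (swapIso M N).hom i) :=
    inferInstanceAs (IsIso (homologyMapIso (swapIso M N) i).hom)
  infer_instance

noncomputable def flipIso (M N : ModuleCat.{u} A) :
    ((CategoryTheory.Tor (ModuleCat.{u} A) i).obj M).obj N ≅
      ((CategoryTheory.Tor (ModuleCat.{u} A) i).obj N).obj M :=
  torIso i M N ≪≫ (@asIso _ _ _ _ (homologyMap (φ₂ M N) i) (isIso_homologyMap_φ₂ i M N)).symm ≪≫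
    @asIso _ _ _ _ (homologyMap (φ₁ M N) i) (isIso_homologyMap_φ₁ i M N) ≪≫ (torIso i N M).symm

lemma flipIso_natural {M M' N N' : ModuleCat.{u} A} (f : M ⟶ M') (g : N ⟶ N') :
    (((CategoryTheory.Tor (ModuleCat.{u} A) i).map f).app N ≫
        ((CategoryTheory.Tor (ModuleCat.{u} A) i).obj M').map g) ≫ (flipIso i M' N').hom =
      (flipIso i M N).hom ≫ (((CategoryTheory.Tor (ModuleCat.{u} A) i).map g).app M ≫
        ((CategoryTheory.Tor (ModuleCat.{u} A) i).obj N').map f) := by
  haveI := fun M N : ModuleCat.{u} A => isIso_homologyMap_φ₂ i M N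
  haveI := fun M N : ModuleCat.{u} A => isIso_homologyMap_φ₁ i M N
  have h2 : homologyMap (Km f g) i ≫ inv (homologyMap (φ₂ M' N') i) =
      inv (homologyMap (φ₂ M N) i) ≫ homologyMap (HomologicalComplex.tensorHom (L f) (L g)) i := by
    rw [IsIso.comp_inv_eq, Category.assoc, IsIso.eq_inv_comp, ← homologyMap_comp, ← homologyMap_comp,
      φ₂_natural]
  have h1 : homologyMap (HomologicalComplex.tensorHom (L f) (L g)) i ≫ homologyMap (φ₁ M' N') i =
      homologyMap (φ₁ M N) i ≫ homologyMap (Km g f) i := by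
    rw [← homologyMap_comp, ← homologyMap_comp, φ₁_natural]
  have h3 := torIso_natural i f g
  have h4 := torIso_natural i g f
  rw [← Iso.eq_comp_inv] at h4
  simp only [flipIso, Iso.trans_hom, Iso.symm_hom, asIso_inv, asIso_hom]
  rw [← Category.assoc, h3]
  simp only [Category.assoc]
  rw [reassoc_of% h2, reassoc_of% h1]
  congr 3
  rw [h4]
  simp

theorem nonempty_flip : Nonempty (CategoryTheory.Tor (ModuleCat.{u} A) i ≅
    (CategoryTheory.Tor (ModuleCat.{u} A) i).flip) := by
  refine ⟨NatIso.ofComponents (fun M => NatIso.ofComponents (fun N => flipIso i M N) fun {N N'} g => ?_)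
    fun {M M'} f => NatTrans.ext (funext fun N => ?_)⟩
  · have h := flipIso_natural i (𝟙 M) g
    simp only [CategoryTheory.Functor.map_id, NatTrans.id_app, Category.id_comp, Category.comp_id] at h
    exact h
  · have h := flipIso_natural i f (𝟙 N)
    simp only [CategoryTheory.Functor.map_id, NatTrans.id_app, Category.id_comp, Category.comp_id] at h
    exact h

end Groth.L02.TorFlip
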