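import Groth.Agent.L02.GorensteinReflexive
import Groth.Agent.S5763
import Mathlib.RingTheory.Ideal.MinimalPrime.Localization
import Mathlib.RingTheory.Ideal.MinimalPrime.Noetherian
import Mathlib.RingTheory.IntegralClosure.IsIntegralClosure.Basic
import Mathlib.RingTheory.Localization.AtPrime.Basic
import Mathlib.RingTheory.KrullDimension.PID
import Mathlib.RingTheory.Artinian.Module
import Mathlib.LinearAlgebra.FreeModule.PID
import Mathlib.RingTheory.LocalProperties.Reduced

/-!
Torsionless modules over finite free reduced algebras over a PID.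
-/

set_option autoImplicit false
universe u

namespace Groth.L02.Torsionless

variable {S : Type u} [CommRing S] [IsReduced S] [IsNoetherianRing S]

theorem exists_notMem_of_minimal {P : Ideal S} (hP : P ∈ minimalPrimes S) :
    ∃ e : S, e ∉ P ∧ ∀ x ∈ P, e * x = 0 := by
  classical
  haveI := hP.1.1
  have hfin : (minimalPrimes S).Finite := minimalPrimes.finite_of_isNoetherianRing S
  have hex : ∀ Q ∈ (minimalPrimes S) \ {P}, ∃ y ∈ Q, y ∉ P := by
    rintro Q ⟨hQ, hne⟩
    by_contra! hle
    exact hne (le_antisymm (hle : Q ≤ P) (hP.2 hQ.1 hle))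
  choose y hy hyP using hex
  let s := (hfin.sdiff (t := {P})).toFinset
  refine ⟨∏ Q ∈ s.attach, y Q.1 ((Set.Finite.mem_toFinset _).mp Q.2), ?_, fun x hx => ?_⟩
  · intro h
    obtain ⟨Q, -, hQ⟩ := (Ideal.IsPrime.prod_mem_iff (p := P)).mp h
    exact hyP _ _ hQ
  · apply IsNilpotent.eq_zero
    rw [← mem_nilradical, nilradical_eq_sInf, Ideal.mem_sInf]
    intro Q hQ
    haveI : Q.IsPrime := hQ
    obtain ⟨Q', hQ', hle⟩ := Ideal.exists_minimalPrimes_le (bot_le : (⊥ : Ideal S) ≤ Q)
    by_cases h : Q' = P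
    · exact hle (Ideal.mul_mem_left _ _ (h.ge hx))
    · refine hle (Q'.mul_mem_right _ ?_)
      have hmem : Q' ∈ s := (Set.Finite.mem_toFinset _).mpr ⟨hQ', h⟩
      obtain ⟨c, hc⟩ := Finset.dvd_prod_of_mem (fun Q : {x // x ∈ s} => y Q.1 ((Set.Finite.mem_toFinset _).mp Q.2))
        (Finset.mem_attach s ⟨Q', hmem⟩)
      rw [hc]
      exact Q'.mul_mem_right _ (hy _ _)

theorem exists_functional {M : Type u} [AddCommGroup M] [Module S M] [Module.Finite S M]
    {P : Ideal S} (hP : P ∈ minimalPrimes S) [P.IsPrime] {m : M}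
    (hm : ∀ c ∉ P, c • m ≠ 0) : ∃ f : M →ₗ[S] S, f m ≠ 0 := by
  classical
  obtain ⟨e, heP, he⟩ := exists_notMem_of_minimal hP
  have hker : LinearMap.ker (Algebra.linearMap S (Localization.AtPrime P)) ≤ LinearMap.ker (LinearMap.mulLeft S e) := by
    intro x hx
    obtain ⟨c, hc⟩ := (IsLocalization.map_eq_zero_iff P.primeCompl _ _).mp (LinearMap.mem_ker.mp hx)
    have hxP : x ∈ P :=
      (Ideal.IsPrime.mem_or_mem (I := P) inferInstance (hc ▸ P.zero_mem : (c : S) * x ∈ P)).resolve_left c.2
    exact he x hxP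
  haveI : Ring.KrullDimLE 0 (Localization.AtPrime P) := by
    haveI := IsLocalization.subsingleton_primeSpectrum_of_mem_minimalPrimes P hP (Localization.AtPrime P)
    infer_instance
  letI : Field (Localization.AtPrime P) :=
    IsField.toField (Ring.KrullDimLE.isField_of_isReduced)
  let m' : LocalizedModule P.primeCompl M := LocalizedModule.mk m 1
  have hm' : m' ≠ 0 := by
    intro h0
    rw [show m' = LocalizedModule.mkLinearMap P.primeCompl M m from rfl] at h0
    obtain ⟨c, hc⟩ := (IsLocalizedModule.eq_zero_iff P.primeCompl _).mp h0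
    exact hm c c.2 hc
  obtain ⟨φ, hφ⟩ : ∃ φ : LocalizedModule P.primeCompl M →ₗ[Localization.AtPrime P] Localization.AtPrime P, φ m' ≠ 0 := by
    by_contra! hall
    exact hm' ((Module.forall_dual_apply_eq_zero_iff (Localization.AtPrime P) m').mp hall)
  let φ' : M →ₗ[S] Localization.AtPrime P := φ.restrictScalars S ∘ₗ LocalizedModule.mkLinearMap P.primeCompl M
  obtain ⟨n, g, hg⟩ := Module.Finite.exists_fin (R := S) (M := M)
  obtain ⟨t, ht⟩ := IsLocalization.exist_integer_multiples_of_finite P.primeCompl fun i => φ' (g i)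
  have hrange : ∀ x, ((t : S) • φ') x ∈ LinearMap.range (Algebra.linearMap S (Localization.AtPrime P)) := by
    intro x
    have : ⊤ ≤ (LinearMap.range (Algebra.linearMap S (Localization.AtPrime P))).comap ((t : S) • φ') := by
      rw [← hg, Submodule.span_le]
      rintro _ ⟨i, rfl⟩
      obtain ⟨c, hc⟩ := ht i
      exact ⟨c, hc⟩
    exact this (Submodule.mem_top (x := x))
  let F : M →ₗ[S] S :=
    (LinearMap.ker (Algebra.linearMap S (Localization.AtPrime P))).liftQ _ hker ∘ₗ
      (Algebra.linearMap S (Localization.AtPrime P)).quotKerEquivRange.symm.toLinearMap ∘ₗ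
        LinearMap.codRestrict _ ((t : S) • φ') hrange
  obtain ⟨a, ha⟩ := hrange m
  refine ⟨F, ?_⟩
  have hFm : F m = e * a := by
    have : LinearMap.codRestrict _ ((t : S) • φ') hrange m =
        ⟨Algebra.linearMap S (Localization.AtPrime P) a, LinearMap.mem_range_self _ a⟩ := Subtype.ext ha.symm
    simp only [F, LinearMap.comp_apply, LinearEquiv.coe_coe, this, LinearMap.quotKerEquivRange_symm_apply_image,
      Submodule.mkQ_apply, Submodule.liftQ_apply, LinearMap.mulLeft_apply]
  rw [hFm]
  intro h0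
  have haP : a ∈ P := (Ideal.IsPrime.mem_or_mem (I := P) inferInstance (h0 ▸ P.zero_mem : e * a ∈ P)).resolve_left heP
  have hne : (t : S) • φ' m ≠ 0 := by
    rw [Algebra.smul_def]
    exact mul_ne_zero (IsUnit.ne_zero (IsLocalization.map_units _ t)) hφ
  refine hne ?_
  rw [← LinearMap.smul_apply, ← ha]
  show algebraMap S (Localization.AtPrime P) a = 0
  refine (IsLocalization.map_eq_zero_iff P.primeCompl _ _).mpr ⟨⟨e, heP⟩, ?_⟩
  exact he a haP

variable {L : Type u} [CommRing L] [IsDomain L] [Algebra L S] [Module.Finite L S] [Module.Free L S]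

theorem injective_eval_of_free {M : Type u} [AddCommGroup M] [Module S M] [Module L M] [IsScalarTower L S M]
    [Module.Finite S M] [Module.Free L M] : Function.Injective (Module.Dual.eval S M) := by
  classical
  rw [injective_iff_map_eq_zero]
  intro m hm
  by_contra hm0
  obtain ⟨P, hP, hmP⟩ : ∃ P ∈ minimalPrimes S, ∀ c ∉ P, c • m ≠ 0 := by
    by_contra! h
    have hfin : (minimalPrimes S).Finite := minimalPrimes.finite_of_isNoetherianRing S
    let I : Ideal S := LinearMap.ker (LinearMap.toSpanSingleton S M m)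
    have hsub : ¬ (I : Set S) ⊆ ⋃ P ∈ (hfin.toFinset : Set (Ideal S)), (P : Set S) := by
      rw [Ideal.subset_union_prime ⊥ ⊥ fun P hP _ _ => ((Set.Finite.mem_toFinset _).mp hP).1.1]
      rintro ⟨P, hP, hle⟩
      obtain ⟨c, hc, hc0⟩ := h P ((Set.Finite.mem_toFinset _).mp hP)
      exact hc (hle hc0)
    obtain ⟨s, hsI, hs⟩ := Set.not_subset.mp hsub
    simp only [Set.mem_iUnion, not_exists, Finset.mem_coe, Set.Finite.mem_toFinset] at hs
    have hreg : s ∈ nonZeroDivisors S := by
      refine mem_nonZeroDivisors_iff_right.mpr fun x hx => IsNilpotent.eq_zero ?_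
      rw [← mem_nilradical, nilradical_eq_sInf, Ideal.mem_sInf]
      intro Q hQ
      haveI : Q.IsPrime := hQ
      obtain ⟨Q', hQ', hle⟩ := Ideal.exists_minimalPrimes_le (bot_le : (⊥ : Ideal S) ≤ Q)
      haveI := hQ'.1.1
      exact hle ((Ideal.IsPrime.mem_or_mem (I := Q') inferInstance (hx ▸ Q'.zero_mem : x * s ∈ Q')).resolve_right
        (hs Q' hQ'))
    obtain ⟨l, hl, c, hc⟩ : ∃ l : L, l ≠ 0 ∧ ∃ c : S, c * s = algebraMap L S l := by
      obtain ⟨p, hmon, hp⟩ := Algebra.IsIntegral.isIntegral (R := L) s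
      have hex : ∃ (d : ℕ) (q : Polynomial L), q ≠ 0 ∧ q.natDegree = d ∧ Polynomial.aeval s q = 0 :=
        ⟨_, p, hmon.ne_zero, rfl, hp⟩
      obtain ⟨q, hq0, hqd, hq⟩ := Nat.find_spec hex
      refine ⟨q.coeff 0, fun h0 => ?_, -Polynomial.aeval s q.divX, ?_⟩
      · obtain ⟨r, hr⟩ := Polynomial.X_dvd_iff.mpr h0
        have hr0 : r ≠ 0 := fun h => hq0 (by rw [hr, h, mul_zero])
        rw [hr, map_mul, Polynomial.aeval_X] at hq
        have : Polynomial.aeval s r = 0 := (mem_nonZeroDivisors_iff_left.mp hreg) _ hq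
        refine Nat.find_min hex (m := r.natDegree) ?_ ⟨r, hr0, rfl, this⟩
        rw [← hqd, hr, Polynomial.natDegree_X_mul hr0]
        omega
      · have h1 : Polynomial.aeval s (Polynomial.X * q.divX + Polynomial.C (q.coeff 0)) = 0 := by
          rw [Polynomial.X_mul_divX_add]; exact hq
        rw [map_add, map_mul, Polynomial.aeval_X, Polynomial.aeval_C] at h1
        linear_combination -h1
    have : l • m = 0 := by
      rw [← algebraMap_smul S l m, ← hc, mul_smul, show s • m = 0 from hsI, smul_zero]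
    exact hm0 ((smul_eq_zero.mp this).resolve_left hl)
  haveI := hP.1.1
  obtain ⟨f, hf⟩ := exists_functional hP hmP
  exact hf (LinearMap.congr_fun hm f)

theorem free_of_injective_eval [IsPrincipalIdealRing L] {M : Type u} [AddCommGroup M] [Module S M] [Module L M]
    [IsScalarTower L S M] [Module.Finite S M] (h : Function.Injective (Module.Dual.eval S M)) : Module.Free L M := by
  obtain ⟨r, ψ, hψ⟩ := GorensteinReflexive.exists_embedding h
  haveI : Module.Finite L M := Module.Finite.trans S M
  haveI : Module.IsTorsionFree L M := Function.Injective.moduleIsTorsionFree (ψ.restrictScalars L) hψ (map_smul _)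
  exact Module.free_of_finite_type_torsion_free'

theorem dim_le_one [IsPrincipalIdealRing L] : ringKrullDim S ≤ 1 := by
  refine (Groth.Agent.S5763.result L S).1.trans ?_
  rw [← Nat.cast_one, ← Ring.krullDimLE_iff]
  infer_instance

end Groth.L02.Torsionless
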