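import Mathlib.RingTheory.WittVector.Domain
import Mathlib.RingTheory.WittVector.Identities
import Mathlib.RingTheory.WittVector.InitTail
import Mathlib.Algebra.MvPolynomial.CommRing
import Mathlib.RingTheory.MvPolynomial.Basic
import Mathlib.Data.ZMod.Basic
import Mathlib.RingTheory.WittVector.Teichmuller

/-!
Witt vectors of an extension spanned by `ℓ`-th roots, `ℓ` prime to `p`: a nonzero multiple of every
element of `V^n W(B)` lies in the ideal generated by `V^n W(A)`.
-/

namespace Groth.L02.WittKummer

universe u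

open WittVector MvPolynomial

variable {p : ℕ} [Fact p.Prime]

section basics

variable {R : Type*} [CommRing R]

lemma verschiebung_shift_one (x : WittVector p R) (h : x.coeff 0 = 0) :
    verschiebung (x.shift 1) = x := by
  ext ⟨j⟩
  · rw [verschiebung_coeff_zero, h]
  · rw [verschiebung_coeff_succ, WittVector.shift_coeff, add_comm]

lemma coeff_teichmuller_add_verschiebung (a : R) (y : WittVector p R) (k : ℕ) :
    (teichmuller p a + verschiebung y).coeff k = if k = 0 then a else y.coeff (k - 1) := by
  rw [coeff_add_of_disjoint]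
  · cases k with
    | zero => simp [teichmuller_coeff_zero, verschiebung_coeff_zero]
    | succ k => simp [teichmuller_coeff_pos, verschiebung_coeff_succ]
  · intro j
    cases j with
    | zero => exact Or.inr (verschiebung_coeff_zero _)
    | succ j => exact Or.inl (teichmuller_coeff_pos p a _ j.succ_pos)

lemma eq_teichmuller_add_verschiebung (x : WittVector p R) :
    x = teichmuller p (x.coeff 0) + verschiebung (x.shift 1) := by
  ext ⟨j⟩ <;> simp [coeff_teichmuller_add_verschiebung, WittVector.shift_coeff, add_comm]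

lemma frobenius_teichmuller [CharP R p] (c : R) :
    frobenius (teichmuller p c) = teichmuller p (c ^ p) := by
  ext ⟨j⟩
  · rw [coeff_frobenius_charP, teichmuller_coeff_zero, teichmuller_coeff_zero]
  · rw [coeff_frobenius_charP, teichmuller_coeff_pos p _ _ (Nat.succ_pos _),
      teichmuller_coeff_pos p _ _ (Nat.succ_pos _), zero_pow (Fact.out (p := p.Prime)).ne_zero]

lemma iterate_frobenius_teichmuller [CharP R p] (c : R) (n : ℕ) :
    (⇑(frobenius : WittVector p R →+* WittVector p R))^[n] (teichmuller p c) =
      teichmuller p (c ^ p ^ n) := by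
  induction n with
  | zero => simp
  | succ n ih =>
    rw [Function.iterate_succ_apply', ih, frobenius_teichmuller, ← pow_mul, pow_succ]

lemma coeff_mul_teichmuller [CharP R p] (x : WittVector p R) (c : R) (k : ℕ) :
    (x * teichmuller p c).coeff k = x.coeff k * c ^ p ^ k := by
  induction k generalizing x c with
  | zero => simp [mul_coeff_zero, teichmuller_coeff_zero]
  | succ k ih =>
    conv_lhs => rw [eq_teichmuller_add_verschiebung x]
    rw [add_mul, ← map_mul, ← verschiebung_mul_frobenius, frobenius_teichmuller,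
      coeff_teichmuller_add_verschiebung, if_neg k.succ_ne_zero, Nat.add_sub_cancel, ih,
      WittVector.shift_coeff, add_comm 1 k, ← pow_mul, ← pow_succ']

lemma map_iterate_verschiebung {S : Type*} [CommRing S] (f : R →+* S) (x : WittVector p R) (n : ℕ) :
    WittVector.map f ((⇑(verschiebung : WittVector p R →+ WittVector p R))^[n] x) =
      (⇑(verschiebung : WittVector p S →+ WittVector p S))^[n] (WittVector.map f x) := by
  induction n with
  | zero => rfl
  | succ n ih => rw [Function.iterate_succ_apply', map_verschiebung, ih, Function.iterate_succ_apply']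

lemma iterate_verschiebung_sum {ι : Type*} (t : Finset ι) (f : ι → WittVector p R) (n : ℕ) :
    (⇑(verschiebung : WittVector p R →+ WittVector p R))^[n] (∑ i ∈ t, f i) =
      ∑ i ∈ t, (⇑(verschiebung : WittVector p R →+ WittVector p R))^[n] (f i) := by
  induction n with
  | zero => rfl
  | succ n ih => simp only [Function.iterate_succ_apply', ih, map_sum]

/-- Decomposition of a Witt vector along decompositions of its components. -/
theorem exists_decomp {Γ : Type*} [Fintype Γ] (part : ℕ → Γ → R → R)
    (hpart : ∀ k r, ∑ γ, part k γ r = r) (η : WittVector p R) :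
    ∃ u : Γ → WittVector p R, η = ∑ γ, u γ ∧ ∀ γ k, ∃ r, (u γ).coeff k = part k γ r := by
  obtain ⟨r, hr0, hrs⟩ : ∃ r : ℕ → WittVector p R, r 0 = η ∧ ∀ k,
      r (k + 1) = (r k - ∑ γ, teichmuller p (part k γ ((r k).coeff 0))).shift 1 :=
    ⟨fun k => k.rec η fun k rk => (rk - ∑ γ, teichmuller p (part k γ (rk.coeff 0))).shift 1, rfl,
      fun _ => rfl⟩
  obtain ⟨u, hu0⟩ : ∃ u : ℕ → Γ → WittVector p R, ∀ k γ j,
      (u k γ).coeff j = part (k + j) γ ((r (k + j)).coeff 0) :=
    ⟨fun k γ => WittVector.mk p fun j => part (k + j) γ ((r (k + j)).coeff 0), fun _ _ _ => rfl⟩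
  have hr : ∀ k, verschiebung (r (k + 1)) = r k - ∑ γ, teichmuller p (part k γ ((r k).coeff 0)) := by
    intro k
    rw [hrs]
    refine verschiebung_shift_one _ ?_
    rw [← constantCoeff_apply, map_sub, map_sum]
    simp only [constantCoeff_apply, teichmuller_coeff_zero, hpart, sub_self]
  have hu : ∀ k γ, u k γ = teichmuller p (part k γ ((r k).coeff 0)) + verschiebung (u (k + 1) γ) := by
    intro k γ
    refine WittVector.ext fun j => ?_
    rw [coeff_teichmuller_add_verschiebung, hu0]
    cases j with
    | zero => rfl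
    | succ j =>
      rw [if_neg j.succ_ne_zero, Nat.add_sub_cancel, hu0, show k + (j + 1) = k + 1 + j by omega]
  have hD : ∀ k, r k - ∑ γ, u k γ = verschiebung (r (k + 1) - ∑ γ, u (k + 1) γ) := by
    intro k
    rw [map_sub, map_sum, hr, Finset.sum_congr rfl fun γ _ => hu k γ, Finset.sum_add_distrib]
    abel
  have hzero : ∀ j k, (r k - ∑ γ, u k γ).coeff j = 0 := by
    intro j
    induction j with
    | zero => intro k; rw [hD, verschiebung_coeff_zero]
    | succ j ih => intro k; rw [hD, verschiebung_coeff_succ]; exact ih _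
  refine ⟨u 0, sub_eq_zero.mp (WittVector.ext fun j => ?_),
    fun γ k => ⟨(r k).coeff 0, by rw [hu0, zero_add]⟩⟩
  rw [WittVector.zero_coeff, ← hr0]
  exact hzero j 0

end basics

theorem exists_teichmuller_mul_mem_span (ℓ n : ℕ) (hℓ : 0 < ℓ) (hpℓ : ¬ p ∣ ℓ)
    (A B : Type u) [CommRing A] [CommRing B] [IsDomain B] [Algebra A B]
    [CharP A p] [CharP B p] (hinj : Function.Injective (algebraMap A B))
    (y : Finset B) (hspan : Submodule.span A (y : Set B) = ⊤)
    (hpow : ∀ b ∈ y, b ^ ℓ ∈ Set.range (algebraMap A B)) :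
    ∃ a : A, a ≠ 0 ∧ ∀ η : WittVector p B,
      teichmuller p (algebraMap A B a) *
          (⇑(verschiebung : WittVector p B →+ WittVector p B))^[n] η ∈
        Ideal.span (Set.range (fun x : WittVector p A =>
          WittVector.map (algebraMap A B)
            ((⇑(verschiebung : WittVector p A →+ WittVector p A))^[n] x))) := by
  classical
  haveI : NeZero ℓ := ⟨hℓ.ne'⟩
  let s := y.filter (· ≠ 0)
  have hα : ∀ i : s, ∃ α : A, algebraMap A B α = (i : B) ^ ℓ := fun i =>
    hpow _ (Finset.mem_filter.mp i.2).1
  choose α hα using hα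
  have hα0 : ∀ i, α i ≠ 0 := fun i h => (Finset.mem_filter.mp i.2).2
    (pow_eq_zero_iff hℓ.ne' |>.mp (by rw [← hα, h, map_zero]))
  haveI : IsDomain A := hinj.isDomain _
  let a := ∏ i, α i
  refine ⟨a, Finset.prod_ne_zero_iff.mpr fun i _ => hα0 i, fun η => ?_⟩
  let φ : MvPolynomial s A →ₐ[A] B := aeval fun i => (i : B)
  have hφ : Function.Surjective φ := by
    have h : Submodule.span A (y : Set B) ≤ LinearMap.range φ.toLinearMap := by
      refine Submodule.span_le.mpr fun b hb => ?_
      by_cases h0 : b = 0
      · exact ⟨0, by simp [h0]⟩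
      · exact ⟨X ⟨b, Finset.mem_filter.mpr ⟨hb, h0⟩⟩, by simp [φ]⟩
    rw [hspan] at h
    exact fun b => h trivial
  have hcop : p.Coprime ℓ := (Nat.Prime.coprime_iff_not_dvd Fact.out).mpr hpℓ
  let cls : ℕ → (s →₀ ℕ) → (s → ZMod ℓ) := fun k e i =>
    (e i : ZMod ℓ) * ↑((ZMod.unitOfCoprime p hcop) ^ (n + k))⁻¹
  let part : ℕ → (s → ZMod ℓ) → MvPolynomial s A → MvPolynomial s A := fun k γ f =>
    ∑ e ∈ f.support with cls k e = γ, monomial e (coeff e f)
  have hpart : ∀ k f, ∑ γ, part k γ f = f := fun k f => by
    rw [Finset.sum_fiberwise f.support (cls k), support_sum_monomial_coeff]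
  let z : (s → ZMod ℓ) → B := fun γ => ∏ i : s, (i : B) ^ (γ i).val
  have hkey : ∀ (k : ℕ) γ f, ∃ c : A,
      φ (part k γ f) * algebraMap A B a ^ p ^ (n + k) = algebraMap A B c * z γ ^ p ^ (n + k) := by
    intro k γ f
    set q := p ^ (n + k)
    have h : φ (part k γ f) * algebraMap A B a ^ q ∈
        Submodule.span A ({z γ ^ q} : Set B) := by
      simp only [part, map_sum, Finset.sum_mul]
      refine Submodule.sum_mem _ fun e he => ?_
      obtain ⟨-, he⟩ := Finset.mem_filter.mp he
      have ht : ∀ i, ∃ t, (γ i).val * q + ℓ * t = e i + ℓ * q := fun i => by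
        have hle : (γ i).val * q ≤ e i + ℓ * q :=
          le_trans (Nat.mul_le_mul_right _ (γ i).val_lt.le) (Nat.le_add_left _ _)
        have hmod : (γ i).val * q ≡ e i + ℓ * q [MOD ℓ] := by
          rw [← ZMod.natCast_eq_natCast_iff]
          have hu : (q : ZMod ℓ) = ↑((ZMod.unitOfCoprime p hcop) ^ (n + k)) := by simp [q]
          push_cast
          rw [ZMod.natCast_zmod_val, ← he, ZMod.natCast_self, zero_mul, add_zero, hu]
          simp only [cls, Units.inv_mul_cancel_right]
        obtain ⟨t, ht⟩ := (Nat.modEq_iff_dvd' hle).mp hmod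
        exact ⟨t, by omega⟩
      choose t ht using ht
      refine Submodule.mem_span_singleton.mpr ⟨coeff e f * ∏ i, α i ^ t i, ?_⟩
      rw [Algebra.smul_def, aeval_monomial, Finsupp.prod_fintype _ _ (fun i => pow_zero _), map_mul,
        map_prod, mul_assoc, mul_assoc]
      congr 1
      simp only [a, z, map_prod, map_pow, hα, ← Finset.prod_pow, ← Finset.prod_mul_distrib, ← pow_mul,
        ← pow_add]
      refine Finset.prod_congr rfl fun i _ => ?_
      rw [← ht i, add_comm]
    obtain ⟨c, hc⟩ := Submodule.mem_span_singleton.mp h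
    exact ⟨c, by rw [← hc, Algebra.smul_def]⟩
  obtain ⟨η', rfl⟩ := WittVector.map_surjective (φ : MvPolynomial s A →+* B) hφ η
  obtain ⟨u, hu, huk⟩ := exists_decomp part hpart η'
  choose r hr using huk
  choose c hc using hkey
  let w : (s → ZMod ℓ) → WittVector p A := fun γ => WittVector.mk p fun k => c k γ (r γ k)
  have hw : ∀ γ, WittVector.map (φ : MvPolynomial s A →+* B) (u γ) *
      teichmuller p (algebraMap A B a ^ p ^ n) =
      WittVector.map (algebraMap A B) (w γ) * teichmuller p (z γ ^ p ^ n) := by
    intro γ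
    refine WittVector.ext fun k => ?_
    rw [coeff_mul_teichmuller, coeff_mul_teichmuller, map_coeff, map_coeff, ← pow_mul, ← pow_mul,
      ← pow_add, hr]
    simpa [w] using hc k γ (r γ k)
  rw [mul_comm, iterate_verschiebung_mul_left, iterate_frobenius_teichmuller, hu, map_sum,
    Finset.sum_mul, iterate_verschiebung_sum]
  refine Ideal.sum_mem _ fun γ _ => ?_
  rw [hw γ, ← iterate_frobenius_teichmuller, ← iterate_verschiebung_mul_left,
    ← map_iterate_verschiebung]
  exact Ideal.mul_mem_right _ _ (Ideal.subset_span ⟨w γ, rfl⟩)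

end Groth.L02.WittKummer
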