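import Mathlib.RingTheory.WittVector.StructurePolynomial
import Mathlib.RingTheory.WittVector.Defs
import Mathlib.RingTheory.MvPolynomial.WeightedHomogeneous
import Mathlib.Algebra.Algebra.Operations

/-!
Weighted homogeneity of the Witt structure polynomials, and evaluation in a multiplicative family of
submodules.
-/

namespace Groth.L02.WittWeight

open MvPolynomial

/-- substituting homogeneous polynomials into a homogeneous one -/
lemma isWeightedHomogeneous_bind₁ {σ τ R : Type*} [CommRing R] {c : σ → ℕ} {w : τ → ℕ} {d P : ℕ}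
    {Φ : MvPolynomial σ R} (hΦ : IsWeightedHomogeneous c Φ d) {f : σ → MvPolynomial τ R}
    (hf : ∀ i, IsWeightedHomogeneous w (f i) (c i * P)) : IsWeightedHomogeneous w (bind₁ f Φ) (d * P) := by
  rw [← support_sum_monomial_coeff Φ, map_sum]
  refine IsWeightedHomogeneous.sum _ _ _ fun e he => ?_
  rw [bind₁_monomial]
  refine IsWeightedHomogeneous.C_mul ?_ _
  have hw := IsWeightedHomogeneous.prod e.support (fun i => f i ^ e i) (fun i => e i • (c i * P))
    fun i _ => (hf i).pow (e i)
  rwa [show ∑ i ∈ e.support, e i • (c i * P) = d * P by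
    rw [← hΦ (mem_support_iff.mp he), Finsupp.weight_apply, Finsupp.sum, Finset.sum_mul]
    exact Finset.sum_congr rfl fun i _ => by simp [mul_assoc]] at hw

variable {p : ℕ} [Fact p.Prime] {idx : Type*}

theorem isWeightedHomogeneous_wittStructureInt {c : idx → ℕ} {d : ℕ} {Φ : MvPolynomial idx ℤ}
    (hΦ : IsWeightedHomogeneous c Φ d) (n : ℕ) :
    IsWeightedHomogeneous (fun x : idx × ℕ => c x.1 * p ^ x.2) (wittStructureInt p Φ n) (d * p ^ n) := by
  induction n using Nat.strong_induction_on with
  | _ n ih =>
    set w := fun x : idx × ℕ => c x.1 * p ^ x.2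
    have hrhs : IsWeightedHomogeneous w (bind₁ (fun i => rename (Prod.mk i) (wittPolynomial p ℤ n)) Φ) (d * p ^ n) :=
      isWeightedHomogeneous_bind₁ hΦ fun i => by
        rw [wittPolynomial_eq_sum_C_mul_X_pow, map_sum]
        refine IsWeightedHomogeneous.sum _ _ _ fun k hk => ?_
        simp only [map_mul, map_pow, rename_C, rename_X]; rw [← map_pow]
        refine IsWeightedHomogeneous.C_mul ?_ _
        have h := (isWeightedHomogeneous_X ℤ w (i, k)).pow (p ^ (n - k))
        rwa [show p ^ (n - k) • w (i, k) = c i * p ^ n by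
          simp only [w, smul_eq_mul]
          rw [mul_left_comm, ← pow_add, Nat.sub_add_cancel (Nat.lt_succ_iff.mp (Finset.mem_range.mp hk))]] at h
    rw [← wittStructureInt_prop p Φ n, wittPolynomial_eq_sum_C_mul_X_pow, map_sum, Finset.sum_range_succ] at hrhs
    simp only [map_mul, map_pow, bind₁_C_right, bind₁_X_right, Nat.sub_self, pow_zero, pow_one] at hrhs
    have hrest : IsWeightedHomogeneous w
        (∑ i ∈ Finset.range n, C (p : ℤ) ^ i * wittStructureInt p Φ i ^ p ^ (n - i)) (d * p ^ n) := by
      refine IsWeightedHomogeneous.sum _ _ _ fun k hk => ?_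
      rw [← map_pow]
      refine IsWeightedHomogeneous.C_mul ?_ _
      have h := (ih k (Finset.mem_range.mp hk)).pow (p ^ (n - k))
      rwa [show p ^ (n - k) • (d * p ^ k) = d * p ^ n by
        rw [smul_eq_mul, mul_left_comm, ← pow_add, Nat.sub_add_cancel (Finset.mem_range.mp hk).le]] at h
    have hlast := hrhs.sub hrest
    rw [add_sub_cancel_left, ← map_pow] at hlast
    intro e he
    refine hlast ?_
    rw [coeff_C_mul]
    exact mul_ne_zero (pow_ne_zero _ (Int.natCast_ne_zero.mpr (Fact.out : p.Prime).ne_zero)) he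

/-- values of homogeneous polynomials in a multiplicative family -/
theorem aeval_mem {τ A K : Type*} [CommRing A] [CommRing K] [Algebra A K] (N : ℕ → Submodule A K)
    (h1 : (1 : K) ∈ N 0) (hmul : ∀ (i j : ℕ) (a b : K), a ∈ N i → b ∈ N j → a * b ∈ N (i + j))
    {w : τ → ℕ} (v : τ → K) (hv : ∀ t, v t ∈ N (w t)) {φ : MvPolynomial τ ℤ} {m : ℕ}
    (hφ : IsWeightedHomogeneous w φ m) : aeval v φ ∈ N m := by
  rw [← support_sum_monomial_coeff φ, map_sum]
  refine sum_mem fun e he => ?_
  rw [aeval_monomial, ← hφ (mem_support_iff.mp he), Finsupp.weight_apply]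
  have key : (e.prod fun t k => v t ^ k) ∈ N (e.sum fun t k => k • w t) := by
    rw [Finsupp.prod, Finsupp.sum]
    induction e.support using Finset.cons_induction with
    | empty => simpa using h1
    | cons t s hts ih =>
      rw [Finset.prod_cons, Finset.sum_cons]
      refine hmul _ _ _ _ ?_ ih
      induction e t with
      | zero => simpa using h1
      | succ k ihk =>
        rw [pow_succ, succ_nsmul]
        exact hmul _ _ _ _ ihk (hv t)
  rw [← Algebra.smul_def, ← Int.cast_smul_eq_zsmul A]
  exact Submodule.smul_mem _ _ key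

end Groth.L02.WittWeight
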